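import Mathlib

/-!
Generic lemmas on the conjugation action on Sylow subgroups (helper99).
-/

set_option autoImplicit false

namespace Cfsg.Agent.Lib.Helper99.SylAct

open Subgroup MulAction

universe u

variable {G : Type u} [Group G] {p : ℕ}

/-- a `p`-subgroup normalizing a Sylow `p`-subgroup lies in it -/
theorem le_sylow_of_le_normalizer {Q : Subgroup G} (hQ : IsPGroup p Q) (P : Sylow p G)
    (h : Q ≤ normalizer (P : Set G)) : Q ≤ (P : Subgroup G) := by
  have h1 := hQ.inf_normalizer_sylow P
  rw [inf_eq_left.mpr h] at h1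
  exact inf_eq_left.mp h1.symm

/-- an element of `p`-power order normalizing a Sylow `p`-subgroup lies in it -/
theorem mem_sylow_of_pow_eq_one [Fact p.Prime] (P : Sylow p G) {g : G} (k : ℕ) (hg : g ^ p ^ k = 1)
    (hN : g ∈ normalizer (P : Set G)) : g ∈ (P : Subgroup G) := by
  have hQ : IsPGroup p (zpowers g) := by
    rintro ⟨y, hy⟩
    obtain ⟨i, rfl⟩ := mem_zpowers_iff.mp hy
    refine ⟨k, Subtype.ext ?_⟩
    show (g ^ i) ^ p ^ k = 1
    rw [← zpow_natCast, ← zpow_mul, mul_comm, zpow_mul, zpow_natCast, hg, one_zpow]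
  exact le_sylow_of_le_normalizer hQ P (zpowers_le.mpr hN) (mem_zpowers g)

/-- stabilizer of a Sylow subgroup under the action of a subgroup -/
theorem stabilizer_subgroup_eq (H : Subgroup G) (P : Sylow p G) :
    stabilizer H P = (normalizer (P : Set G)).subgroupOf H := by
  ext x
  rw [mem_stabilizer_iff, mem_subgroupOf, ← Sylow.smul_eq_iff_mem_normalizer]
  rfl

/-- orbit size of a Sylow subgroup under a subgroup -/
theorem ncard_orbit_subgroup (H : Subgroup G) (P : Sylow p G) :
    (orbit H P).ncard = (normalizer (P : Set G)).relIndex H := by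
  rw [← MulAction.index_stabilizer, stabilizer_subgroup_eq]
  rfl

/-- number of Sylow subgroups of a subgroup containing a Sylow subgroup of `G` -/
theorem card_sylow_subgroup [Fact p.Prime] [Finite G] (H : Subgroup G) (P : Sylow p G)
    (hP : (P : Subgroup G) ≤ H) :
    Nat.card (Sylow p H) = (normalizer (P : Set G)).relIndex H := by
  have h1 := Sylow.card_eq_index_normalizer (P.subtype hP)
  have h2 : normalizer ((P.subtype hP : Sylow p H) : Set H) =
      (normalizer (P : Set G)).subgroupOf H :=
    (Subgroup.subgroupOf_normalizer_eq (H := (P : Subgroup G)) (N := H) hP).symm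
  rw [h1, h2]
  rfl

/-- the number of Sylow subgroups of `H ≥ P` is the size of the `H`-orbit of `P` -/
theorem card_sylow_subgroup_eq_orbit [Fact p.Prime] [Finite G] (H : Subgroup G) (P : Sylow p G)
    (hP : (P : Subgroup G) ≤ H) :
    Nat.card (Sylow p H) = (orbit H P).ncard := by
  rw [card_sylow_subgroup H P hP, ncard_orbit_subgroup]

end Cfsg.Agent.Lib.Helper99.SylAct
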