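import Mathlib
import Cfsg.Agent.Lib.Helper99.SylAct

/-!
More generic lemmas on Sylow subgroups, normalizers and centralizers (helper99).
-/

set_option autoImplicit false
set_option linter.style.haveILetI false
set_option linter.unusedSectionVars false

namespace Cfsg.Agent.Lib.Helper99.SylAct

open Subgroup MulAction

universe u

variable {G : Type u} [Group G] [Finite G] {p : ℕ}

/-- the order of a Sylow `p`-subgroup when `p ^ k` exactly divides `|G|` -/
theorem card_sylow_eq_pow [Fact p.Prime] (S : Sylow p G) (k : ℕ) (h1 : p ^ k ∣ Nat.card G)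
    (h2 : ¬ p ^ (k + 1) ∣ Nat.card G) : Nat.card S = p ^ k := by
  have hp : p.Prime := Fact.out
  have hne : Nat.card G ≠ 0 := Nat.card_pos.ne'
  rw [S.card_eq_multiplicity]
  rw [hp.pow_dvd_iff_le_factorization hne] at h1 h2
  congr 1
  omega

/-- a subgroup `K` normalizing a cyclic subgroup `H` with `|K|` prime to `φ(|H|)`
centralizes `H` -/
theorem le_centralizer_of_coprime (H K : Subgroup G) (hH : IsCyclic H)
    (hK : K ≤ normalizer (H : Set G))
    (hcop : Nat.Coprime (Nat.card K) (Nat.totient (Nat.card H))) :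
    K ≤ centralizer (H : Set G) := by
  let f : K →* MulAut H := H.normalizerMonoidHom.comp (Subgroup.inclusion hK)
  have h1 : Nat.card f.range ∣ Nat.card K := Subgroup.card_range_dvd f
  have h2 : Nat.card f.range ∣ Nat.card (MulAut H) := Subgroup.card_subgroup_dvd_card _
  rw [hH.card_mulAut] at h2
  have h3 : Nat.card f.range = 1 := Nat.eq_one_of_dvd_coprimes hcop h1 h2
  have h4 : f.range = ⊥ := Subgroup.eq_bot_of_card_eq _ h3
  intro k hk h hh
  have h5 : f ⟨k, hk⟩ = 1 := by
    have : f ⟨k, hk⟩ ∈ f.range := ⟨_, rfl⟩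
    rwa [h4, mem_bot] at this
  have h6 := congrArg (fun φ : MulAut H => ((φ ⟨h, hh⟩ : H) : G)) h5
  have h7 : k * h * k⁻¹ = h := h6
  calc h * k = (k * h * k⁻¹) * k := by rw [h7]
    _ = k * h := by group

/-- `N(H) ≤ C(H)` for a cyclic subgroup `H` with `|N(H)|` prime to `φ(|H|)` -/
theorem normalizer_le_centralizer_of_coprime (H : Subgroup G) (hH : IsCyclic H)
    (hcop : Nat.Coprime (Nat.card (normalizer (H : Set G))) (Nat.totient (Nat.card H))) :
    normalizer (H : Set G) ≤ centralizer (H : Set G) :=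
  le_centralizer_of_coprime H _ hH le_rfl hcop

/-- Burnside's transfer theorem in a group without proper nontrivial normal subgroups -/
theorem burnside_of_simple (hsimple : ∀ M : Subgroup G, M.Normal → M = ⊥ ∨ M = ⊤)
    [Fact p.Prime] (S : Sylow p G)
    (hS : normalizer (S : Set G) ≤ centralizer (S : Set G)) :
    (S : Subgroup G) = ⊥ ∨ (S : Subgroup G) = ⊤ := by
  have hc := MonoidHom.ker_transferSylow_isComplement' S hS
  rcases hsimple _ (MonoidHom.normal_ker (MonoidHom.transferSylow S hS)) with h | h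
  · right
    rw [h] at hc
    exact Subgroup.isComplement'_bot_left.mp hc
  · left
    rw [h] at hc
    exact Subgroup.isComplement'_top_left.mp hc

/-- for a normal subgroup `M`, the relative index `|M : M ∩ N|` divides `|G : N|` -/
theorem relIndex_dvd_index_of_normal_right (N M : Subgroup G) [M.Normal] :
    N.relIndex M ∣ N.index := by
  have e1 : (⊥ : Subgroup G).relIndex M * M.relIndex (N ⊔ M) = (⊥ : Subgroup G).relIndex (N ⊔ M) :=
    Subgroup.relIndex_mul_relIndex _ _ _ bot_le le_sup_right
  have e2 : (⊥ : Subgroup G).relIndex N * N.relIndex (N ⊔ M) = (⊥ : Subgroup G).relIndex (N ⊔ M) :=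
    Subgroup.relIndex_mul_relIndex _ _ _ bot_le le_sup_left
  have e3 : (⊥ : Subgroup G).relIndex (M ⊓ N) * (M ⊓ N).relIndex M = (⊥ : Subgroup G).relIndex M :=
    Subgroup.relIndex_mul_relIndex _ _ _ bot_le inf_le_left
  have e4 : (⊥ : Subgroup G).relIndex (M ⊓ N) * (M ⊓ N).relIndex N = (⊥ : Subgroup G).relIndex N :=
    Subgroup.relIndex_mul_relIndex _ _ _ bot_le inf_le_right
  rw [Subgroup.inf_relIndex_left] at e3
  rw [Subgroup.inf_relIndex_right] at e4
  rw [Subgroup.relIndex_sup_right] at e1
  have hpos1 : 0 < (⊥ : Subgroup G).relIndex (M ⊓ N) := by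
    rw [Subgroup.relIndex_bot_left]; exact Nat.card_pos
  have hpos2 : 0 < M.relIndex N := by
    rcases Nat.eq_zero_or_pos (M.relIndex N) with h | h
    · exfalso
      rw [h, mul_zero] at e4
      rw [Subgroup.relIndex_bot_left] at e4
      exact (Nat.card_pos (α := N)).ne' e4.symm
    · exact h
  have key : N.relIndex M = N.relIndex (N ⊔ M) := by
    have h1 : (⊥ : Subgroup G).relIndex (M ⊓ N) * M.relIndex N * N.relIndex M =
        (⊥ : Subgroup G).relIndex (M ⊓ N) * M.relIndex N * N.relIndex (N ⊔ M) := by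
      calc (⊥ : Subgroup G).relIndex (M ⊓ N) * M.relIndex N * N.relIndex M
          = ((⊥ : Subgroup G).relIndex (M ⊓ N) * N.relIndex M) * M.relIndex N := by ring
        _ = (⊥ : Subgroup G).relIndex (N ⊔ M) := by rw [e3, e1]
        _ = (⊥ : Subgroup G).relIndex (M ⊓ N) * M.relIndex N * N.relIndex (N ⊔ M) := by
            rw [e4, e2]
    exact Nat.eq_of_mul_eq_mul_left (Nat.mul_pos hpos1 hpos2) h1
  rw [key]
  exact Subgroup.relIndex_dvd_index_of_le le_sup_left

/-- a proper subgroup has smaller order -/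
theorem card_lt_of_ne_top (M : Subgroup G) (hM : M ≠ ⊤) : Nat.card M < Nat.card G := by
  rcases Nat.lt_or_ge (Nat.card M) (Nat.card G) with h | h
  · exact h
  · exact absurd (Subgroup.eq_top_of_card_eq M (le_antisymm (Subgroup.card_le_card_group M) h)) hM

end Cfsg.Agent.Lib.Helper99.SylAct
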