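import Mathlib

/-!
A ring isomorphism `R ≃+* S` induces isomorphisms `SL n R ≃* SL n S` and `PSL n R ≃* PSL n S`;
finite fields of the same cardinality have isomorphic `PSL n` (helper99).
-/

set_option autoImplicit false

namespace Cfsg.Agent.Lib.Helper99.PSLCongr

open Matrix

variable {n : Type*} [DecidableEq n] [Fintype n] {R S : Type*} [CommRing R] [CommRing S]

/-- a ring isomorphism induces an isomorphism of special linear groups -/
def slCongr (e : R ≃+* S) : SpecialLinearGroup n R ≃* SpecialLinearGroup n S where
  toFun := SpecialLinearGroup.map (e : R →+* S)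
  invFun := SpecialLinearGroup.map (e.symm : S →+* R)
  left_inv := by
    intro A
    ext i j
    simp
  right_inv := by
    intro A
    ext i j
    simp
  map_mul' := map_mul _

/-- a group isomorphism maps the centre onto the centre -/
theorem map_center_eq {A B : Type*} [Group A] [Group B] (e : A ≃* B) :
    (Subgroup.center A).map (e : A →* B) = Subgroup.center B := by
  ext x
  constructor
  · rintro ⟨y, hy, rfl⟩
    have hy : y ∈ Subgroup.center A := hy
    rw [Subgroup.mem_center_iff] at hy ⊢
    intro g
    have := hy (e.symm g)
    have h2 := congrArg e this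
    simpa using h2
  · intro hx
    refine ⟨e.symm x, ?_, by simp⟩
    show e.symm x ∈ Subgroup.center A
    rw [Subgroup.mem_center_iff] at hx ⊢
    intro g
    have := hx (e g)
    have h2 := congrArg e.symm this
    simpa using h2

/-- a ring isomorphism induces an isomorphism of projective special linear groups -/
def pslCongr (e : R ≃+* S) :
    ProjectiveSpecialLinearGroup n R ≃* ProjectiveSpecialLinearGroup n S :=
  QuotientGroup.congr _ _ (slCongr e) (map_center_eq (slCongr e))

/-- finite fields of the same cardinality have isomorphic `PSL n` -/
theorem nonempty_pslCongr_of_card_eq {K K' : Type*} [Field K] [Fintype K] [Field K'] [Fintype K']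
    (h : Fintype.card K = Fintype.card K') :
    Nonempty (ProjectiveSpecialLinearGroup n K ≃* ProjectiveSpecialLinearGroup n K') :=
  ⟨pslCongr (FiniteField.ringEquivOfCardEq h)⟩

end Cfsg.Agent.Lib.Helper99.PSLCongr
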