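import Mathlib
import Cfsg.Agent.Lib.Helper17.Sylow
import Cfsg.Agent.Lib.Helper17.Sylow2
import Cfsg.Agent.Lib.Helper17.Count
import Cfsg.Agent.Lib.Helper17.Count2
import Cfsg.Agent.Lib.Helper17.Classes
import Cfsg.Agent.Lib.Helper17.Embed
import Cfsg.Agent.Lib.Helper17.CentFix
import Cfsg.Agent.Lib.Helper17.Commuting

/-!
A simple group of order 504, part 1 (helper99): Sylow 7-subgroups, index bounds, and a
transfer lemma for abelian Sylow subgroups of simple groups.
-/

set_option autoImplicit false
set_option linter.unusedSectionVars false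

namespace Cfsg.Agent.Lib.Helper99.G504

open Subgroup MulAction
open Cfsg.Agent.Lib.Helper17.Sylow Cfsg.Agent.Lib.Helper17.Sylow2 Cfsg.Agent.Lib.Helper17.Count
open Cfsg.Agent.Lib.Helper17.Count2 Cfsg.Agent.Lib.Helper17.Commuting
open Cfsg.Agent.Lib.Helper17.CentFix Cfsg.Agent.Lib.Helper17.Embed
open Cfsg.Agent.Lib.Helper17.Classes

variable {G : Type*} [Group G] [Finite G] [IsSimpleGroup G]

instance fact2 : Fact (Nat.Prime 2) := ⟨by norm_num⟩
instance fact3 : Fact (Nat.Prime 3) := ⟨by norm_num⟩
instance fact7 : Fact (Nat.Prime 7) := ⟨by norm_num⟩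

theorem not_comm (h : Nat.card G = 504) : ¬ IsMulCommutative G :=
  not_comm_of_not_prime (by rw [h]; norm_num)

theorem card_P7 (h : Nat.card G = 504) (P : Sylow 7 G) : Nat.card (P : Subgroup G) = 7 := by
  simpa using card_sylow_subgroup (k := 1) (m := 72) (h.trans (by norm_num)) (by norm_num) P

theorem card_P3 (h : Nat.card G = 504) (P : Sylow 3 G) : Nat.card (P : Subgroup G) = 9 := by
  simpa using card_sylow_subgroup (k := 2) (m := 56) (h.trans (by norm_num)) (by norm_num) P

theorem card_P2 (h : Nat.card G = 504) (P : Sylow 2 G) : Nat.card (P : Subgroup G) = 8 := by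
  simpa using card_sylow_subgroup (k := 3) (m := 63) (h.trans (by norm_num)) (by norm_num) P

/-- an injective homomorphism into `A₇` is impossible -/
theorem no_hom_alt7 (h : Nat.card G = 504) (n : ℕ) (hn : n = 7)
    (f : G →* ↥(alternatingGroup (Fin n))) (hf : Function.Injective f) : False := by
  subst hn
  have hA : IsSimpleGroup ↥(alternatingGroup (Fin 7)) := alternatingGroup.isSimpleGroup (by simp)
  have hcardA : Nat.card ↥(alternatingGroup (Fin 7)) = 2520 := by
    have h2 := two_mul_card_alternatingGroup (α := Fin 7)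
    rw [Nat.card_eq_fintype_card]
    simp only [Fintype.card_perm, Fintype.card_fin] at h2
    have : Nat.factorial 7 = 5040 := by decide
    omega
  have hAnc : ¬ IsMulCommutative ↥(alternatingGroup (Fin 7)) :=
    not_comm_of_not_prime (by rw [hcardA]; norm_num)
  have hR : Nat.card f.range = 504 := by
    rw [← h]
    exact (Nat.card_congr (Equiv.ofInjective f hf)).symm
  have hRtop : f.range ≠ ⊤ := by
    intro ht
    rw [ht, Subgroup.card_top, hcardA] at hR
    omega
  have h3 := two_mul_card_dvd_factorial hAnc f.range hRtop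
  have h4 := f.range.card_mul_index
  rw [hR, hcardA] at h4
  have h5 : f.range.index = 5 := by omega
  rw [h5, hcardA] at h3
  revert h3
  decide

/-- every proper subgroup has order at most `63` (index at least `8`) -/
theorem card_le_of_ne_top (h : Nat.card G = 504) (H : Subgroup G) (hH : H ≠ ⊤) :
    Nat.card H ≤ 63 := by
  have hG := not_comm h
  have h1 := two_mul_card_dvd_factorial hG H hH
  have h2 := H.card_mul_index
  rw [h] at h1 h2
  by_contra hcon
  push Not at hcon
  have hidx7 : H.index < 8 := by nlinarith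
  have h7 : H.index = 7 := by
    have key : ∀ n < 8, 2 * 504 ∣ n.factorial → n = 7 := by decide
    exact key _ hidx7 h1
  obtain ⟨f, hf⟩ := exists_injective_hom_alternating hG H hH
  exact no_hom_alt7 h _ h7 f hf

theorem card_sylow7 (h : Nat.card G = 504) : Nat.card (Sylow 7 G) = 36 := by
  have hG := not_comm h
  have hd : Nat.card (Sylow 7 G) ∣ 72 :=
    card_sylow_dvd (k := 1) (h.trans (by norm_num)) (by norm_num)
  have hm := card_sylow_mod (G := G) 7
  have h7 : 7 ∣ Nat.card G := by rw [h]; norm_num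
  have hne := card_sylow_ne_one hG h7
  have key : ∀ n ∈ Nat.divisors 72, n % 7 = 1 → n ≠ 1 → n = 8 ∨ n = 36 := by decide
  rcases key _ (Nat.mem_divisors.mpr ⟨hd, by norm_num⟩) hm hne with h8 | h36
  · exfalso
    obtain ⟨P⟩ : Nonempty (Sylow 7 G) := inferInstance
    have hP := card_P7 h P
    have hN : Nat.card (normalizer ((P : Subgroup G) : Set G)) = 63 := by
      have := card_normalizer_mul_card_sylow P
      rw [h8, h] at this
      omega
    obtain ⟨r, hr1, hr2, hr3, hr4⟩ := sylow_prime_centralizer hG P hP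
    rw [hN] at hr3
    have hC3 : 3 ∣ Nat.card (centralizer ((P : Subgroup G) : Set G)) := by
      have key2 : ∀ c ∈ Nat.divisors 63, ∀ r ∈ Nat.divisors 6, r ≠ 1 → c * r = 63 → 3 ∣ c := by
        decide
      exact key2 _ (Nat.mem_divisors.mpr ⟨Dvd.intro _ hr3, by norm_num⟩) r
        (Nat.mem_divisors.mpr ⟨hr2, by norm_num⟩) hr1 hr3
    obtain ⟨x, hxC, hx⟩ := exists_mem_orderOf_eq_prime _ 3 hC3
    have hx3 : x ^ 3 ^ 1 = 1 := by rw [pow_one, ← hx]; exact pow_orderOf_eq_one x
    have hx1 : x ≠ 1 := by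
      rintro rfl
      rw [orderOf_one] at hx
      omega
    have hNtop : normalizer ((P : Subgroup G) : Set G) ≠ ⊤ := normalizer_sylow_ne_top hG h7 P
    have hf7 := card_fixedBy_mod_of_mem_centralizer P hP x hxC
    have hf3 := card_modEq_card_fixedBy (X := G ⧸ normalizer ((P : Subgroup G) : Set G)) x hx3
    have hlt := card_fixedBy_lt_index _ hNtop x hx1
    have hX : Nat.card (G ⧸ normalizer ((P : Subgroup G) : Set G)) = 8 := by
      rw [← h8, P.card_eq_index_normalizer]; rfl
    have hidx : (normalizer ((P : Subgroup G) : Set G)).index = 8 := hX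
    rw [hX] at hf3
    rw [hidx] at hlt
    unfold Nat.ModEq at hf3
    omega
  · exact h36

theorem card_N7 (h : Nat.card G = 504) (P : Sylow 7 G) :
    Nat.card (normalizer ((P : Subgroup G) : Set G)) = 14 := by
  have := card_normalizer_mul_card_sylow P
  rw [card_sylow7 h, h] at this
  omega

theorem card_C7 (h : Nat.card G = 504) (P : Sylow 7 G) :
    Nat.card (centralizer ((P : Subgroup G) : Set G)) = 7 := by
  obtain ⟨r, hr1, hr2, hr3, hr4⟩ := sylow_prime_centralizer (not_comm h) P (card_P7 h P)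
  rw [card_N7 h P] at hr3
  have key : ∀ c ∈ Nat.divisors 14, ∀ r ∈ Nat.divisors 6, r ≠ 1 → c * r = 14 → 7 ∣ c →
      c = 7 := by decide
  exact key _ (Nat.mem_divisors.mpr ⟨Dvd.intro _ hr3, by norm_num⟩) r
    (Nat.mem_divisors.mpr ⟨hr2, by norm_num⟩) hr1 hr3 hr4

theorem card_sylow3 (h : Nat.card G = 504) : Nat.card (Sylow 3 G) = 28 := by
  have hG := not_comm h
  obtain ⟨P⟩ : Nonempty (Sylow 3 G) := inferInstance
  have h3 : 3 ∣ Nat.card G := by rw [h]; norm_num
  have hNtop := normalizer_sylow_ne_top hG h3 P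
  have hle := card_le_of_ne_top h _ hNtop
  have hmul := card_normalizer_mul_card_sylow P
  rw [h] at hmul
  have hd : Nat.card (Sylow 3 G) ∣ 56 :=
    card_sylow_dvd (k := 2) (h.trans (by norm_num)) (by norm_num)
  have hm := card_sylow_mod (G := G) 3
  have h8 : 8 ≤ Nat.card (Sylow 3 G) := by
    by_contra hcon
    push Not at hcon
    nlinarith
  have key : ∀ n ∈ Nat.divisors 56, n % 3 = 1 → 8 ≤ n → n = 28 := by decide
  exact key _ (Nat.mem_divisors.mpr ⟨hd, by norm_num⟩) hm h8

theorem card_N3 (h : Nat.card G = 504) (P : Sylow 3 G) :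
    Nat.card (normalizer ((P : Subgroup G) : Set G)) = 18 := by
  have := card_normalizer_mul_card_sylow P
  rw [card_sylow3 h, h] at this
  omega

open scoped IsMulCommutative in
/-- Transfer: in a non-commutative simple group, an element of an abelian Sylow subgroup `P`
that is centralized by `N(P)` is trivial. -/
theorem eq_one_of_normalizer_le_centralizer (hG : ¬ IsMulCommutative G) {p : ℕ} [Fact p.Prime]
    (P : Sylow p G) (hPc : IsMulCommutative (P : Subgroup G)) (u : G)
    (hu : u ∈ (P : Subgroup G))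
    (hN : normalizer ((P : Subgroup G) : Set G) ≤ centralizer ({u} : Set G)) : u = 1 := by
  have hp : p.Prime := Fact.out
  have key : ∀ (k : ℕ) (g₀ : G), g₀⁻¹ * u ^ k * g₀ ∈ (P : Subgroup G) →
      g₀⁻¹ * u ^ k * g₀ = u ^ k := by
    intro k g₀ hk
    obtain ⟨n, hn, hn2⟩ := P.conj_eq_normalizer_conj_of_mem (u ^ k) g₀ (pow_mem hu k) hk
    rw [hn2]
    have hc : u * n = n * u := (mem_centralizer_iff.mp (hN hn)) u rfl
    have hc2 : Commute (u ^ k) n := (show Commute u n from hc).pow_left k
    rw [mul_assoc, hc2.eq, ← mul_assoc, inv_mul_cancel, one_mul]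
  have h1 := MonoidHom.transfer_eq_pow (MonoidHom.id (P : Subgroup G)) u key
  have h2 : MonoidHom.transfer (MonoidHom.id (P : Subgroup G)) u = 1 :=
    hom_eq_one_of_simple hG _ u
  rw [h2] at h1
  have h3 : u ^ (P : Subgroup G).index = 1 := by
    have := congrArg Subtype.val h1
    simpa using this.symm
  have h4 : orderOf u ∣ (P : Subgroup G).index := orderOf_dvd_of_pow_eq_one h3
  have h5 : orderOf u ∣ Nat.card (P : Subgroup G) := orderOf_dvd_card_of_mem hu
  obtain ⟨n, hn⟩ := IsPGroup.iff_card.mp P.isPGroup'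
  rw [hn] at h5
  obtain ⟨j, -, hj⟩ := (Nat.dvd_prime_pow hp).mp h5
  rcases Nat.eq_zero_or_pos j with h0 | hpos
  · rw [h0, pow_zero] at hj
    exact orderOf_eq_one_iff.mp hj
  · exfalso
    apply P.not_dvd_index
    exact (dvd_pow_self p hpos.ne').trans (hj ▸ h4)

end Cfsg.Agent.Lib.Helper99.G504
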