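import Mathlib
import Cfsg.Agent.Lib.Helper99.G504a

/-!
Recognition of `PSL(2,p)` among simple groups of order `p(p+1)(p-1)/2` with `p+1` Sylow
`p`-subgroups (helper99).  Part A: the reference permutation group `K0 p` on the projective line
`Option (ZMod p)` and the notion of a "representation" `Rep p G` of an abstract group on the
projective line in which a generator of a Sylow `p`-subgroup acts as `x ↦ x + 1`.
-/

set_option autoImplicit false

namespace Cfsg.Agent.Lib.Helper99.PSL2p

open Subgroup

variable (p : ℕ) [Fact p.Prime]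

/-- `x ↦ x + 1` on the projective line -/
def shift : Equiv.Perm (Option (ZMod p)) := Equiv.optionCongr (Equiv.addRight (1 : ZMod p))

/-- `x ↦ s x` on the projective line -/
def mulPerm (s : (ZMod p)ˣ) : Equiv.Perm (Option (ZMod p)) := Equiv.optionCongr (Units.mulLeft s)

/-- `x ↦ -1/x` on the projective line, as a function -/
def tauFun : Option (ZMod p) → Option (ZMod p)
  | none => some 0
  | some x => if x = 0 then none else some (-x⁻¹)

theorem tauFun_invol : Function.Involutive (tauFun p) := by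
  intro x
  cases x with
  | none => simp [tauFun]
  | some x =>
    by_cases hx : x = 0
    · simp [tauFun, hx]
    · simp [tauFun, hx]

/-- `x ↦ -1/x` on the projective line -/
def tau : Equiv.Perm (Option (ZMod p)) := (tauFun_invol p).toPerm

/-- the reference group: generated by `x ↦ x + 1`, `x ↦ -1/x` and `x ↦ s x` for `s` with
`s ^ ((p-1)/2) = 1` -/
def K0 : Subgroup (Equiv.Perm (Option (ZMod p))) :=
  Subgroup.closure ({shift p, tau p} ∪
    {σ | ∃ s : (ZMod p)ˣ, (s : ZMod p) ^ ((p - 1) / 2) = 1 ∧ σ = mulPerm p s})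

@[simp] theorem shift_some (i : ZMod p) : shift p (some i) = some (i + 1) := by
  simp [shift]

@[simp] theorem shift_none : shift p none = none := by
  simp [shift]

@[simp] theorem mulPerm_some (s : (ZMod p)ˣ) (i : ZMod p) :
    mulPerm p s (some i) = some ((s : ZMod p) * i) := by
  simp [mulPerm]

@[simp] theorem mulPerm_none (s : (ZMod p)ˣ) : mulPerm p s none = none := by
  simp [mulPerm]

theorem tau_none : tau p none = some 0 := rfl

theorem tau_zero : tau p (some 0) = none := by
  show tauFun p (some 0) = none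
  simp [tauFun]

theorem tau_some (i : ZMod p) (hi : i ≠ 0) : tau p (some i) = some (-i⁻¹) := by
  show tauFun p (some i) = some (-i⁻¹)
  simp [tauFun, hi]

/-- A representation of `G` on the projective line over `ZMod p`: injective, a fixed element `c`
acts as `x ↦ x + 1`, the stabilizer of `∞` normalizes `⟨c⟩`, and the action is transitive. -/
structure Rep (G : Type*) [Group G] where
  /-- the action -/
  π : G →* Equiv.Perm (Option (ZMod p))
  inj : Function.Injective π
  /-- the element acting as `x ↦ x + 1` -/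
  c : G
  hc : π c = shift p
  norm : ∀ g : G, π g none = none → ∃ k : ℕ, g * c * g⁻¹ = c ^ k
  trans : ∀ x : Option (ZMod p), ∃ g : G, π g none = x

variable {p} {G : Type*} [Group G] (R : Rep p G)

namespace Rep

theorem pi_mul (g h : G) (x : Option (ZMod p)) : R.π (g * h) x = R.π g (R.π h x) := by
  rw [map_mul]
  rfl

theorem pi_one (x : Option (ZMod p)) : R.π 1 x = x := by
  rw [map_one]
  rfl

theorem pi_inv_apply (g : G) (x : Option (ZMod p)) : R.π g⁻¹ (R.π g x) = x := by
  rw [← pi_mul, inv_mul_cancel, pi_one]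

theorem pi_apply_inv (g : G) (x : Option (ZMod p)) : R.π g (R.π g⁻¹ x) = x := by
  rw [← pi_mul, mul_inv_cancel, pi_one]

theorem pi_inv_eq {g : G} {x y : Option (ZMod p)} (h : R.π g x = y) : R.π g⁻¹ y = x := by
  rw [← h, pi_inv_apply]

theorem pi_c_pow_some (n : ℕ) (i : ZMod p) : R.π (R.c ^ n) (some i) = some (i + n) := by
  induction n with
  | zero => simp
  | succ n ih =>
    rw [pow_succ', pi_mul, ih, R.hc, shift_some]
    congr 1
    push_cast
    ring

theorem pi_c_pow_none (n : ℕ) : R.π (R.c ^ n) none = none := by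
  induction n with
  | zero => simp
  | succ n ih => rw [pow_succ', pi_mul, ih, R.hc, shift_none]

/-- `c ^ i.val` moves `0` to `i` -/
theorem pi_c_val (i : ZMod p) : R.π (R.c ^ i.val) (some 0) = some i := by
  rw [pi_c_pow_some, zero_add, ZMod.natCast_zmod_val]

/-- elements fixing `∞` and `0` -/
def H0 : Subgroup G where
  carrier := {g | R.π g none = none ∧ R.π g (some 0) = some 0}
  one_mem' := ⟨R.pi_one _, R.pi_one _⟩
  mul_mem' := by
    rintro a b ⟨ha1, ha2⟩ ⟨hb1, hb2⟩
    exact ⟨by rw [pi_mul, hb1, ha1], by rw [pi_mul, hb2, ha2]⟩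
  inv_mem' := by
    rintro a ⟨ha1, ha2⟩
    exact ⟨R.pi_inv_eq ha1, R.pi_inv_eq ha2⟩

theorem mem_H0 {g : G} : g ∈ R.H0 ↔ R.π g none = none ∧ R.π g (some 0) = some 0 := Iff.rfl

/-- the multiplier of an element: the image of `1` -/
def mval (g : G) : ZMod p := (R.π g (some 1)).getD 0

/-- elements of `H0` act as multiplications -/
theorem pi_H0 {h : G} (hh : h ∈ R.H0) (i : ZMod p) : R.π h (some i) = some (R.mval h * i) := by
  obtain ⟨k, hk⟩ := R.norm h hh.1
  have key : ∀ j : ZMod p, R.π h (some j) = some ((k : ZMod p) * j) := by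
    intro j
    have e1 : h * R.c ^ j.val = R.c ^ (k * j.val) * h := by
      have := conj_pow (i := j.val) (a := h) (b := R.c)
      rw [hk, ← pow_mul] at this
      rw [this]
      group
    calc R.π h (some j) = R.π h (R.π (R.c ^ j.val) (some 0)) := by rw [R.pi_c_val]
      _ = R.π (h * R.c ^ j.val) (some 0) := by rw [pi_mul]
      _ = R.π (R.c ^ (k * j.val)) (R.π h (some 0)) := by rw [e1, pi_mul]
      _ = some ((k : ZMod p) * j) := by
        rw [hh.2, pi_c_pow_some, zero_add]
        congr 1
        push_cast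
        rw [ZMod.natCast_zmod_val]
  have hm : R.mval h = (k : ZMod p) := by
    unfold mval
    rw [key 1, mul_one]
    rfl
  rw [hm, key i]

theorem mval_mul {h h' : G} (hh : h ∈ R.H0) (hh' : h' ∈ R.H0) :
    R.mval (h * h') = R.mval h * R.mval h' := by
  have h1 := R.pi_H0 (R.H0.mul_mem hh hh') 1
  rw [pi_mul, R.pi_H0 hh' 1, R.pi_H0 hh] at h1
  have := Option.some.inj h1
  rw [mul_one, mul_one] at this
  exact this.symm

theorem mval_one : R.mval (1 : G) = 1 := by
  unfold mval
  rw [pi_one]
  rfl

theorem mval_ne_zero {h : G} (hh : h ∈ R.H0) : R.mval h ≠ 0 := by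
  intro h0
  have h1 := R.pi_H0 hh 1
  rw [h0, zero_mul, ← hh.2] at h1
  have := (R.π h).injective h1
  have h10 : (1 : ZMod p) = 0 := Option.some.inj this
  exact one_ne_zero h10

theorem eq_one_of_mval {h : G} (hh : h ∈ R.H0) (h1 : R.mval h = 1) : h = 1 := by
  apply R.inj
  rw [map_one]
  ext x : 1
  cases x with
  | none => exact hh.1
  | some i => rw [R.pi_H0 hh, h1, one_mul]; rfl

theorem mval_inv {h : G} (hh : h ∈ R.H0) : R.mval h⁻¹ = (R.mval h)⁻¹ := by
  have h1 := R.mval_mul (R.H0.inv_mem hh) hh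
  rw [inv_mul_cancel, mval_one] at h1
  exact eq_inv_of_mul_eq_one_left h1.symm

theorem mval_pow {h : G} (hh : h ∈ R.H0) (n : ℕ) : R.mval (h ^ n) = R.mval h ^ n := by
  induction n with
  | zero => simp [mval_one]
  | succ n ih => rw [pow_succ, R.mval_mul (R.H0.pow_mem hh n) hh, ih, pow_succ]

/-- `H0` is commutative -/
theorem H0_comm {h h' : G} (hh : h ∈ R.H0) (hh' : h' ∈ R.H0) : h * h' = h' * h := by
  apply R.inj
  ext x : 1
  cases x with
  | none => rw [pi_mul, pi_mul, hh.1, hh'.1, hh.1]
  | some i => rw [pi_mul, pi_mul, R.pi_H0 hh', R.pi_H0 hh, R.pi_H0 hh, R.pi_H0 hh']; congr 1; ring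

/-- a nontrivial element of `H0` fixes only `∞` and `0` -/
theorem fix_H0 {h : G} (hh : h ∈ R.H0) (h1 : h ≠ 1) {x : Option (ZMod p)} (hx : R.π h x = x) :
    x = none ∨ x = some 0 := by
  cases x with
  | none => exact Or.inl rfl
  | some i =>
    right
    rw [R.pi_H0 hh] at hx
    have h2 : R.mval h * i = i := Option.some.inj hx
    have h3 : (R.mval h - 1) * i = 0 := by rw [sub_mul, h2, one_mul, sub_self]
    rcases mul_eq_zero.mp h3 with h4 | h4
    · exact absurd (R.eq_one_of_mval hh (sub_eq_zero.mp h4)) h1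
    · rw [h4]

/-- the order of `c` is `p` -/
theorem c_pow_eq_one_iff (n : ℕ) : R.c ^ n = 1 ↔ (n : ZMod p) = 0 := by
  constructor
  · intro h
    have := R.pi_c_pow_some n 0
    rw [h, pi_one, zero_add] at this
    exact (Option.some.inj this).symm
  · intro h
    apply R.inj
    rw [map_one]
    ext x : 1
    cases x with
    | none => exact R.pi_c_pow_none n
    | some i => rw [pi_c_pow_some, h, add_zero]; rfl

/-- two-transitivity -/
theorem two_trans {x y : Option (ZMod p)} (hxy : x ≠ y) :
    ∃ g : G, R.π g x = none ∧ R.π g y = some 0 := by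
  obtain ⟨g₁, hg₁⟩ := R.trans x
  have hx : R.π g₁⁻¹ x = none := R.pi_inv_eq hg₁
  have hy : R.π g₁⁻¹ y ≠ none := by
    intro h
    rw [← hx] at h
    exact hxy ((R.π g₁⁻¹).injective h).symm
  obtain ⟨i, hi⟩ := Option.ne_none_iff_exists'.mp hy
  refine ⟨(R.c ^ i.val)⁻¹ * g₁⁻¹, ?_, ?_⟩
  · rw [pi_mul, hx]
    exact R.pi_inv_eq (R.pi_c_pow_none _)
  · rw [pi_mul, hi]
    exact R.pi_inv_eq (R.pi_c_val i)

end Rep

end Cfsg.Agent.Lib.Helper99.PSL2p
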