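import Mathlib
import Cfsg.Agent.Lib.Helper99.PSL2pA
import Cfsg.Agent.Lib.Helper17.Classes

/-!
Recognition of `PSL(2,p)`, part B (helper99): the two-point stabilizer `H0`, involutions,
and the Burnside-transfer argument showing that an involution swapping `∞` and `0` inverts `H0`.
-/

set_option autoImplicit false
set_option linter.unusedSectionVars false

namespace Cfsg.Agent.Lib.Helper99.PSL2p

open Subgroup
open Cfsg.Agent.Lib.Helper17.Sylow2 Cfsg.Agent.Lib.Helper17.Classes
open Cfsg.Agent.Lib.Helper99.G504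

variable {p : ℕ} [Fact p.Prime] {G : Type*} [Group G] (R : Rep p G)

namespace Rep

variable [Finite G]

/-- the two-point stabilizer has order `d` when the point stabilizer has order `p * d` -/
theorem card_H0 (d : ℕ) (hstab : Nat.card {g : G // R.π g none = none} = p * d) :
    Nat.card R.H0 = d := by
  have hp : p.Prime := Fact.out
  let f : ZMod p × R.H0 → {g : G // R.π g none = none} := fun a =>
    ⟨R.c ^ a.1.val * a.2.1, by rw [pi_mul, a.2.2.1, pi_c_pow_none]⟩
  have hf : Function.Bijective f := by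
    constructor
    · rintro ⟨i, h⟩ ⟨j, h'⟩ hab
      have hab' : R.c ^ i.val * h.1 = R.c ^ j.val * h'.1 := congrArg Subtype.val hab
      have h0 : R.π (R.c ^ i.val * h.1) (some 0) = R.π (R.c ^ j.val * h'.1) (some 0) := by
        rw [hab']
      rw [pi_mul, pi_mul, h.2.2, h'.2.2, pi_c_val, pi_c_val] at h0
      have hij : i = j := Option.some.inj h0
      subst hij
      have : h.1 = h'.1 := mul_left_cancel hab'
      exact Prod.ext rfl (Subtype.ext this)
    · rintro ⟨g, hg⟩
      have hy : R.π g (some 0) ≠ none := by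
        intro h
        rw [← hg] at h
        exact absurd ((R.π g).injective h) (by simp)
      obtain ⟨i, hi⟩ := Option.ne_none_iff_exists'.mp hy
      refine ⟨(i, ⟨(R.c ^ i.val)⁻¹ * g, ?_, ?_⟩), ?_⟩
      · rw [pi_mul, hg]
        exact R.pi_inv_eq (R.pi_c_pow_none _)
      · rw [pi_mul, hi]
        exact R.pi_inv_eq (R.pi_c_val i)
      · apply Subtype.ext
        show R.c ^ i.val * ((R.c ^ i.val)⁻¹ * g) = g
        group
  have hc := Nat.card_congr (Equiv.ofBijective f hf)
  rw [Nat.card_prod, hstab, Nat.card_zmod] at hc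
  exact (Nat.eq_of_mul_eq_mul_left hp.pos hc)

theorem mval_pow_card (d : ℕ) (hH : Nat.card R.H0 = d) {h : G} (hh : h ∈ R.H0) :
    R.mval h ^ d = 1 := by
  rw [← R.mval_pow hh, ← hH]
  have h1 : h ^ Nat.card R.H0 = 1 := by
    have := pow_card_eq_one' (G := R.H0) (x := ⟨h, hh⟩)
    exact congrArg Subtype.val this
  rw [h1, mval_one]

/-- every `s` with `s ^ d = 1` is the multiplier of an element of `H0` -/
theorem exists_mval_eq (d : ℕ) (hd0 : 0 < d) (hH : Nat.card R.H0 = d) (s : ZMod p)
    (hs : s ^ d = 1) : ∃ h ∈ R.H0, R.mval h = s := by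
  classical
  let f : R.H0 → {s : ZMod p // s ^ d = 1} := fun h => ⟨R.mval h.1, R.mval_pow_card d hH h.2⟩
  have hf : Function.Injective f := by
    intro a b hab
    have h1 : R.mval a.1 = R.mval b.1 := congrArg Subtype.val hab
    have h2 : R.mval (a.1 * b.1⁻¹) = 1 := by
      rw [R.mval_mul a.2 (R.H0.inv_mem b.2), R.mval_inv b.2, h1,
        mul_inv_cancel₀ (R.mval_ne_zero b.2)]
    have h3 := R.eq_one_of_mval (R.H0.mul_mem a.2 (R.H0.inv_mem b.2)) h2
    exact Subtype.ext (mul_inv_eq_one.mp h3)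
  have hcard : Nat.card {s : ZMod p // s ^ d = 1} ≤ d := by
    have h1 : Nat.card {s : ZMod p // s ^ d = 1}
        = (Polynomial.nthRoots d (1 : ZMod p)).toFinset.card := by
      rw [Nat.card_eq_fintype_card, Fintype.card_subtype]
      congr 1
      ext s
      simp [Polynomial.mem_nthRoots hd0]
    rw [h1]
    exact (Multiset.toFinset_card_le _).trans (Polynomial.card_nthRoots d 1)
  have hb := hf.bijective_of_nat_card_le (by rw [hH]; exact hcard)
  obtain ⟨h, hh⟩ := hb.2 ⟨s, hs⟩
  exact ⟨h.1, h.2, congrArg Subtype.val hh⟩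

/-- an odd-order element preserving `{∞, 0}` fixes both points -/
theorem mem_H0_of_odd {y : G} {n : ℕ} (hn : Odd n) (hy : y ^ n = 1)
    (h1 : R.π y none = none ∨ R.π y none = some 0)
    (h2 : R.π y (some 0) = none ∨ R.π y (some 0) = some 0) : y ∈ R.H0 := by
  rcases h1 with h1 | h1
  · refine ⟨h1, ?_⟩
    rcases h2 with h2 | h2
    · rw [← h1] at h2
      exact absurd ((R.π y).injective h2) (by simp)
    · exact h2
  · exfalso
    have h2' : R.π y (some 0) = none := by
      rcases h2 with h2 | h2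
      · exact h2
      · exact absurd ((R.π y).injective (h2.trans h1.symm)) (by simp)
    obtain ⟨k, rfl⟩ := hn
    have key : ∀ j : ℕ, R.π ((y * y) ^ j) (some 0) = some 0 := by
      intro j
      induction j with
      | zero => simp
      | succ j ih => rw [pow_succ, pi_mul, pi_mul, h2', h1, ih]
    have h3 : R.π (y ^ (2 * k + 1)) none = some 0 := by
      rw [pow_succ, pow_mul, pow_two, pi_mul, h1, key]
    rw [hy, pi_one] at h3
    exact absurd h3 (by simp)

/-- an element commuting with a nontrivial element of `H0` preserves `{∞, 0}` -/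
theorem preserve_of_commute {z y : G} (hz : z ∈ R.H0) (hz1 : z ≠ 1) (hc : y * z = z * y) :
    (R.π y none = none ∨ R.π y none = some 0) ∧
      (R.π y (some 0) = none ∨ R.π y (some 0) = some 0) := by
  constructor
  · apply R.fix_H0 hz hz1
    rw [← pi_mul, ← hc, pi_mul, hz.1]
  · apply R.fix_H0 hz hz1
    rw [← pi_mul, ← hc, pi_mul, hz.2]

/-- an involution has no fixed point (when `H0` has odd order) -/
theorem no_fix_of_involution (d : ℕ) (hodd : Odd d) (hH : Nat.card R.H0 = d) (hp2 : p ≠ 2)
    {s : G} (hs : orderOf s = 2) (x : Option (ZMod p)) : R.π s x ≠ x := by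
  classical
  intro hx
  have hp : p.Prime := Fact.out
  have hs2 : s * s = 1 := by
    have := pow_orderOf_eq_one s
    rwa [hs, pow_two] at this
  have hex : ∃ y, y ≠ x ∧ R.π s y = y := by
    by_contra hcon
    push Not at hcon
    have hsq : (R.π s) ^ 2 = 1 := by rw [← map_pow, pow_two, hs2, map_one]
    have h2 := Equiv.Perm.two_dvd_card_support hsq
    have hsupp : (R.π s).support = Finset.univ.erase x := by
      ext y
      simp only [Equiv.Perm.mem_support, Finset.mem_erase, Finset.mem_univ, and_true]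
      constructor
      · intro hy hyx
        rw [hyx] at hy
        exact hy hx
      · intro hy
        exact hcon y hy
    rw [hsupp, Finset.card_erase_of_mem (Finset.mem_univ _), Finset.card_univ,
      Fintype.card_option, ZMod.card] at h2
    have h3 : 2 ∣ p := by simpa using h2
    exact hp2 ((Nat.prime_dvd_prime_iff_eq Nat.prime_two hp).mp h3).symm
  obtain ⟨y, hyx, hy⟩ := hex
  obtain ⟨g, hg1, hg2⟩ := R.two_trans (Ne.symm hyx)
  have hmem : g * s * g⁻¹ ∈ R.H0 := by
    constructor
    · rw [pi_mul, pi_mul, R.pi_inv_eq hg1, hx, hg1]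
    · rw [pi_mul, pi_mul, R.pi_inv_eq hg2, hy, hg2]
  have hord : orderOf (g * s * g⁻¹) = 2 := by rw [orderOf_conj_eq, hs]
  have hdvd := orderOf_dvd_card_of_mem hmem
  rw [hord, hH] at hdvd
  exact (Nat.not_even_iff_odd.mpr hodd) (even_iff_two_dvd.mpr hdvd)

/-- there is an involution swapping `∞` and `0` -/
theorem exists_swap (d : ℕ) (hodd : Odd d) (hH : Nat.card R.H0 = d) (hp2 : p ≠ 2)
    (hev : 2 ∣ Nat.card G) :
    ∃ t : G, orderOf t = 2 ∧ R.π t none = some 0 ∧ R.π t (some 0) = none := by
  have : Fact (Nat.Prime 2) := ⟨Nat.prime_two⟩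
  obtain ⟨s, hs⟩ := exists_prime_orderOf_dvd_card' (G := G) 2 hev
  have hne := R.no_fix_of_involution d hodd hH hp2 hs none
  obtain ⟨i, hi⟩ := Option.ne_none_iff_exists'.mp hne
  have hord : orderOf ((R.c ^ i.val)⁻¹ * s * (R.c ^ i.val)) = 2 := by
    have := orderOf_conj_eq ((R.c ^ i.val)⁻¹) s
    rw [inv_inv] at this
    rw [this, hs]
  have h1 : R.π ((R.c ^ i.val)⁻¹ * s * (R.c ^ i.val)) none = some 0 := by
    rw [pi_mul, pi_mul, pi_c_pow_none, hi]
    exact R.pi_inv_eq (R.pi_c_val i)
  refine ⟨(R.c ^ i.val)⁻¹ * s * (R.c ^ i.val), hord, h1, ?_⟩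
  have ht2 : ((R.c ^ i.val)⁻¹ * s * (R.c ^ i.val)) * ((R.c ^ i.val)⁻¹ * s * (R.c ^ i.val)) = 1 := by
    have := pow_orderOf_eq_one ((R.c ^ i.val)⁻¹ * s * (R.c ^ i.val))
    rwa [hord, pow_two] at this
  rw [← h1, ← pi_mul, ht2, pi_one]

end Rep

end Cfsg.Agent.Lib.Helper99.PSL2p
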