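import Mathlib
import Cfsg.Agent.Lib.Helper99.PSL2pB

/-!
Recognition of `PSL(2,p)`, part C (helper99): for `d = (p-1)/2` odd, an involution swapping `∞`
and `0` inverts the two-point stabilizer (Burnside transfer), hence can be normalized to act as
`x ↦ -1/x`; the image of the representation is the reference group `K0 p`.
-/

set_option autoImplicit false
set_option linter.unusedSectionVars false

namespace Cfsg.Agent.Lib.Helper99.PSL2p

open Subgroup
open Cfsg.Agent.Lib.Helper17.Sylow2 Cfsg.Agent.Lib.Helper17.Classes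
open Cfsg.Agent.Lib.Helper99.G504

variable {p : ℕ} [Fact p.Prime] {G : Type*} [Group G] (R : Rep p G)

namespace Rep

variable [Finite G] [IsSimpleGroup G]

/-- no nontrivial element of `H0` commutes with an element swapping `∞` and `0` -/
theorem eq_one_of_commute_swap (hG : ¬ IsMulCommutative G) (d : ℕ) (hodd : Odd d)
    (hH : Nat.card R.H0 = d) {t : G} (ht1 : R.π t none = some 0) (ht2 : R.π t (some 0) = none)
    {h : G} (hh : h ∈ R.H0) (hc : t * h = h * t) : h = 1 := by
  by_contra h1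
  have ho1 : orderOf h ≠ 1 := fun h0 => h1 (orderOf_eq_one_iff.mp h0)
  have hrp : (orderOf h).minFac.Prime := Nat.minFac_prime ho1
  have hrd : (orderOf h).minFac ∣ orderOf h := Nat.minFac_dvd _
  have ho : 0 < orderOf h := orderOf_pos h
  generalize hr : (orderOf h).minFac = r at hrp hrd
  have : Fact r.Prime := ⟨hrp⟩
  have hh₁o : orderOf (h ^ (orderOf h / r)) = r := by
    rw [orderOf_pow' h (by
      intro h0
      have := Nat.div_pos (Nat.le_of_dvd ho hrd) hrp.pos
      omega), Nat.gcd_eq_right (Nat.div_dvd_of_dvd hrd), Nat.div_div_self hrd ho.ne']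
  have hh₁H : h ^ (orderOf h / r) ∈ R.H0 := R.H0.pow_mem hh _
  have hc₁ : t * h ^ (orderOf h / r) = h ^ (orderOf h / r) * t :=
    (show Commute t h from hc).pow_right _
  generalize h ^ (orderOf h / r) = h₁ at hh₁o hh₁H hc₁
  have hh₁1 : h₁ ≠ 1 := by
    intro h0
    rw [h0, orderOf_one] at hh₁o
    exact hrp.one_lt.ne hh₁o
  have hrodd : Odd r := by
    have : r ∣ d := by
      rw [← hH, ← hh₁o]
      exact orderOf_dvd_card_of_mem hh₁H
    exact hodd.of_dvd_nat this
  have hpg : IsPGroup r (zpowers h₁) := by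
    apply IsPGroup.of_card (n := 1)
    rw [Nat.card_zpowers, hh₁o, pow_one]
  obtain ⟨S, hS⟩ := hpg.exists_le_sylow
  have hh₁S : h₁ ∈ (S : Subgroup G) := hS (mem_zpowers h₁)
  have hoddS : ∀ y ∈ (S : Subgroup G), ∃ n, Odd n ∧ y ^ n = 1 := by
    intro y hy
    obtain ⟨k, hk⟩ := S.isPGroup' ⟨y, hy⟩
    exact ⟨r ^ k, hrodd.pow, congrArg Subtype.val hk⟩
  have hnt : Nontrivial (S : Subgroup G) :=
    ⟨⟨⟨h₁, hh₁S⟩, 1, fun h0 => hh₁1 (congrArg Subtype.val h0)⟩⟩
  have hcn : Nontrivial (Subgroup.center (S : Subgroup G)) := S.isPGroup'.center_nontrivial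
  obtain ⟨z', hz'⟩ := exists_ne (1 : Subgroup.center (S : Subgroup G))
  have hzS : ((z' : (S : Subgroup G)) : G) ∈ (S : Subgroup G) := (z' : (S : Subgroup G)).2
  have hz1 : ((z' : (S : Subgroup G)) : G) ≠ 1 := by
    intro h0
    apply hz'
    apply Subtype.ext
    apply Subtype.ext
    exact h0
  have hzc : ∀ y ∈ (S : Subgroup G), y * ((z' : (S : Subgroup G)) : G)
      = ((z' : (S : Subgroup G)) : G) * y := by
    intro y hy
    have := Subgroup.mem_center_iff.mp z'.2 ⟨y, hy⟩
    exact congrArg Subtype.val this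
  generalize ((z' : (S : Subgroup G)) : G) = z at hzS hz1 hzc
  have hzH : z ∈ R.H0 := by
    obtain ⟨n, hn, hzn⟩ := hoddS z hzS
    have hpre := R.preserve_of_commute hh₁H hh₁1 (hzc h₁ hh₁S).symm
    exact R.mem_H0_of_odd hn hzn hpre.1 hpre.2
  have hSH : (S : Subgroup G) ≤ R.H0 := by
    intro y hy
    obtain ⟨n, hn, hyn⟩ := hoddS y hy
    have hpre := R.preserve_of_commute hzH hz1 (hzc y hy)
    exact R.mem_H0_of_odd hn hyn hpre.1 hpre.2
  have hSc : IsMulCommutative (S : Subgroup G) :=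
    ⟨⟨fun a b => Subtype.ext (R.H0_comm (hSH a.2) (hSH b.2))⟩⟩
  have hN : normalizer ((S : Subgroup G) : Set G) ≤ centralizer ({h₁} : Set G) := by
    intro n hn
    rw [mem_centralizer_iff]
    intro w hw
    rw [Set.mem_singleton_iff] at hw
    rw [hw]
    have hnz : n * z * n⁻¹ ∈ (S : Subgroup G) := (mem_normalizer_iff.mp hn z).mp hzS
    have hnzH := hSH hnz
    have hnz1 : n * z * n⁻¹ ≠ 1 := by
      intro h0
      apply hz1
      have : z = n⁻¹ * (n * z * n⁻¹) * n := by group
      rw [this, h0]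
      group
    have hfix1 : R.π n none = none ∨ R.π n none = some 0 := by
      apply R.fix_H0 hnzH hnz1
      rw [pi_mul, pi_mul, R.pi_inv_apply, hzH.1]
    have hfix2 : R.π n (some 0) = none ∨ R.π n (some 0) = some 0 := by
      apply R.fix_H0 hnzH hnz1
      rw [pi_mul, pi_mul, R.pi_inv_apply, hzH.2]
    rcases hfix1 with hf1 | hf1
    · have hf2 : R.π n (some 0) = some 0 := by
        rcases hfix2 with hf2 | hf2
        · rw [← hf1] at hf2
          exact absurd ((R.π n).injective hf2) (by simp)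
        · exact hf2
      exact R.H0_comm hh₁H ⟨hf1, hf2⟩
    · have hf2 : R.π n (some 0) = none := by
        rcases hfix2 with hf2 | hf2
        · exact hf2
        · exact absurd ((R.π n).injective (hf2.trans hf1.symm)) (by simp)
      have hmem : t⁻¹ * n ∈ R.H0 := by
        constructor
        · rw [pi_mul, hf1]
          exact R.pi_inv_eq ht1
        · rw [pi_mul, hf2]
          exact R.pi_inv_eq ht2
      have hn' : n = t * (t⁻¹ * n) := by group
      have e1 := R.H0_comm hh₁H hmem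
      calc h₁ * n = h₁ * (t * (t⁻¹ * n)) := by rw [← hn']
        _ = (h₁ * t) * (t⁻¹ * n) := by group
        _ = (t * h₁) * (t⁻¹ * n) := by rw [hc₁]
        _ = t * (h₁ * (t⁻¹ * n)) := by group
        _ = t * ((t⁻¹ * n) * h₁) := by rw [e1]
        _ = n * h₁ := by group
  exact hh₁1 (eq_one_of_normalizer_le_centralizer hG S hSc h₁ hh₁S hN)

/-- an involution swapping `∞` and `0` inverts `H0` -/
theorem conj_swap_eq_inv (hG : ¬ IsMulCommutative G) (d : ℕ) (hodd : Odd d)
    (hH : Nat.card R.H0 = d) {t : G} (ht : orderOf t = 2) (ht1 : R.π t none = some 0)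
    (ht2 : R.π t (some 0) = none) {h : G} (hh : h ∈ R.H0) : t * h * t⁻¹ = h⁻¹ := by
  have htt : t * t = 1 := by
    have := pow_orderOf_eq_one t
    rwa [ht, pow_two] at this
  have htinv : t⁻¹ = t := inv_eq_of_mul_eq_one_left htt
  have hx' : t * h * t⁻¹ ∈ R.H0 := by
    constructor
    · rw [pi_mul, pi_mul, R.pi_inv_eq ht2, hh.2, ht2]
    · rw [pi_mul, pi_mul, R.pi_inv_eq ht1, hh.1, ht1]
  have hu : h * (t * h * t⁻¹) ∈ R.H0 := R.H0.mul_mem hh hx'
  have hcomm : h * (t * h * t⁻¹) = (t * h * t⁻¹) * h := R.H0_comm hh hx'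
  have hc : t * (h * (t * h * t⁻¹)) = h * (t * h * t⁻¹) * t := by
    calc t * (h * (t * h * t⁻¹)) = t * ((t * h * t⁻¹) * h) := by rw [hcomm]
      _ = (t * t) * h * t⁻¹ * h := by group
      _ = h * t * h := by rw [htt, one_mul, htinv]
      _ = h * (t * h * t⁻¹) * t := by group
  have h1 := R.eq_one_of_commute_swap hG d hodd hH ht1 ht2 hu hc
  exact eq_inv_of_mul_eq_one_right h1

end Rep

end Cfsg.Agent.Lib.Helper99.PSL2p
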