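import Mathlib
import Cfsg.Agent.Lib.Helper99.PSL2pC

/-!
Recognition of `PSL(2,p)`, part D (helper99): some element acts as `x ↦ -1/x`, and the image of
the representation is `K0 p`.
-/

set_option autoImplicit false
set_option linter.unusedSectionVars false

namespace Cfsg.Agent.Lib.Helper99.PSL2p

open Subgroup
open Cfsg.Agent.Lib.Helper17.Sylow2 Cfsg.Agent.Lib.Helper17.Classes
open Cfsg.Agent.Lib.Helper99.G504

variable {p : ℕ} [Fact p.Prime] {G : Type*} [Group G] (R : Rep p G)

namespace Rep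

variable [Finite G] [IsSimpleGroup G]

/-- a `d`-th root of unity or its negative -/
theorem pow_eq_one_or_neg_one (d : ℕ) (hd : p = 2 * d + 1) {a : ZMod p} (ha0 : a ≠ 0) :
    a ^ d = 1 ∨ a ^ d = -1 := by
  have h1 : a ^ (p - 1) = 1 := ZMod.pow_card_sub_one_eq_one ha0
  have h2 : (a ^ d) * (a ^ d) = 1 := by
    rw [← pow_add, show d + d = p - 1 by omega, h1]
  have h3 : (a ^ d - 1) * (a ^ d + 1) = 0 := by
    have : (a ^ d - 1) * (a ^ d + 1) = a ^ d * a ^ d - 1 := by ring
    rw [this, h2, sub_self]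
  rcases mul_eq_zero.mp h3 with h4 | h4
  · exact Or.inl (sub_eq_zero.mp h4)
  · exact Or.inr (eq_neg_of_add_eq_zero_left h4)

/-- some element of `G` acts as `x ↦ -1/x` -/
theorem exists_tau (hG : ¬ IsMulCommutative G) (d : ℕ) (hd : p = 2 * d + 1) (hodd : Odd d)
    (hH : Nat.card R.H0 = d) (hev : 2 ∣ Nat.card G) : ∃ t' : G, R.π t' = tau p := by
  have hp2 : p ≠ 2 := by omega
  have hd0 : 0 < d := hodd.pos
  obtain ⟨t, ht, ht1, ht2⟩ := R.exists_swap d hodd hH hp2 hev
  have htt : t * t = 1 := by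
    have := pow_orderOf_eq_one t
    rwa [ht, pow_two] at this
  have hf1 : ∀ i : ZMod p, i ≠ 0 → ∃ j : ZMod p, j ≠ 0 ∧ R.π t (some i) = some j := by
    intro i hi
    have hne : R.π t (some i) ≠ none := by
      intro h
      rw [← ht2] at h
      exact hi (Option.some.inj ((R.π t).injective h))
    obtain ⟨j, hj⟩ := Option.ne_none_iff_exists'.mp hne
    refine ⟨j, ?_, hj⟩
    rintro rfl
    rw [← ht1] at hj
    exact absurd ((R.π t).injective hj) (by simp)
  choose! f hf0 hf using hf1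
  have hff : ∀ i : ZMod p, i ≠ 0 → f (f i) = i := by
    intro i hi
    have h1 := hf (f i) (hf0 i hi)
    rw [← hf i hi, ← pi_mul, htt, pi_one] at h1
    exact (Option.some.inj h1).symm
  have hfm : ∀ h ∈ R.H0, ∀ i : ZMod p, i ≠ 0 → f (R.mval h * i) = (R.mval h)⁻¹ * f i := by
    intro h hh i hi
    have hmi : R.mval h * i ≠ 0 := mul_ne_zero (R.mval_ne_zero hh) hi
    have hinv := R.conj_swap_eq_inv hG d hodd hH ht ht1 ht2 hh
    have e1 : t * h = h⁻¹ * t := by
      rw [← hinv]
      group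
    have h1 : R.π (t * h) (some i) = some (f (R.mval h * i)) := by
      rw [pi_mul, R.pi_H0 hh, hf _ hmi]
    have h2 : R.π (h⁻¹ * t) (some i) = some ((R.mval h)⁻¹ * f i) := by
      rw [pi_mul, hf i hi, R.pi_H0 (R.H0.inv_mem hh), R.mval_inv hh]
    rw [e1, h2] at h1
    exact (Option.some.inj h1).symm
  have hfne : ∀ i : ZMod p, i ≠ 0 → f i ≠ i := by
    intro i hi h
    exact R.no_fix_of_involution d hodd hH hp2 ht (some i) (by rw [hf i hi, h])
  have ha0 : f 1 ≠ 0 := hf0 1 one_ne_zero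
  have had : f 1 ^ d ≠ 1 := by
    intro h1
    obtain ⟨k, hk⟩ := hodd
    have hr0 : f 1 ^ (k + 1) ≠ 0 := pow_ne_zero _ ha0
    have hrd : (f 1 ^ (k + 1)) ^ d = 1 := by
      rw [← pow_mul, mul_comm, pow_mul, h1, one_pow]
    have hr2 : f 1 ^ (k + 1) * f 1 ^ (k + 1) = f 1 := by
      rw [← pow_add, show k + 1 + (k + 1) = d + 1 by omega, pow_succ, h1, one_mul]
    obtain ⟨h, hh, hm⟩ := R.exists_mval_eq d hd0 hH _ hrd
    have h3 := hfm h hh 1 one_ne_zero
    rw [hm, mul_one] at h3
    apply hfne _ hr0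
    rw [h3]
    nth_rewrite 2 [← hr2]
    rw [← mul_assoc, inv_mul_cancel₀ hr0, one_mul]
  have had' : f 1 ^ d = -1 := by
    rcases pow_eq_one_or_neg_one d hd ha0 with h | h
    · exact absurd h had
    · exact h
  have hσd : (-f 1) ^ d = 1 := by rw [Odd.neg_pow hodd, had', neg_neg]
  have hσ0 : -f 1 ≠ 0 := neg_ne_zero.mpr ha0
  obtain ⟨hs, hhs, hms⟩ := R.exists_mval_eq d hd0 hH _ hσd
  have hf_neg1 : f (-1) = -f 1 := by
    have h1 := hff 1 one_ne_zero
    have h2 := hfm hs hhs (-1) (neg_ne_zero.mpr one_ne_zero)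
    rw [hms, mul_neg_one, neg_neg, h1] at h2
    have h3 : -f 1 * 1 = -f 1 * ((-f 1)⁻¹ * f (-1)) := by rw [← h2]
    rw [← mul_assoc, mul_inv_cancel₀ hσ0, one_mul, mul_one] at h3
    exact h3.symm
  refine ⟨t * hs, ?_⟩
  ext x : 1
  cases x with
  | none => rw [pi_mul, hhs.1, ht1, tau_none]
  | some i =>
    by_cases hi : i = 0
    · rw [hi, pi_mul, hhs.2, ht2, tau_zero]
    · rw [pi_mul, R.pi_H0 hhs, hms, hf _ (mul_ne_zero hσ0 hi), tau_some p i hi]
      congr 1
      have e1 : f (-f 1 * i) = (-f 1)⁻¹ * f i := by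
        have := hfm hs hhs i hi
        rwa [hms] at this
      rw [e1]
      rcases pow_eq_one_or_neg_one d hd hi with hq | hq
      · obtain ⟨h, hh, hm⟩ := R.exists_mval_eq d hd0 hH i hq
        have e2 := hfm h hh 1 one_ne_zero
        rw [hm, mul_one] at e2
        rw [e2]
        field_simp
      · have hq' : (-i) ^ d = 1 := by rw [Odd.neg_pow hodd, hq, neg_neg]
        obtain ⟨h, hh, hm⟩ := R.exists_mval_eq d hd0 hH (-i) hq'
        have e2 := hfm h hh (-1) (neg_ne_zero.mpr one_ne_zero)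
        rw [hm, mul_neg_one, neg_neg, hf_neg1] at e2
        rw [e2]
        field_simp

/-- the image of the representation is the reference group -/
theorem range_eq (hG : ¬ IsMulCommutative G) (d : ℕ) (hd : p = 2 * d + 1) (hodd : Odd d)
    (hstab : Nat.card {g : G // R.π g none = none} = p * d) (hev : 2 ∣ Nat.card G) :
    R.π.range = K0 p := by
  have hH := R.card_H0 d hstab
  have hd2 : (p - 1) / 2 = d := by omega
  obtain ⟨t', ht'⟩ := R.exists_tau hG d hd hodd hH hev
  -- elements of `H0` act as `mulPerm`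
  have hH0 : ∀ h ∈ R.H0, R.π h ∈ K0 p := by
    intro h hh
    have hm : R.π h = mulPerm p (Units.mk0 (R.mval h) (R.mval_ne_zero hh)) := by
      ext x : 1
      cases x with
      | none => rw [hh.1, mulPerm_none]
      | some i => rw [R.pi_H0 hh, mulPerm_some]; rfl
    apply Subgroup.subset_closure
    right
    refine ⟨Units.mk0 (R.mval h) (R.mval_ne_zero hh), ?_, hm⟩
    rw [hd2]
    exact R.mval_pow_card d hH hh
  have hc : R.π R.c ∈ K0 p := by
    apply Subgroup.subset_closure
    left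
    rw [R.hc]
    exact Set.mem_insert _ _
  have ht : R.π t' ∈ K0 p := by
    apply Subgroup.subset_closure
    left
    rw [ht']
    exact Set.mem_insert_of_mem _ rfl
  -- elements fixing `∞`
  have hstabK : ∀ g : G, R.π g none = none → R.π g ∈ K0 p := by
    intro g hg
    have hy : R.π g (some 0) ≠ none := by
      intro h
      rw [← hg] at h
      exact absurd ((R.π g).injective h) (by simp)
    obtain ⟨i, hi⟩ := Option.ne_none_iff_exists'.mp hy
    have hmem : (R.c ^ i.val)⁻¹ * g ∈ R.H0 := by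
      constructor
      · rw [pi_mul, hg]
        exact R.pi_inv_eq (R.pi_c_pow_none _)
      · rw [pi_mul, hi]
        exact R.pi_inv_eq (R.pi_c_val i)
    have hg' : g = R.c ^ i.val * ((R.c ^ i.val)⁻¹ * g) := by group
    rw [hg', map_mul, map_pow]
    exact (K0 p).mul_mem ((K0 p).pow_mem hc _) (hH0 _ hmem)
  apply le_antisymm
  · rintro _ ⟨g, rfl⟩
    by_cases hg : R.π g none = none
    · exact hstabK g hg
    · obtain ⟨i, hi⟩ := Option.ne_none_iff_exists'.mp hg
      have h1 : R.π (t'⁻¹ * (R.c ^ i.val)⁻¹ * g) none = none := by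
        rw [pi_mul, pi_mul, hi, R.pi_inv_eq (R.pi_c_val i)]
        apply R.pi_inv_eq
        rw [ht', tau_none]
      have hg' : g = R.c ^ i.val * t' * (t'⁻¹ * (R.c ^ i.val)⁻¹ * g) := by group
      rw [hg', map_mul, map_mul, map_pow]
      exact (K0 p).mul_mem ((K0 p).mul_mem ((K0 p).pow_mem hc _) ht) (hstabK _ h1)
  · unfold K0
    rw [Subgroup.closure_le]
    rintro σ (hσ | ⟨s, hs, rfl⟩)
    · rcases hσ with rfl | hσ
      · exact ⟨R.c, R.hc⟩
      · rw [Set.mem_singleton_iff] at hσ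
        rw [hσ]
        exact ⟨t', ht'⟩
    · rw [hd2] at hs
      obtain ⟨h, hh, hm⟩ := R.exists_mval_eq d hodd.pos hH (s : ZMod p) hs
      refine ⟨h, ?_⟩
      ext x : 1
      cases x with
      | none => rw [hh.1, mulPerm_none]
      | some i => rw [R.pi_H0 hh, mulPerm_some, hm]

/-- the group is isomorphic to the reference group -/
theorem nonempty_mulEquiv (hG : ¬ IsMulCommutative G) (d : ℕ) (hd : p = 2 * d + 1)
    (hodd : Odd d) (hstab : Nat.card {g : G // R.π g none = none} = p * d)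
    (hev : 2 ∣ Nat.card G) : Nonempty (G ≃* K0 p) :=
  ⟨(MonoidHom.ofInjective R.inj).trans
    (MulEquiv.subgroupCongr (R.range_eq hG d hd hodd hstab hev))⟩

end Rep

end Cfsg.Agent.Lib.Helper99.PSL2p
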