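import Mathlib
import Cfsg.Agent.Lib.Helper99.PSL2pD
import Cfsg.Agent.Lib.Helper17.Sylow
import Cfsg.Agent.Lib.Helper17.FixedPoints
import Cfsg.Agent.Lib.Helper17.Embed

/-!
Recognition of `PSL(2,p)`, part E (helper99): a simple group of order `p (p+1) d`, `p = 2d+1`,
with `p + 1` Sylow `p`-subgroups has a representation on the projective line; hence for `d` odd
it is isomorphic to the reference group `K0 p`.
-/

set_option autoImplicit false
set_option linter.unusedSectionVars false

namespace Cfsg.Agent.Lib.Helper99.PSL2p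

open Subgroup MulAction
open Cfsg.Agent.Lib.Helper17.Sylow Cfsg.Agent.Lib.Helper17.FixedPoints
open Cfsg.Agent.Lib.Helper17.Embed

variable {p : ℕ} [Fact p.Prime] {G : Type*} [Group G] [Finite G] [IsSimpleGroup G]

/-- the labelling of the cosets of the Sylow normalizer by the projective line -/
def label {X : Type*} [MulAction G X] (c : G) (xi x0 : X) : Option (ZMod p) → X
  | none => xi
  | some i => c ^ i.val • x0

theorem exists_rep (hG : ¬ IsMulCommutative G) (d : ℕ) (hd : p = 2 * d + 1)
    (hcard : Nat.card G = p * ((p + 1) * d)) (hsyl : Nat.card (Sylow p G) = p + 1) :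
    ∃ R : Rep p G, Nat.card {g : G // R.π g none = none} = p * d := by
  have hp : p.Prime := Fact.out
  have hd0 : 0 < d := by
    rcases Nat.eq_zero_or_pos d with h | h
    · subst h
      exact absurd hp (by rw [hd]; decide)
    · exact h
  obtain ⟨P⟩ : Nonempty (Sylow p G) := inferInstance
  have hm : ¬ p ∣ (p + 1) * d := by
    intro h
    rcases (Nat.Prime.dvd_mul hp).mp h with h1 | h1
    · have h2 : p ∣ 1 := (Nat.dvd_add_right (dvd_refl p)).mp h1
      exact hp.one_lt.ne' (Nat.dvd_one.mp h2)
    · have := Nat.le_of_dvd hd0 h1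
      omega
  have hpG : p ∣ Nat.card G := by rw [hcard]; exact dvd_mul_right _ _
  have hP : Nat.card (P : Subgroup G) = p := by
    have := card_sylow_subgroup (k := 1) (m := (p + 1) * d) (by rw [pow_one]; exact hcard) hm P
    rwa [pow_one] at this
  have hNcard : Nat.card (normalizer ((P : Subgroup G) : Set G)) = p * d := by
    have h1 := card_normalizer_mul_card_sylow P
    rw [hsyl, hcard] at h1
    have h2 : Nat.card (normalizer ((P : Subgroup G) : Set G)) * (p + 1) = p * d * (p + 1) := by
      rw [h1]; ring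
    exact Nat.eq_of_mul_eq_mul_right (Nat.succ_pos p) h2
  have hX : Nat.card (G ⧸ normalizer ((P : Subgroup G) : Set G)) = p + 1 := by
    rw [← hsyl, P.card_eq_index_normalizer]
    rfl
  have hNtop := normalizer_sylow_ne_top hG hpG P
  have hP1 : ∃ c ∈ (P : Subgroup G), c ≠ 1 := by
    by_contra hcon
    push Not at hcon
    have hbot : (P : Subgroup G) = ⊥ := (Subgroup.eq_bot_iff_forall _).mpr hcon
    rw [hbot, Subgroup.card_bot] at hP
    exact hp.one_lt.ne hP
  obtain ⟨c, hcP, hc1⟩ := hP1
  obtain ⟨hco, hcz⟩ := zpowers_eq_of_mem P hP c hcP hc1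
  set N := normalizer ((P : Subgroup G) : Set G) with hN
  have hPN : (P : Subgroup G) ≤ N := le_normalizer
  -- the base point
  have hfixP : ∀ u ∈ (P : Subgroup G), u • ((1 : G) : G ⧸ N) = ((1 : G) : G ⧸ N) := by
    intro u hu
    rw [coset_fixed_iff]
    simpa using hPN hu
  have hfix1 : ∀ u ∈ (P : Subgroup G), u ≠ 1 → ∀ x : G ⧸ N, u • x = x →
      x = ((1 : G) : G ⧸ N) := by
    intro u hu hu1 x hx
    have h1 := card_fixedBy_of_orderOf_eq P hP u (zpowers_eq_of_mem P hP u hu hu1).1
    rw [Nat.card_eq_one_iff_unique] at h1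
    obtain ⟨hs, -⟩ := h1
    have := hs.elim (⟨x, hx⟩ : fixedBy (G ⧸ N) u) ⟨((1 : G) : G ⧸ N), hfixP u hu⟩
    exact congrArg Subtype.val this
  have hx0 : ∃ x0 : G ⧸ N, x0 ≠ ((1 : G) : G ⧸ N) := by
    by_contra hcon
    push Not at hcon
    have hsub : Subsingleton (G ⧸ N) := ⟨fun a b => (hcon a).trans (hcon b).symm⟩
    have h1 : Nat.card (G ⧸ N) ≤ 1 := Finite.card_le_one_iff_subsingleton.mpr hsub
    have := hp.one_lt
    omega
  obtain ⟨x0, hx0⟩ := hx0
  have hcpow : ∀ n : ℕ, c ^ n ∈ (P : Subgroup G) := fun n => (P : Subgroup G).pow_mem hcP n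
  have hinj : Function.Injective (label (p := p) c ((1 : G) : G ⧸ N) x0) := by
    intro a b hab
    cases a with
    | none =>
      cases b with
      | none => rfl
      | some j =>
        exfalso
        have h1 : ((1 : G) : G ⧸ N) = c ^ j.val • x0 := hab
        have h2 : (c ^ j.val)⁻¹ • ((1 : G) : G ⧸ N) = x0 := by rw [h1, inv_smul_smul]
        rw [hfixP _ ((P : Subgroup G).inv_mem (hcpow _))] at h2
        exact hx0 h2.symm
    | some i =>
      cases b with
      | none =>
        exfalso
        have h1 : c ^ i.val • x0 = ((1 : G) : G ⧸ N) := hab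
        have h2 : (c ^ i.val)⁻¹ • ((1 : G) : G ⧸ N) = x0 := by rw [← h1, inv_smul_smul]
        rw [hfixP _ ((P : Subgroup G).inv_mem (hcpow _))] at h2
        exact hx0 h2.symm
      | some j =>
        have h1 : c ^ i.val • x0 = c ^ j.val • x0 := hab
        have h2 : ((c ^ j.val)⁻¹ * c ^ i.val) • x0 = x0 := by
          rw [mul_smul, h1, inv_smul_smul]
        have hmem : (c ^ j.val)⁻¹ * c ^ i.val ∈ (P : Subgroup G) :=
          (P : Subgroup G).mul_mem ((P : Subgroup G).inv_mem (hcpow _)) (hcpow _)
        have h3 : (c ^ j.val)⁻¹ * c ^ i.val = 1 := by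
          by_contra hne
          exact hx0 (hfix1 _ hmem hne x0 h2)
        have h4 : c ^ i.val = c ^ j.val := by
          have := congrArg (fun z => c ^ j.val * z) h3
          simpa using this
        rw [pow_eq_pow_iff_modEq, hco] at h4
        have h5 : i.val = j.val := by
          have hi := ZMod.val_lt i
          have hj := ZMod.val_lt j
          unfold Nat.ModEq at h4
          rwa [Nat.mod_eq_of_lt hi, Nat.mod_eq_of_lt hj] at h4
        rw [ZMod.val_injective p h5]
  have hcardO : Nat.card (Option (ZMod p)) = p + 1 := by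
    rw [Nat.card_eq_fintype_card, Fintype.card_option, ZMod.card]
  have hbij : Function.Bijective (label (p := p) c ((1 : G) : G ⧸ N) x0) :=
    hinj.bijective_of_nat_card_le (by rw [hX, hcardO])
  set e : Option (ZMod p) ≃ G ⧸ N := Equiv.ofBijective _ hbij with he
  have he_none : e none = ((1 : G) : G ⧸ N) := rfl
  have he_some : ∀ i : ZMod p, e (some i) = c ^ i.val • x0 := fun i => rfl
  set π : G →* Equiv.Perm (Option (ZMod p)) :=
    (e.symm.permCongrHom.toMonoidHom).comp (MulAction.toPermHom G (G ⧸ N)) with hπdef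
  have hπ : ∀ (g : G) (x : Option (ZMod p)), π g x = e.symm (g • e x) := fun g x => rfl
  have hπinj : Function.Injective π := by
    rw [hπdef]
    exact (e.symm.permCongrHom.injective).comp (toPermHom_injective_of_simple N hNtop)
  have hstab_iff : ∀ g : G, π g none = none ↔ g ∈ N := by
    intro g
    rw [hπ, he_none, Equiv.symm_apply_eq, he_none, coset_fixed_iff]
    simp
  have hπc : π c = shift p := by
    ext x : 1
    cases x with
    | none =>
      rw [shift_none]
      exact (hstab_iff c).mpr (hPN hcP)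
    | some i =>
      rw [shift_some, hπ, Equiv.symm_apply_eq, he_some, he_some, ← mul_smul, ← pow_succ']
      congr 1
      rw [pow_eq_pow_iff_modEq, hco, ← ZMod.natCast_eq_natCast_iff]
      push_cast
      rw [ZMod.natCast_zmod_val, ZMod.natCast_zmod_val]
  refine ⟨⟨π, hπinj, c, hπc, ?_, ?_⟩, ?_⟩
  · intro g hg
    have hgN : g ∈ N := (hstab_iff g).mp hg
    have h1 : g * c * g⁻¹ ∈ (P : Subgroup G) := (mem_normalizer_iff.mp hgN c).mp hcP
    rw [← hcz, ← mem_powers_iff_mem_zpowers] at h1
    obtain ⟨k, hk⟩ := h1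
    exact ⟨k, hk.symm⟩
  · intro x
    obtain ⟨g, hg⟩ := QuotientGroup.mk_surjective (e x)
    refine ⟨g, ?_⟩
    rw [hπ, he_none, Equiv.symm_apply_eq, ← hg, MulAction.Quotient.smul_mk]
    simp
  · show Nat.card {g : G // π g none = none} = p * d
    rw [← hNcard]
    exact Nat.card_congr (Equiv.subtypeEquivRight hstab_iff)

/-- the recognition theorem -/
theorem nonempty_mulEquiv_K0 (d : ℕ) (hd : p = 2 * d + 1) (hodd : Odd d)
    (hcard : Nat.card G = p * ((p + 1) * d)) (hsyl : Nat.card (Sylow p G) = p + 1) :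
    Nonempty (G ≃* K0 p) := by
  have hp : p.Prime := Fact.out
  have hd0 : 0 < d := hodd.pos
  have hG : ¬ IsMulCommutative G := by
    apply not_comm_of_not_prime
    rw [hcard]
    apply Nat.not_prime_mul hp.one_lt.ne'
    have : 1 < (p + 1) * d := by nlinarith [hp.one_lt]
    exact this.ne'
  obtain ⟨R, hR⟩ := exists_rep hG d hd hcard hsyl
  have hev : 2 ∣ Nat.card G := by
    rw [hcard, hd]
    exact ⟨(2 * d + 1) * ((d + 1) * d), by ring⟩
  exact R.nonempty_mulEquiv hG d hd hodd hR hev

/-- the number of Sylow subgroups from a divisor condition -/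
theorem card_sylow_eq_succ (d : ℕ) (hd : p = 2 * d + 1)
    (hcard : Nat.card G = p * ((p + 1) * d))
    (hdiv : ∀ n : ℕ, n ∣ (p + 1) * d → n % p = 1 → n = 1 ∨ n = p + 1) :
    Nat.card (Sylow p G) = p + 1 := by
  have hp : p.Prime := Fact.out
  have hd0 : 0 < d := by
    rcases Nat.eq_zero_or_pos d with h | h
    · subst h
      exact absurd hp (by rw [hd]; decide)
    · exact h
  have hm : ¬ p ∣ (p + 1) * d := by
    intro h
    rcases (Nat.Prime.dvd_mul hp).mp h with h1 | h1
    · have h2 : p ∣ 1 := (Nat.dvd_add_right (dvd_refl p)).mp h1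
      exact hp.one_lt.ne' (Nat.dvd_one.mp h2)
    · have := Nat.le_of_dvd hd0 h1
      omega
  have hG : ¬ IsMulCommutative G := by
    apply not_comm_of_not_prime
    rw [hcard]
    apply Nat.not_prime_mul hp.one_lt.ne'
    have : 1 < (p + 1) * d := by nlinarith [hp.one_lt]
    exact this.ne'
  have hpG : p ∣ Nat.card G := by rw [hcard]; exact dvd_mul_right _ _
  have h1 : Nat.card (Sylow p G) ∣ (p + 1) * d :=
    card_sylow_dvd (k := 1) (m := (p + 1) * d) (by rw [pow_one]; exact hcard) hm
  rcases hdiv _ h1 (card_sylow_mod p) with h | h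
  · exact absurd h (card_sylow_ne_one hG hpG)
  · exact h

end Cfsg.Agent.Lib.Helper99.PSL2p
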