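import Mathlib
import Cfsg.Agent.Lib.Helper99.PSL2pE
import Cfsg.Agent.Lib.Helper5.SL2Card

/-!
Recognition of `PSL(2,p)`, part F (helper99): a simple group of order `p (p+1) d`, `p = 2d+1`,
`d` odd, whose number of Sylow `p`-subgroups is forced to be `p + 1`, is isomorphic to
`PSL(2, F)` for every field `F` with `p` elements.
-/

set_option autoImplicit false
set_option linter.unusedSectionVars false

namespace Cfsg.Agent.Lib.Helper99.PSL2p

open Subgroup

variable {p : ℕ} [Fact p.Prime]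

/-- the order of `PSL(2,F)` for a field with `p = 2d+1` elements -/
theorem card_PSL_eq (d : ℕ) (hd : p = 2 * d + 1) {F : Type*} [Field F] [Fintype F]
    (hF : Fintype.card F = p) :
    Nat.card (Matrix.ProjectiveSpecialLinearGroup (Fin 2) F) = p * ((p + 1) * d) := by
  have h := Cfsg.Agent.Lib.Helper5.SL2Card.card_PSL_two hF
  have hg : Nat.gcd 2 (p - 1) = 2 := by
    have : p - 1 = 2 * d := by omega
    rw [this]
    exact Nat.gcd_mul_right_right d 2
  rw [hg] at h
  have h2 : p ^ 2 - 1 = (p + 1) * d * 2 := by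
    subst hd
    have : (2 * d + 1) ^ 2 = (2 * d + 1 + 1) * d * 2 + 1 := by ring
    omega
  rw [h2] at h
  have h3 : Nat.card (Matrix.ProjectiveSpecialLinearGroup (Fin 2) F) * 2
      = p * ((p + 1) * d) * 2 := by rw [h]; ring
  exact Nat.eq_of_mul_eq_mul_right (by norm_num) h3

/-- the main recognition theorem -/
theorem nonempty_mulEquiv_PSL (d : ℕ) (hd : p = 2 * d + 1) (hodd : Odd d) (hp4 : 4 ≤ p)
    (hdiv : ∀ n : ℕ, n ∣ (p + 1) * d → n % p = 1 → n = 1 ∨ n = p + 1)
    {G : Type*} [Group G] [Finite G] [IsSimpleGroup G] (hcard : Nat.card G = p * ((p + 1) * d))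
    {F : Type*} [Field F] [Fintype F] (hF : Fintype.card F = p) :
    Nonempty (G ≃* Matrix.ProjectiveSpecialLinearGroup (Fin 2) F) := by
  have hp : p.Prime := Fact.out
  have h4 : 4 ≤ Nat.card F := by rw [Nat.card_eq_fintype_card, hF]; exact hp4
  have hs : IsSimpleGroup (Matrix.ProjectiveSpecialLinearGroup (Fin 2) F) :=
    Matrix.ProjectiveSpecialLinearGroup.rank_two_simple h4
  have hc := card_PSL_eq d hd hF
  have hfin : Finite (Matrix.ProjectiveSpecialLinearGroup (Fin 2) F) := by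
    apply Nat.finite_of_card_ne_zero
    rw [hc]
    have : 0 < (p + 1) * d := Nat.mul_pos (Nat.succ_pos p) hodd.pos
    exact (Nat.mul_pos hp.pos this).ne'
  obtain ⟨e₁⟩ := nonempty_mulEquiv_K0 d hd hodd hcard (card_sylow_eq_succ d hd hcard hdiv)
  obtain ⟨e₂⟩ := nonempty_mulEquiv_K0 d hd hodd hc (card_sylow_eq_succ d hd hc hdiv)
  exact ⟨e₁.trans e₂.symm⟩

end Cfsg.Agent.Lib.Helper99.PSL2p
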