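import Mathlib

/-!
Groups acting on the projective line over a field (helper99), part A.

`FRep F G`: a faithful action of `G` on `Option F` (`none = ∞`) in which translations
`x ↦ x + y` are realized, the stabilizer of `∞` and `0` acts by scalar multiplications, and `G` is
transitive.  The reference group `K0 F d` is generated by the translations, `x ↦ -1/x` and the
multiplications by `d`-th roots of unity.
-/

set_option autoImplicit false
set_option linter.unusedSectionVars false

namespace Cfsg.Agent.Lib.Helper99.FLine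

open Subgroup

variable (F : Type*) [Field F]

/-- `x ↦ x + y` on the projective line -/
def shift (y : F) : Equiv.Perm (Option F) := Equiv.optionCongr (Equiv.addRight y)

/-- `x ↦ s x` on the projective line -/
def mulPerm (s : Fˣ) : Equiv.Perm (Option F) := Equiv.optionCongr (Units.mulLeft s)

open Classical in
/-- `x ↦ -1/x` on the projective line, as a function -/
noncomputable def tauFun : Option F → Option F
  | none => some 0
  | some x => if x = 0 then none else some (-x⁻¹)

theorem tauFun_invol : Function.Involutive (tauFun F) := by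
  intro x
  cases x with
  | none => simp [tauFun]
  | some x =>
    by_cases hx : x = 0
    · simp [tauFun, hx]
    · simp [tauFun, hx]

/-- `x ↦ -1/x` on the projective line -/
noncomputable def tau : Equiv.Perm (Option F) := (tauFun_invol F).toPerm

/-- the reference group: generated by the translations, `x ↦ -1/x` and `x ↦ s x` for `s` with
`s ^ d = 1` -/
noncomputable def K0 (d : ℕ) : Subgroup (Equiv.Perm (Option F)) :=
  Subgroup.closure ({tau F} ∪ {σ | ∃ y : F, σ = shift F y} ∪
    {σ | ∃ s : Fˣ, (s : F) ^ d = 1 ∧ σ = mulPerm F s})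

@[simp] theorem shift_some (y i : F) : shift F y (some i) = some (i + y) := by
  simp [shift]

@[simp] theorem shift_none (y : F) : shift F y none = none := by
  simp [shift]

@[simp] theorem mulPerm_some (s : Fˣ) (i : F) :
    mulPerm F s (some i) = some ((s : F) * i) := by
  simp [mulPerm]

@[simp] theorem mulPerm_none (s : Fˣ) : mulPerm F s none = none := by
  simp [mulPerm]

theorem tau_none : tau F none = some 0 := rfl

theorem tau_zero : tau F (some 0) = none := by
  show tauFun F (some 0) = none
  simp [tauFun]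

theorem tau_some (i : F) (hi : i ≠ 0) : tau F (some i) = some (-i⁻¹) := by
  show tauFun F (some i) = some (-i⁻¹)
  simp [tauFun, hi]

/-- A representation of `G` on the projective line over `F`. -/
structure FRep (G : Type*) [Group G] where
  /-- the action -/
  π : G →* Equiv.Perm (Option F)
  inj : Function.Injective π
  /-- the elements acting as translations -/
  c : F → G
  hc_none : ∀ y : F, π (c y) none = none
  hc_some : ∀ y x : F, π (c y) (some x) = some (x + y)
  lin : ∀ g : G, π g none = none → π g (some 0) = some 0 →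
    ∃ m : F, ∀ x : F, π g (some x) = some (m * x)
  trans : ∀ x : Option F, ∃ g : G, π g none = x

variable {F} {G : Type*} [Group G] (R : FRep F G)

namespace FRep

theorem pi_mul (g h : G) (x : Option F) : R.π (g * h) x = R.π g (R.π h x) := by
  rw [map_mul]
  rfl

theorem pi_one (x : Option F) : R.π 1 x = x := by
  rw [map_one]
  rfl

theorem pi_inv_apply (g : G) (x : Option F) : R.π g⁻¹ (R.π g x) = x := by
  rw [← pi_mul, inv_mul_cancel, pi_one]

theorem pi_apply_inv (g : G) (x : Option F) : R.π g (R.π g⁻¹ x) = x := by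
  rw [← pi_mul, mul_inv_cancel, pi_one]

theorem pi_inv_eq {g : G} {x y : Option F} (h : R.π g x = y) : R.π g⁻¹ y = x := by
  rw [← h, pi_inv_apply]

/-- `c i` moves `0` to `i` -/
theorem pi_c_zero (i : F) : R.π (R.c i) (some 0) = some i := by
  rw [R.hc_some, zero_add]

/-- elements fixing `∞` and `0` -/
def H0 : Subgroup G where
  carrier := {g | R.π g none = none ∧ R.π g (some 0) = some 0}
  one_mem' := ⟨R.pi_one _, R.pi_one _⟩
  mul_mem' := by
    rintro a b ⟨ha1, ha2⟩ ⟨hb1, hb2⟩
    exact ⟨by rw [pi_mul, hb1, ha1], by rw [pi_mul, hb2, ha2]⟩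
  inv_mem' := by
    rintro a ⟨ha1, ha2⟩
    exact ⟨R.pi_inv_eq ha1, R.pi_inv_eq ha2⟩

theorem mem_H0 {g : G} : g ∈ R.H0 ↔ R.π g none = none ∧ R.π g (some 0) = some 0 := Iff.rfl

/-- the multiplier of an element: the image of `1` -/
def mval (g : G) : F := (R.π g (some 1)).getD 0

/-- elements of `H0` act as multiplications -/
theorem pi_H0 {h : G} (hh : h ∈ R.H0) (i : F) : R.π h (some i) = some (R.mval h * i) := by
  obtain ⟨m, hm⟩ := R.lin h hh.1 hh.2
  have h1 : R.mval h = m := by
    unfold mval
    rw [hm 1, mul_one]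
    rfl
  rw [h1, hm i]

theorem mval_mul {h h' : G} (hh : h ∈ R.H0) (hh' : h' ∈ R.H0) :
    R.mval (h * h') = R.mval h * R.mval h' := by
  have h1 := R.pi_H0 (R.H0.mul_mem hh hh') 1
  rw [pi_mul, R.pi_H0 hh' 1, R.pi_H0 hh] at h1
  have := Option.some.inj h1
  rw [mul_one, mul_one] at this
  exact this.symm

theorem mval_one : R.mval (1 : G) = 1 := by
  unfold mval
  rw [pi_one]
  rfl

theorem mval_ne_zero {h : G} (hh : h ∈ R.H0) : R.mval h ≠ 0 := by
  intro h0
  have h1 := R.pi_H0 hh 1
  rw [h0, zero_mul, ← hh.2] at h1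
  have := (R.π h).injective h1
  have h10 : (1 : F) = 0 := Option.some.inj this
  exact one_ne_zero h10

theorem eq_one_of_mval {h : G} (hh : h ∈ R.H0) (h1 : R.mval h = 1) : h = 1 := by
  apply R.inj
  rw [map_one]
  ext x : 1
  cases x with
  | none => exact hh.1
  | some i => rw [R.pi_H0 hh, h1, one_mul]; rfl

theorem mval_inv {h : G} (hh : h ∈ R.H0) : R.mval h⁻¹ = (R.mval h)⁻¹ := by
  have h1 := R.mval_mul (R.H0.inv_mem hh) hh
  rw [inv_mul_cancel, mval_one] at h1
  exact eq_inv_of_mul_eq_one_left h1.symm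

theorem mval_pow {h : G} (hh : h ∈ R.H0) (n : ℕ) : R.mval (h ^ n) = R.mval h ^ n := by
  induction n with
  | zero => simp [mval_one]
  | succ n ih => rw [pow_succ, R.mval_mul (R.H0.pow_mem hh n) hh, ih, pow_succ]

/-- the multiplier is injective on `H0` -/
theorem mval_injOn {h h' : G} (hh : h ∈ R.H0) (hh' : h' ∈ R.H0) (he : R.mval h = R.mval h') :
    h = h' := by
  have h2 : R.mval (h * h'⁻¹) = 1 := by
    rw [R.mval_mul hh (R.H0.inv_mem hh'), R.mval_inv hh', he,
      mul_inv_cancel₀ (R.mval_ne_zero hh')]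
  have h3 := R.eq_one_of_mval (R.H0.mul_mem hh (R.H0.inv_mem hh')) h2
  exact mul_inv_eq_one.mp h3

/-- two-transitivity -/
theorem two_trans {x y : Option F} (hxy : x ≠ y) :
    ∃ g : G, R.π g x = none ∧ R.π g y = some 0 := by
  obtain ⟨g₁, hg₁⟩ := R.trans x
  have hx : R.π g₁⁻¹ x = none := R.pi_inv_eq hg₁
  have hy : R.π g₁⁻¹ y ≠ none := by
    intro h
    rw [← hx] at h
    exact hxy ((R.π g₁⁻¹).injective h).symm
  obtain ⟨i, hi⟩ := Option.ne_none_iff_exists'.mp hy
  refine ⟨(R.c i)⁻¹ * g₁⁻¹, ?_, ?_⟩
  · rw [pi_mul, hx]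
    exact R.pi_inv_eq (R.hc_none _)
  · rw [pi_mul, hi]
    exact R.pi_inv_eq (R.pi_c_zero i)

/-- an element fixing `∞` is a translation times an element of `H0` -/
theorem exists_eq_of_fix {g : G} (hg : R.π g none = none) :
    ∃ j : F, ∃ h ∈ R.H0, g = R.c j * h := by
  have hy : R.π g (some 0) ≠ none := by
    intro h
    rw [← hg] at h
    exact absurd ((R.π g).injective h) (by simp)
  obtain ⟨i, hi⟩ := Option.ne_none_iff_exists'.mp hy
  refine ⟨i, (R.c i)⁻¹ * g, ⟨?_, ?_⟩, by group⟩
  · rw [pi_mul, hg]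
    exact R.pi_inv_eq (R.hc_none _)
  · rw [pi_mul, hi]
    exact R.pi_inv_eq (R.pi_c_zero i)

section finite

variable [Finite G]

theorem mval_pow_card {h : G} (hh : h ∈ R.H0) : R.mval h ^ Nat.card R.H0 = 1 := by
  rw [← R.mval_pow hh]
  have h1 : h ^ Nat.card R.H0 = 1 := by
    have := pow_card_eq_one' (G := R.H0) (x := ⟨h, hh⟩)
    exact congrArg Subtype.val this
  rw [h1, mval_one]

/-- every `s` with `s ^ d = 1`, `d = |H0|`, is the multiplier of an element of `H0` -/
theorem exists_mval_eq [Finite F] (s : F) (hs : s ^ Nat.card R.H0 = 1) :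
    ∃ h ∈ R.H0, R.mval h = s := by
  classical
  have := Fintype.ofFinite F
  have hd0 : 0 < Nat.card R.H0 := Nat.card_pos
  let f : R.H0 → {s : F // s ^ Nat.card R.H0 = 1} := fun h => ⟨R.mval h.1, R.mval_pow_card h.2⟩
  have hf : Function.Injective f := by
    intro a b hab
    have h1 : R.mval a.1 = R.mval b.1 := congrArg Subtype.val hab
    exact Subtype.ext (R.mval_injOn a.2 b.2 h1)
  have hcard : Nat.card {s : F // s ^ Nat.card R.H0 = 1} ≤ Nat.card R.H0 := by
    have h1 : Nat.card {s : F // s ^ Nat.card R.H0 = 1}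
        = (Polynomial.nthRoots (Nat.card R.H0) (1 : F)).toFinset.card := by
      rw [Nat.card_eq_fintype_card, Fintype.card_subtype]
      congr 1
      ext s
      simp [Polynomial.mem_nthRoots hd0]
    rw [h1]
    exact (Multiset.toFinset_card_le _).trans (Polynomial.card_nthRoots _ 1)
  have hb := hf.bijective_of_nat_card_le hcard
  obtain ⟨h, hh⟩ := hb.2 ⟨s, hs⟩
  exact ⟨h.1, h.2, congrArg Subtype.val hh⟩

/-- if `H0` has even order, some element of `H0` acts as `x ↦ -x` -/
theorem exists_neg_one (hev : 2 ∣ Nat.card R.H0) :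
    ∃ z ∈ R.H0, R.mval z = -1 := by
  have : Fact (Nat.Prime 2) := ⟨Nat.prime_two⟩
  obtain ⟨z, hz⟩ := exists_prime_orderOf_dvd_card' (G := R.H0) 2 hev
  have hz2 : (z : G) * (z : G) = 1 := by
    have := pow_orderOf_eq_one z
    rw [hz, pow_two] at this
    exact congrArg Subtype.val this
  have hz1 : (z : G) ≠ 1 := by
    intro h
    have : z = 1 := Subtype.ext h
    rw [this, orderOf_one] at hz
    exact absurd hz (by norm_num)
  refine ⟨z, z.2, ?_⟩
  have h1 : R.mval (z : G) * R.mval (z : G) = 1 := by
    rw [← R.mval_mul z.2 z.2, hz2, mval_one]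
  have h3 : (R.mval (z : G) - 1) * (R.mval (z : G) + 1) = 0 := by
    have : (R.mval (z : G) - 1) * (R.mval (z : G) + 1)
        = R.mval (z : G) * R.mval (z : G) - 1 := by ring
    rw [this, h1, sub_self]
  rcases mul_eq_zero.mp h3 with h4 | h4
  · exact absurd (R.eq_one_of_mval z.2 (sub_eq_zero.mp h4)) hz1
  · exact eq_neg_of_add_eq_zero_left h4

end finite

end FRep

end Cfsg.Agent.Lib.Helper99.FLine
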