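import Mathlib
import Cfsg.Agent.Lib.Helper99.FLineB

/-!
Groups acting on the projective line over a field (helper99), part C: the image of a
representation whose two-point stabilizer has even order is the reference group `K0 F d`; the
reference group only depends on the isomorphism type of the field.
-/

set_option autoImplicit false
set_option linter.unusedSectionVars false

namespace Cfsg.Agent.Lib.Helper99.FLine

open Subgroup

variable {F : Type*} [Field F] {G : Type*} [Group G] (R : FRep F G)

namespace FRep

variable [Finite G] [Finite F]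

/-- the image of the representation is the reference group, given an element acting as
`x ↦ -1/x` -/
theorem range_eq_of_tau (t' : G) (ht' : R.π t' = tau F) :
    R.π.range = K0 F (Nat.card R.H0) := by
  have hH0 : ∀ h ∈ R.H0, R.π h ∈ K0 F (Nat.card R.H0) := by
    intro h hh
    have hm : R.π h = mulPerm F (Units.mk0 (R.mval h) (R.mval_ne_zero hh)) := by
      ext x : 1
      cases x with
      | none => rw [hh.1, mulPerm_none]
      | some i => rw [R.pi_H0 hh, mulPerm_some]; rfl
    apply Subgroup.subset_closure
    right
    exact ⟨Units.mk0 (R.mval h) (R.mval_ne_zero hh), R.mval_pow_card hh, hm⟩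
  have hc : ∀ y : F, R.π (R.c y) ∈ K0 F (Nat.card R.H0) := by
    intro y
    apply Subgroup.subset_closure
    left
    right
    refine ⟨y, ?_⟩
    ext x : 1
    cases x with
    | none => rw [R.hc_none, shift_none]
    | some i => rw [R.hc_some, shift_some]
  have ht : R.π t' ∈ K0 F (Nat.card R.H0) := by
    apply Subgroup.subset_closure
    left
    left
    rw [ht']
    rfl
  have hstabK : ∀ g : G, R.π g none = none → R.π g ∈ K0 F (Nat.card R.H0) := by
    intro g hg
    obtain ⟨j, h, hh, rfl⟩ := R.exists_eq_of_fix hg
    rw [map_mul]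
    exact (K0 F _).mul_mem (hc j) (hH0 _ hh)
  apply le_antisymm
  · rintro _ ⟨g, rfl⟩
    by_cases hg : R.π g none = none
    · exact hstabK g hg
    · obtain ⟨i, hi⟩ := Option.ne_none_iff_exists'.mp hg
      have h1 : R.π (t'⁻¹ * (R.c i)⁻¹ * g) none = none := by
        rw [pi_mul, pi_mul, hi, R.pi_inv_eq (R.pi_c_zero i)]
        apply R.pi_inv_eq
        rw [ht', tau_none]
      have hg' : g = R.c i * t' * (t'⁻¹ * (R.c i)⁻¹ * g) := by group
      rw [hg', map_mul, map_mul]
      exact (K0 F _).mul_mem ((K0 F _).mul_mem (hc i) ht) (hstabK _ h1)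
  · unfold K0
    rw [Subgroup.closure_le]
    rintro σ ((hσ | ⟨y, rfl⟩) | ⟨s, hs, rfl⟩)
    · rw [Set.mem_singleton_iff] at hσ
      rw [hσ]
      exact ⟨t', ht'⟩
    · refine ⟨R.c y, ?_⟩
      ext x : 1
      cases x with
      | none => rw [R.hc_none, shift_none]
      | some i => rw [R.hc_some, shift_some]
    · obtain ⟨h, hh, hm⟩ := R.exists_mval_eq (s : F) hs
      refine ⟨h, ?_⟩
      ext x : 1
      cases x with
      | none => rw [hh.1, mulPerm_none]
      | some i => rw [R.pi_H0 hh, mulPerm_some, hm]

/-- if the two-point stabilizer has even order (characteristic not two), the group is isomorphic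
to the reference group -/
theorem nonempty_mulEquiv_K0 (h2ne : (2 : F) ≠ 0) (hev : 2 ∣ Nat.card R.H0) :
    Nonempty (G ≃* K0 F (Nat.card R.H0)) := by
  obtain ⟨t', ht'⟩ := R.exists_tau h2ne (R.exists_neg_one hev)
  exact ⟨(MonoidHom.ofInjective R.inj).trans
    (MulEquiv.subgroupCongr (R.range_eq_of_tau t' ht'))⟩

end FRep

section transport

variable {F' : Type*} [Field F'] (σ : F ≃+* F')

/-- the bijection of projective lines induced by a field isomorphism -/
def lineEquiv : Option F ≃ Option F' := Equiv.optionCongr σ.toEquiv

theorem lineEquiv_none : lineEquiv σ none = none := rfl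

theorem lineEquiv_some (x : F) : lineEquiv σ (some x) = some (σ x) := rfl

theorem lineEquiv_symm_none : (lineEquiv σ).symm none = none := rfl

theorem lineEquiv_symm_some (x : F') : (lineEquiv σ).symm (some x) = some (σ.symm x) := rfl

theorem permCongr_tau : (lineEquiv σ).permCongr (tau F) = tau F' := by
  ext x : 1
  rw [Equiv.permCongr_apply]
  cases x with
  | none => rw [lineEquiv_symm_none, tau_none, lineEquiv_some, map_zero, tau_none]
  | some i =>
    rw [lineEquiv_symm_some]
    by_cases hi : i = 0
    · rw [hi, map_zero, tau_zero, tau_zero, lineEquiv_none]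
    · have hi' : σ.symm i ≠ 0 := by
        intro h
        apply hi
        have := congrArg σ h
        simpa using this
      rw [tau_some F _ hi', tau_some F' i hi, lineEquiv_some]
      congr 1
      rw [map_neg, map_inv₀, RingEquiv.apply_symm_apply]

theorem permCongr_shift (y : F) : (lineEquiv σ).permCongr (shift F y) = shift F' (σ y) := by
  ext x : 1
  rw [Equiv.permCongr_apply]
  cases x with
  | none => rw [lineEquiv_symm_none, shift_none, shift_none, lineEquiv_none]
  | some i =>
    rw [lineEquiv_symm_some, shift_some, shift_some, lineEquiv_some]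
    congr 1
    rw [map_add, RingEquiv.apply_symm_apply]

theorem permCongr_mulPerm (s : Fˣ) :
    (lineEquiv σ).permCongr (mulPerm F s) = mulPerm F' (Units.map σ.toMonoidHom s) := by
  ext x : 1
  rw [Equiv.permCongr_apply]
  cases x with
  | none => rw [lineEquiv_symm_none, mulPerm_none, mulPerm_none, lineEquiv_none]
  | some i =>
    rw [lineEquiv_symm_some, mulPerm_some, mulPerm_some, lineEquiv_some]
    congr 1
    rw [map_mul, RingEquiv.apply_symm_apply]
    rfl

theorem map_K0_le (d : ℕ) :
    (K0 F d).map (lineEquiv σ).permCongrHom.toMonoidHom ≤ K0 F' d := by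
  unfold K0
  rw [MonoidHom.map_closure, Subgroup.closure_le]
  rintro _ ⟨τ, ((hτ | ⟨y, rfl⟩) | ⟨s, hs, rfl⟩), rfl⟩
  · rw [Set.mem_singleton_iff] at hτ
    rw [hτ]
    apply Subgroup.subset_closure
    left
    left
    exact permCongr_tau σ
  · apply Subgroup.subset_closure
    left
    right
    exact ⟨σ y, permCongr_shift σ y⟩
  · apply Subgroup.subset_closure
    right
    refine ⟨Units.map σ.toMonoidHom s, ?_, permCongr_mulPerm σ s⟩
    have : ((Units.map σ.toMonoidHom s : F'ˣ) : F') = σ (s : F) := rfl
    rw [this, ← map_pow, hs, map_one]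

/-- the reference groups of isomorphic fields are isomorphic -/
theorem nonempty_K0_congr (σ : F ≃+* F') (d : ℕ) : Nonempty (K0 F d ≃* K0 F' d) := by
  have h1 := map_K0_le σ d
  have h2 := map_K0_le σ.symm d
  have h3 : (K0 F d).map (lineEquiv σ).permCongrHom.toMonoidHom = K0 F' d := by
    apply le_antisymm h1
    intro τ hτ
    refine ⟨(lineEquiv σ.symm).permCongrHom τ, h2 ⟨τ, hτ, rfl⟩, ?_⟩
    ext x : 1
    show (lineEquiv σ).permCongr ((lineEquiv σ.symm).permCongr τ) x = τ x
    rw [Equiv.permCongr_apply, Equiv.permCongr_apply]
    cases x with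
    | none =>
      rw [lineEquiv_symm_none, lineEquiv_symm_none]
      cases hy : τ none with
      | none => rfl
      | some j =>
        rw [lineEquiv_some, lineEquiv_some]
        congr 1
        exact σ.apply_symm_apply j
    | some i =>
      rw [lineEquiv_symm_some, lineEquiv_symm_some]
      have e : σ.symm.symm (σ.symm i) = i := σ.apply_symm_apply i
      rw [e]
      cases hy : τ (some i) with
      | none => rfl
      | some j =>
        rw [lineEquiv_some, lineEquiv_some]
        congr 1
        exact σ.apply_symm_apply j
  exact ⟨((K0 F d).equivMapOfInjective _ (lineEquiv σ).permCongrHom.injective).trans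
    (MulEquiv.subgroupCongr h3)⟩

end transport

end Cfsg.Agent.Lib.Helper99.FLine
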