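import Mathlib

/-!
A commuting irreducible family of endomorphisms of a finite abelian group generates a field
(helper99).  The group becomes a one-dimensional vector space over this field.
-/

set_option autoImplicit false
set_option linter.unusedSectionVars false

namespace Cfsg.Agent.Lib.Helper99.FieldIrr

universe u

variable {A : Type u} [AddCommGroup A]

/-- endomorphisms in the closure of a commuting irreducible family have kernel `⊥` or `⊤` -/
theorem ker_eq_bot_or_top (S : Set (AddMonoid.End A))
    (hcomm : ∀ x ∈ S, ∀ y ∈ S, x * y = y * x)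
    (hirr : ∀ B : AddSubgroup A, (∀ φ ∈ S, ∀ x ∈ B, φ x ∈ B) → B = ⊥ ∨ B = ⊤)
    (r : AddMonoid.End A) (hr : r ∈ Subring.closure S) :
    (∀ x : A, r x = 0 → x = 0) ∨ r = 0 := by
  letI : CommRing (Subring.closure S) := Subring.closureCommRingOfComm hcomm
  have hc : ∀ φ ∈ S, r * φ = φ * r := by
    intro φ hφ
    have h1 : (⟨r, hr⟩ : Subring.closure S) * ⟨φ, Subring.subset_closure hφ⟩
        = ⟨φ, Subring.subset_closure hφ⟩ * ⟨r, hr⟩ := mul_comm _ _
    exact congrArg Subtype.val h1
  let B : AddSubgroup A :=
    { carrier := {x | r x = 0}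
      zero_mem' := map_zero r
      add_mem' := by
        intro a b ha hb
        show r (a + b) = 0
        rw [map_add, ha, hb, add_zero]
      neg_mem' := by
        intro a ha
        show r (-a) = 0
        rw [map_neg, ha, neg_zero] }
  have hB : ∀ φ ∈ S, ∀ x ∈ B, φ x ∈ B := by
    intro φ hφ x hx
    show r (φ x) = 0
    have h1 : r (φ x) = (r * φ) x := rfl
    have h2 : (φ * r) x = φ (r x) := rfl
    have hx' : r x = 0 := hx
    rw [h1, hc φ hφ, h2, hx', map_zero]
  rcases hirr B hB with h | h
  · left
    intro x hx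
    have : x ∈ B := hx
    rw [h] at this
    exact (AddSubgroup.mem_bot).mp this
  · right
    ext x
    have : x ∈ B := by rw [h]; trivial
    exact this

theorem exists_field [Finite A] [Nontrivial A] (S : Set (AddMonoid.End A))
    (hcomm : ∀ x ∈ S, ∀ y ∈ S, x * y = y * x)
    (hirr : ∀ B : AddSubgroup A, (∀ φ ∈ S, ∀ x ∈ B, φ x ∈ B) → B = ⊥ ∨ B = ⊤) :
    ∃ (F : Type u) (_ : Field F) (_ : Finite F) (ι : F →+* AddMonoid.End A),
      (∀ φ ∈ S, ∃ r, ι r = φ) ∧ ∀ e : A, e ≠ 0 → Function.Bijective (fun r => ι r e) := by
  letI : CommRing (Subring.closure S) := Subring.closureCommRingOfComm hcomm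
  have hk := ker_eq_bot_or_top S hcomm hirr
  have hfinE : Finite (AddMonoid.End A) :=
    Finite.of_injective (fun f : AddMonoid.End A => (f : A → A)) DFunLike.coe_injective
  have hfin : Finite (Subring.closure S) := inferInstance
  have hnt : Nontrivial (Subring.closure S) := by
    refine ⟨⟨0, 1, ?_⟩⟩
    intro h
    obtain ⟨x, hx⟩ := exists_ne (0 : A)
    have h1 : ((0 : Subring.closure S) : AddMonoid.End A) x
        = ((1 : Subring.closure S) : AddMonoid.End A) x := by rw [h]
    exact hx h1.symm
  have hnzd : NoZeroDivisors (Subring.closure S) := by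
    refine ⟨?_⟩
    intro r s hrs
    rcases hk r.1 r.2 with h | h
    · right
      apply Subtype.ext
      ext x
      have h1 : (r.1 * s.1) x = 0 := by
        have := congrArg Subtype.val hrs
        have h2 : ((r * s : Subring.closure S) : AddMonoid.End A) = r.1 * s.1 := rfl
        rw [h2] at this
        rw [this]
        rfl
      exact h _ h1
    · left
      exact Subtype.ext h
  have hdom : IsDomain (Subring.closure S) := NoZeroDivisors.to_isDomain _
  letI : Field (Subring.closure S) := (Finite.isField_of_domain (Subring.closure S)).toField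
  refine ⟨Subring.closure S, inferInstance, hfin,
    { toFun := Subtype.val
      map_one' := rfl
      map_mul' := fun _ _ => rfl
      map_zero' := rfl
      map_add' := fun _ _ => rfl }, ?_, ?_⟩
  · intro φ hφ
    exact ⟨⟨φ, Subring.subset_closure hφ⟩, rfl⟩
  · intro e he
    constructor
    · intro r s hrs
      have hrs' : r.1 e = s.1 e := hrs
      have h1 : (r.1 - s.1) e = 0 := by
        show r.1 e - s.1 e = 0
        rw [hrs', sub_self]
      rcases hk (r.1 - s.1) ((Subring.closure S).sub_mem r.2 s.2) with h | h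
      · exact absurd (h e h1) he
      · exact Subtype.ext (sub_eq_zero.mp h)
    · let B : AddSubgroup A :=
        { carrier := {x | ∃ r : Subring.closure S, r.1 e = x}
          zero_mem' := ⟨0, rfl⟩
          add_mem' := by
            rintro a b ⟨r, rfl⟩ ⟨s, rfl⟩
            exact ⟨⟨r.1 + s.1, (Subring.closure S).add_mem r.2 s.2⟩, rfl⟩
          neg_mem' := by
            rintro a ⟨r, rfl⟩
            exact ⟨⟨-r.1, (Subring.closure S).neg_mem r.2⟩, rfl⟩ }
      have hB : ∀ φ ∈ S, ∀ x ∈ B, φ x ∈ B := by
        rintro φ hφ x ⟨r, rfl⟩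
        exact ⟨⟨φ * r.1, (Subring.closure S).mul_mem (Subring.subset_closure hφ) r.2⟩, rfl⟩
      have heB : e ∈ B := ⟨⟨1, (Subring.closure S).one_mem⟩, rfl⟩
      rcases hirr B hB with h | h
      · rw [h] at heB
        exact absurd ((AddSubgroup.mem_bot).mp heB) he
      · intro x
        have hx : x ∈ B := by rw [h]; trivial
        obtain ⟨r, hr⟩ := hx
        exact ⟨r, hr⟩

end Cfsg.Agent.Lib.Helper99.FieldIrr
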