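import Mathlib
import Cfsg.Agent.Lib.Helper99.FLineC
import Cfsg.Agent.Lib.Helper99.FieldIrr

/-!
Groups acting on the projective line over a field (helper99), part D: construction of a
representation `FRep F G` from group-theoretic data.  `G` acts faithfully on `X`; `K` is an abelian
subgroup fixing `a` and regular on the other points; the stabilizer `H` of `a` and `b` normalizes
`K`, is abelian and acts irreducibly on `K`.  Then `K` is the additive group of a field `F` on which
`H` acts by multiplications, and `X` is the projective line over `F`.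
-/

set_option autoImplicit false
set_option linter.unusedSectionVars false

namespace Cfsg.Agent.Lib.Helper99.FLine

open Subgroup

universe u v

variable {G : Type u} [Group G]

/-- conjugation by an element normalizing `K`, as an endomorphism of `K` -/
def cj (K : Subgroup G) (h : G) (hh : ∀ k ∈ K, h * k * h⁻¹ ∈ K) : K →* K where
  toFun k := ⟨h * k * h⁻¹, hh k k.2⟩
  map_one' := by
    apply Subtype.ext
    simp
  map_mul' x y := by
    apply Subtype.ext
    simp

/-- conjugation by an element normalizing `K`, as an additive endomorphism -/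
def cjA (K : Subgroup G) (h : G) (hh : ∀ k ∈ K, h * k * h⁻¹ ∈ K) : AddMonoid.End (Additive K) :=
  MonoidHom.toAdditive (cj K h hh)

theorem cjA_apply (K : Subgroup G) (h : G) (hh : ∀ k ∈ K, h * k * h⁻¹ ∈ K) (x : Additive K) :
    ((Additive.toMul (cjA K h hh x) : K) : G) = h * ((Additive.toMul x : K) : G) * h⁻¹ := rfl

theorem exists_frep [Finite G] {X : Type v} [MulAction G X]
    (hfaith : ∀ g : G, (∀ x : X, g • x = x) → g = 1)
    (a b : X) (hab : a ≠ b)
    (K : Subgroup G) (hKa : ∀ k ∈ K, k • a = a)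
    (hKcomm : ∀ k ∈ K, ∀ k' ∈ K, k * k' = k' * k)
    (hKreg : ∀ x : X, x ≠ a → ∃! k : K, (k : G) • b = x)
    (hK1 : ∃ k ∈ K, k ≠ 1)
    (hH : ∀ h : G, h • a = a → h • b = b → ∀ k ∈ K, h * k * h⁻¹ ∈ K)
    (hHcomm : ∀ h h' : G, h • a = a → h • b = b → h' • a = a → h' • b = b → h * h' = h' * h)
    (hirr : ∀ L : Subgroup G, L ≤ K →
      (∀ h : G, h • a = a → h • b = b → ∀ k ∈ L, h * k * h⁻¹ ∈ L) → L = ⊥ ∨ L = K)
    (htr : ∃ t : G, t • a = b) :
    ∃ (F : Type u) (_ : Field F) (_ : Finite F) (R : FRep F G),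
      Nat.card F = Nat.card K ∧ (∀ g : G, g ∈ R.H0 ↔ g • a = a ∧ g • b = b) := by
  classical
  letI instK : CommGroup K :=
    { (inferInstance : Group K) with
      mul_comm := fun x y => Subtype.ext (hKcomm x x.2 y y.2) }
  -- the commuting family
  let S : Set (AddMonoid.End (Additive K)) :=
    {φ | ∃ (h : G) (ha : h • a = a) (hb : h • b = b), φ = cjA K h (hH h ha hb)}
  have hcomm : ∀ x ∈ S, ∀ y ∈ S, x * y = y * x := by
    rintro _ ⟨h, ha, hb, rfl⟩ _ ⟨h', ha', hb', rfl⟩
    ext x
    show h * (h' * ((Additive.toMul x : K) : G) * h'⁻¹) * h⁻¹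
      = h' * (h * ((Additive.toMul x : K) : G) * h⁻¹) * h'⁻¹
    have e := hHcomm h h' ha hb ha' hb'
    have e' : h⁻¹ * h'⁻¹ = h'⁻¹ * h⁻¹ := by
      rw [← mul_inv_rev, ← mul_inv_rev, e]
    calc h * (h' * ((Additive.toMul x : K) : G) * h'⁻¹) * h⁻¹
        = (h * h') * ((Additive.toMul x : K) : G) * (h'⁻¹ * h⁻¹) := by group
      _ = (h' * h) * ((Additive.toMul x : K) : G) * (h⁻¹ * h'⁻¹) := by rw [e, e']
      _ = h' * (h * ((Additive.toMul x : K) : G) * h⁻¹) * h'⁻¹ := by group
  have hirr' : ∀ B : AddSubgroup (Additive K), (∀ φ ∈ S, ∀ x ∈ B, φ x ∈ B) → B = ⊥ ∨ B = ⊤ := by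
    intro B hB
    let L : Subgroup G :=
      { carrier := {g | ∃ hg : g ∈ K, Additive.ofMul (⟨g, hg⟩ : K) ∈ B}
        one_mem' := ⟨K.one_mem, B.zero_mem⟩
        mul_mem' := by
          rintro x y ⟨hx, hx'⟩ ⟨hy, hy'⟩
          exact ⟨K.mul_mem hx hy, B.add_mem hx' hy'⟩
        inv_mem' := by
          rintro x ⟨hx, hx'⟩
          exact ⟨K.inv_mem hx, B.neg_mem hx'⟩ }
    have hLK : L ≤ K := fun g hg => hg.1
    have hLinv : ∀ h : G, h • a = a → h • b = b → ∀ k ∈ L, h * k * h⁻¹ ∈ L := by
      rintro h ha hb k ⟨hk, hk'⟩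
      exact ⟨hH h ha hb k hk, hB _ ⟨h, ha, hb, rfl⟩ _ hk'⟩
    rcases hirr L hLK hLinv with h | h
    · left
      rw [eq_bot_iff]
      intro x hx
      have h1 : ((Additive.toMul x : K) : G) ∈ L := ⟨(Additive.toMul x).2, hx⟩
      rw [h, Subgroup.mem_bot] at h1
      rw [AddSubgroup.mem_bot]
      apply Additive.toMul.injective
      exact Subtype.ext h1
    · right
      rw [eq_top_iff]
      intro x _
      have h1 : ((Additive.toMul x : K) : G) ∈ L := by
        rw [h]
        exact (Additive.toMul x).2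
      obtain ⟨_, h2⟩ := h1
      exact h2
  obtain ⟨k₀, hk₀, hk₀1⟩ := hK1
  have hnt : Nontrivial (Additive K) :=
    ⟨⟨Additive.ofMul ⟨k₀, hk₀⟩, 0, fun h => hk₀1 (congrArg Subtype.val (Additive.ofMul.injective h))⟩⟩
  obtain ⟨F, instF, finF, ι, hι, hbij⟩ := FieldIrr.exists_field S hcomm hirr'
  have he0 : Additive.ofMul (⟨k₀, hk₀⟩ : K) ≠ 0 :=
    fun h => hk₀1 (congrArg Subtype.val (Additive.ofMul.injective h))
  have hbij0 := hbij _ he0
  -- the parametrization of `K` by the field
  let κ : F → G := fun r => ((Additive.toMul (ι r (Additive.ofMul (⟨k₀, hk₀⟩ : K))) : K) : G)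
  have hκK : ∀ r, κ r ∈ K := fun r => (Additive.toMul (ι r (Additive.ofMul (⟨k₀, hk₀⟩ : K)))).2
  have hκinj : Function.Injective κ := by
    intro r s hrs
    apply hbij0.1
    apply Additive.toMul.injective
    exact Subtype.ext hrs
  have hκsurj : ∀ k ∈ K, ∃ r, κ r = k := by
    intro k hk
    obtain ⟨r, hr⟩ := hbij0.2 (Additive.ofMul ⟨k, hk⟩)
    refine ⟨r, ?_⟩
    show ((Additive.toMul (ι r (Additive.ofMul (⟨k₀, hk₀⟩ : K))) : K) : G) = k
    have hr' : ι r (Additive.ofMul (⟨k₀, hk₀⟩ : K)) = Additive.ofMul ⟨k, hk⟩ := hr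
    rw [hr']
    rfl
  have hκadd : ∀ r s, κ (r + s) = κ r * κ s := by
    intro r s
    show ((Additive.toMul (ι (r + s) (Additive.ofMul (⟨k₀, hk₀⟩ : K))) : K) : G) = _
    rw [map_add]
    rfl
  have hκ0 : κ 0 = 1 := by
    show ((Additive.toMul (ι 0 (Additive.ofMul (⟨k₀, hk₀⟩ : K))) : K) : G) = 1
    rw [map_zero]
    rfl
  have hκmul : ∀ (m x : F) (h : G) (ha : h • a = a) (hb : h • b = b),
      ι m = cjA K h (hH h ha hb) → κ (m * x) = h * κ x * h⁻¹ := by
    intro m x h ha hb hm
    show ((Additive.toMul (ι (m * x) (Additive.ofMul (⟨k₀, hk₀⟩ : K))) : K) : G) = _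
    rw [map_mul, hm]
    rfl
  have hKb : ∀ k ∈ K, k • b ≠ a := by
    intro k hk h
    apply hab
    have h1 : k⁻¹ • (k • b) = k⁻¹ • a := by rw [h]
    rw [inv_smul_smul, hKa _ (K.inv_mem hk)] at h1
    exact h1.symm
  -- the labelling
  let lab : Option F → X := fun o => match o with
    | none => a
    | some r => κ r • b
  have hlab_none : lab none = a := rfl
  have hlab_some : ∀ r, lab (some r) = κ r • b := fun r => rfl
  have hlabbij : Function.Bijective lab := by
    constructor
    · intro x y hxy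
      cases x with
      | none =>
        cases y with
        | none => rfl
        | some s =>
          rw [hlab_none, hlab_some] at hxy
          exact absurd hxy.symm (hKb _ (hκK s))
      | some r =>
        cases y with
        | none =>
          rw [hlab_none, hlab_some] at hxy
          exact absurd hxy (hKb _ (hκK r))
        | some s =>
          rw [hlab_some, hlab_some] at hxy
          obtain ⟨k, -, hk2⟩ := hKreg (κ s • b) (hKb _ (hκK s))
          have h1 := hk2 ⟨κ r, hκK r⟩ hxy
          have h2 := hk2 ⟨κ s, hκK s⟩ rfl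
          have h3 : κ r = κ s := congrArg Subtype.val (h1.trans h2.symm)
          rw [hκinj h3]
    · intro x
      by_cases hx : x = a
      · exact ⟨none, hx.symm⟩
      · obtain ⟨k, hk, -⟩ := hKreg x hx
        obtain ⟨r, hr⟩ := hκsurj k k.2
        exact ⟨some r, by rw [hlab_some, hr]; exact hk⟩
  let E : Option F ≃ X := Equiv.ofBijective lab hlabbij
  have hE_none : E none = a := rfl
  have hE_some : ∀ r, E (some r) = κ r • b := fun r => rfl
  let π : G →* Equiv.Perm (Option F) :=
    (E.symm.permCongrHom.toMonoidHom).comp (MulAction.toPermHom G X)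
  have hπ : ∀ (g : G) (x : Option F), π g x = E.symm (g • E x) := fun g x => rfl
  have hπinj : Function.Injective π := by
    intro g g' hgg
    have h1 : ∀ x : X, g • x = g' • x := by
      intro x
      have h2 : π g (E.symm x) = π g' (E.symm x) := by rw [hgg]
      rw [hπ, hπ, Equiv.apply_symm_apply] at h2
      exact E.symm.injective h2
    have h3 : g'⁻¹ * g = 1 := by
      apply hfaith
      intro x
      rw [mul_smul, h1, inv_smul_smul]
    exact (inv_mul_eq_one.mp h3).symm
  have hfix_none : ∀ g : G, π g none = none ↔ g • a = a := by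
    intro g
    rw [hπ, hE_none, Equiv.symm_apply_eq, hE_none]
  have hfix_zero : ∀ g : G, π g (some 0) = some 0 ↔ g • b = b := by
    intro g
    rw [hπ, hE_some, Equiv.symm_apply_eq, hE_some, hκ0, one_smul]
  obtain ⟨t, ht⟩ := htr
  refine ⟨F, instF, finF,
    { π := π
      inj := hπinj
      c := κ
      hc_none := ?_
      hc_some := ?_
      lin := ?_
      trans := ?_ }, ?_, ?_⟩
  · intro y
    rw [hfix_none]
    exact hKa _ (hκK y)
  · intro y x
    rw [hπ, hE_some, Equiv.symm_apply_eq, hE_some, ← mul_smul, hκadd,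
      hKcomm _ (hκK x) _ (hκK y)]
  · intro g hg1 hg2
    have ha := (hfix_none g).mp hg1
    have hb := (hfix_zero g).mp hg2
    obtain ⟨m, hm⟩ := hι (cjA K g (hH g ha hb)) ⟨g, ha, hb, rfl⟩
    refine ⟨m, ?_⟩
    intro x
    rw [hπ, hE_some, Equiv.symm_apply_eq, hE_some, hκmul m x g ha hb hm, mul_smul, mul_smul,
      inv_smul_eq_iff.mpr hb.symm]
  · intro x
    cases x with
    | none => exact ⟨1, by rw [hfix_none, one_smul]⟩
    | some r =>
      refine ⟨κ r * t, ?_⟩
      rw [hπ, hE_none, Equiv.symm_apply_eq, hE_some, mul_smul, ht]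
  · have h1 : Function.Bijective (fun r : F => (⟨κ r, hκK r⟩ : K)) := by
      constructor
      · intro r s hrs
        exact hκinj (congrArg Subtype.val hrs)
      · intro k
        obtain ⟨r, hr⟩ := hκsurj k k.2
        exact ⟨r, Subtype.ext hr⟩
    exact Nat.card_eq_of_bijective _ h1
  · intro g
    show (π g none = none ∧ π g (some 0) = some 0) ↔ _
    rw [hfix_none, hfix_zero]

end Cfsg.Agent.Lib.Helper99.FLine
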