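import Mathlib
import Cfsg.Agent.Lib.Helper99.FLineD

/-!
Groups acting on the projective line over a field (helper99), part E: the recognition theorem in
group-theoretic form, and uniqueness.
-/

set_option autoImplicit false
set_option linter.unusedSectionVars false

namespace Cfsg.Agent.Lib.Helper99.FLine

open Subgroup

universe u v w

/-- in a finite field of odd cardinality `2 ≠ 0` -/
theorem two_ne_zero_of_odd_card {F : Type*} [Field F] [Finite F] (h : ¬ 2 ∣ Nat.card F) :
    (2 : F) ≠ 0 := by
  intro h2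
  apply h
  have h1 : addOrderOf (1 : F) = 2 := by
    apply addOrderOf_eq_prime
    · rw [two_nsmul, one_add_one_eq_two, h2]
    · exact one_ne_zero
  rw [← h1]
  exact addOrderOf_dvd_natCard 1

/-- the reference groups over finite fields of the same cardinality are isomorphic -/
theorem nonempty_K0_congr_of_card {F : Type v} [Field F] [Finite F] {F' : Type w} [Field F']
    [Finite F'] (h : Nat.card F = Nat.card F') (d : ℕ) : Nonempty (K0 F d ≃* K0 F' d) := by
  have := Fintype.ofFinite F
  have := Fintype.ofFinite F'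
  rw [Nat.card_eq_fintype_card, Nat.card_eq_fintype_card] at h
  exact nonempty_K0_congr (FiniteField.ringEquivOfCardEq h) d

/-- Recognition theorem: `G` acts faithfully on `X`; `K` is an abelian subgroup of odd order fixing
`a` and regular on the other points; the stabilizer `H` of `a` and `b` normalizes `K`, is abelian
of even order `d` and acts irreducibly on `K`.  Then `G` is isomorphic to the reference group
`K0 F d` for a field `F` with `|K|` elements. -/
theorem exists_field_mulEquiv_K0 {G : Type u} [Group G] [Finite G] {X : Type v} [MulAction G X]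
    (hfaith : ∀ g : G, (∀ x : X, g • x = x) → g = 1)
    (a b : X) (hab : a ≠ b)
    (K : Subgroup G) (hKa : ∀ k ∈ K, k • a = a)
    (hKcomm : ∀ k ∈ K, ∀ k' ∈ K, k * k' = k' * k)
    (hKreg : ∀ x : X, x ≠ a → ∃! k : K, (k : G) • b = x)
    (hK1 : ∃ k ∈ K, k ≠ 1)
    (hH : ∀ h : G, h • a = a → h • b = b → ∀ k ∈ K, h * k * h⁻¹ ∈ K)
    (hHcomm : ∀ h h' : G, h • a = a → h • b = b → h' • a = a → h' • b = b → h * h' = h' * h)
    (hirr : ∀ L : Subgroup G, L ≤ K →
      (∀ h : G, h • a = a → h • b = b → ∀ k ∈ L, h * k * h⁻¹ ∈ L) → L = ⊥ ∨ L = K)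
    (htr : ∃ t : G, t • a = b)
    (d : ℕ) (hd : Nat.card {g : G // g • a = a ∧ g • b = b} = d) (hev : 2 ∣ d)
    (hodd : ¬ 2 ∣ Nat.card K) :
    ∃ (F : Type u) (_ : Field F) (_ : Finite F),
      Nat.card F = Nat.card K ∧ Nonempty (G ≃* K0 F d) := by
  obtain ⟨F, instF, finF, R, hcard, hH0⟩ :=
    exists_frep hfaith a b hab K hKa hKcomm hKreg hK1 hH hHcomm hirr htr
  have hd' : Nat.card R.H0 = d := by
    rw [← hd]
    exact Nat.card_congr (Equiv.subtypeEquivRight hH0)
  have h2 : (2 : F) ≠ 0 := two_ne_zero_of_odd_card (by rw [hcard]; exact hodd)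
  have h3 := R.nonempty_mulEquiv_K0 h2 (by rw [hd']; exact hev)
  rw [hd'] at h3
  exact ⟨F, instF, finF, hcard, h3⟩

end Cfsg.Agent.Lib.Helper99.FLine
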