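import Mathlib
import Cfsg.Agent.Lib.Helper17.Sylow
import Cfsg.Agent.Lib.Helper17.FixedPoints
import Cfsg.Agent.Lib.Helper99.SylAct

/-!
Simple groups of order 360 (helper99), part A: Sylow `3`-subgroups have order `9`, there are `10`
of them, and two distinct ones intersect trivially.
-/

set_option autoImplicit false
set_option linter.unusedSectionVars false

namespace Cfsg.Agent.Lib.Helper99.G360

open Subgroup
open Cfsg.Agent.Lib.Helper17.Sylow Cfsg.Agent.Lib.Helper17.Embed

variable {G : Type*} [Group G] [Finite G] [IsSimpleGroup G]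

instance fact3 : Fact (Nat.Prime 3) := ⟨Nat.prime_three⟩

theorem not_comm (h : Nat.card G = 360) : ¬ IsMulCommutative G :=
  not_comm_of_not_prime (by rw [h]; norm_num)

theorem card_sylow3 (h : Nat.card G = 360) (P : Sylow 3 G) : Nat.card (P : Subgroup G) = 9 := by
  have := card_sylow_subgroup (p := 3) (k := 2) (m := 40) (by rw [h]; norm_num) (by norm_num) P
  rw [this]
  norm_num

theorem sylow3_comm (h : Nat.card G = 360) (P : Sylow 3 G) :
    ∀ x ∈ (P : Subgroup G), ∀ y ∈ (P : Subgroup G), x * y = y * x := by
  intro x hx y hy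
  have h9 : Nat.card (P : Subgroup G) = 3 ^ 2 := by rw [card_sylow3 h P]; norm_num
  have := IsPGroup.commutative_of_card_eq_prime_sq h9 ⟨x, hx⟩ ⟨y, hy⟩
  exact congrArg Subtype.val this

/-- a proper subgroup has index at least `6` -/
theorem six_le_index (h : Nat.card G = 360) (M : Subgroup G) (hM : M ≠ ⊤) : 6 ≤ M.index := by
  have h1 := two_mul_card_dvd_factorial (not_comm h) M hM
  rw [h] at h1
  by_contra hlt
  push Not at hlt
  have h2 : M.index.factorial ≤ Nat.factorial 5 := Nat.factorial_le (by omega)
  have h3 : 0 < M.index.factorial := Nat.factorial_pos _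
  have h4 := Nat.le_of_dvd h3 h1
  have h5 : Nat.factorial 5 = 120 := by decide
  omega

theorem card_sylow_three (h : Nat.card G = 360) : Nat.card (Sylow 3 G) = 10 := by
  have hG := not_comm h
  have h3 : (3 : ℕ) ∣ Nat.card G := by rw [h]; norm_num
  have h1 : Nat.card (Sylow 3 G) ∣ 40 :=
    card_sylow_dvd (p := 3) (k := 2) (m := 40) (by rw [h]; norm_num) (by norm_num)
  have h2 := card_sylow_mod (G := G) 3
  have h4 := card_sylow_ne_one hG h3
  have hle : Nat.card (Sylow 3 G) ≤ 40 := Nat.le_of_dvd (by norm_num) h1
  obtain ⟨P⟩ : Nonempty (Sylow 3 G) := inferInstance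
  have h5 := card_normalizer_mul_card_sylow P
  rw [h] at h5
  have h6' := six_le_index h _ (normalizer_sylow_ne_top hG h3 P)
  have h6 : 6 ≤ Nat.card (Sylow 3 G) := by
    rw [P.card_eq_index_normalizer]
    exact h6'
  -- exclude 40
  have h40 : Nat.card (Sylow 3 G) ≠ 40 := by
    intro h40
    rw [h40] at h5
    have hN : Nat.card (normalizer ((P : Subgroup G) : Set G)) = 9 := by omega
    have hPN : (P : Subgroup G) = normalizer ((P : Subgroup G) : Set G) := by
      apply Subgroup.eq_of_le_of_card_ge le_normalizer
      rw [hN, card_sylow3 h P]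
    apply not_normalizer_le_centralizer hG h3 P
    rw [← hPN]
    intro x hx
    rw [mem_centralizer_iff]
    intro y hy
    exact sylow3_comm h P y hy x hx
  interval_cases hn : Nat.card (Sylow 3 G) <;> omega

theorem card_normalizer (h : Nat.card G = 360) (P : Sylow 3 G) :
    Nat.card (normalizer ((P : Subgroup G) : Set G)) = 36 := by
  have h5 := card_normalizer_mul_card_sylow P
  rw [h, card_sylow_three h] at h5
  omega

/-- distinct Sylow `3`-subgroups intersect trivially -/
theorem ti (h : Nat.card G = 360) (P Q : Sylow 3 G) (u : G) (hu1 : u ≠ 1)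
    (huP : u ∈ (P : Subgroup G)) (huQ : u ∈ (Q : Subgroup G)) : P = Q := by
  by_contra hPQ
  have hG := not_comm h
  have hPC : (P : Subgroup G) ≤ centralizer ({u} : Set G) := by
    intro x hx
    rw [mem_centralizer_iff]
    intro y hy
    rw [Set.mem_singleton_iff] at hy
    subst hy
    exact sylow3_comm h P y huP x hx
  have hQC : (Q : Subgroup G) ≤ centralizer ({u} : Set G) := by
    intro x hx
    rw [mem_centralizer_iff]
    intro y hy
    rw [Set.mem_singleton_iff] at hy
    subst hy
    exact sylow3_comm h Q y huQ x hx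
  have hCtop : centralizer ({u} : Set G) ≠ ⊤ := by
    intro hC'
    have hcen : u ∈ center G := by
      rw [mem_center_iff]
      intro g
      have hg : g ∈ centralizer ({u} : Set G) := by rw [hC']; trivial
      rw [mem_centralizer_iff] at hg
      exact (hg u rfl).symm
    rcases (inferInstance : (center G).Normal).eq_bot_or_eq_top with hb | ht
    · rw [hb, mem_bot] at hcen
      exact hu1 hcen
    · apply hG
      rw [isMulCommutative_iff]
      intro a b
      have ha : a ∈ center G := by rw [ht]; trivial
      exact (mem_center_iff.mp ha b).symm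
  generalize hCdef : centralizer ({u} : Set G) = C at hPC hQC hCtop
  have hi6 := six_le_index h C hCtop
  have hci := C.card_mul_index
  rw [h] at hci
  -- the Sylow subgroups of `C`
  have hPCcard : Nat.card (P.subtype hPC : Subgroup C) = 9 := by
    rw [Sylow.coe_subtype, Nat.card_congr (Subgroup.subgroupOfEquivOfLe hPC).toEquiv]
    exact card_sylow3 h P
  have hji := (P.subtype hPC : Subgroup C).card_mul_index
  rw [hPCcard] at hji
  have hn1 : Nat.card (Sylow 3 C) ∣ (P.subtype hPC : Subgroup C).index :=
    (P.subtype hPC).card_dvd_index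
  have hn2 := card_sylow_mod (G := C) 3
  have hn3 : Nat.card (Sylow 3 C) ≠ 1 := by
    intro h1
    rw [Nat.card_eq_one_iff_unique] at h1
    obtain ⟨hs, -⟩ := h1
    exact hPQ (Sylow.subtype_injective (hs.elim (P.subtype hPC) (Q.subtype hQC)))
  -- numerics
  have hnum : Nat.card C = 36 ∧ Nat.card (Sylow 3 C) = 4 := by
    generalize Nat.card (Sylow 3 C) = n at hn1 hn2 hn3
    generalize (P.subtype hPC : Subgroup C).index = j at hji hn1
    generalize C.index = i at hi6 hci
    generalize Nat.card C = c at hci hji
    have hji' : j * i = 40 := by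
      have : 9 * (j * i) = 360 := by rw [← hci, ← hji]; ring
      omega
    have hi40 : i ≤ 40 := Nat.le_of_dvd (by norm_num) ⟨j, by rw [← hji']; ring⟩
    have hj : j = 4 ∨ j = 5 ∨ j = 2 ∨ j = 1 := by
      interval_cases i <;> omega
    rcases hj with rfl | rfl | rfl | rfl
    · have hn4 : n ≤ 4 := Nat.le_of_dvd (by norm_num) hn1
      have : n = 4 := by interval_cases n <;> omega
      exact ⟨by omega, this⟩
    · have hn4 : n ≤ 5 := Nat.le_of_dvd (by norm_num) hn1
      exfalso
      interval_cases n <;> omega
    · have hn4 : n ≤ 2 := Nat.le_of_dvd (by norm_num) hn1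
      exfalso
      interval_cases n <;> omega
    · have hn4 : n ≤ 1 := Nat.le_of_dvd (by norm_num) hn1
      exfalso
      interval_cases n <;> omega
  obtain ⟨hC36, hn4⟩ := hnum
  -- the normalizer of `P` in `C` is `P`
  have hNP : normalizer (((P.subtype hPC : Sylow 3 C) : Subgroup C) : Set C)
      = (P.subtype hPC : Subgroup C) := by
    symm
    apply Subgroup.eq_of_le_of_card_ge le_normalizer
    have h1 := card_normalizer_mul_card_sylow (P.subtype hPC)
    rw [hn4, hC36] at h1
    rw [hPCcard]
    omega
  have hNC : normalizer (((P.subtype hPC : Sylow 3 C) : Subgroup C) : Set C)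
      ≤ centralizer (((P.subtype hPC : Sylow 3 C) : Subgroup C) : Set C) := by
    rw [hNP]
    intro x hx
    rw [mem_centralizer_iff]
    intro y hy
    have hx' : (x : G) ∈ (P : Subgroup G) := hx
    have hy' : (y : G) ∈ (P : Subgroup G) := hy
    exact Subtype.ext (sylow3_comm h P y hy' x hx')
  have hcompl := MonoidHom.ker_transferSylow_isComplement' (P.subtype hPC) hNC
  have hVcard : Nat.card (MonoidHom.transferSylow (P.subtype hPC) hNC).ker = 4 := by
    have h1 := hcompl.card_mul_card
    rw [hPCcard, hC36] at h1
    omega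
  have hVn : (MonoidHom.transferSylow (P.subtype hPC) hNC).ker.Normal := MonoidHom.normal_ker _
  generalize (MonoidHom.transferSylow (P.subtype hPC) hNC).ker = V at hVcard hVn
  -- the image of `V` in `G`
  have hV'card : Nat.card (V.map C.subtype) = 4 := by
    rw [← hVcard]
    exact (Nat.card_congr (V.equivMapOfInjective C.subtype C.subtype_injective).toEquiv).symm
  have hV'le : V.map C.subtype ≤ C := by
    rintro _ ⟨v, -, rfl⟩
    exact v.2
  have hCN : C ≤ normalizer ((V.map C.subtype : Subgroup G) : Set G) := by
    rw [← normal_subgroupOf_iff_le_normalizer hV'le]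
    have e : (V.map C.subtype).subgroupOf C = V := by
      ext x
      rw [mem_subgroupOf]
      constructor
      · rintro ⟨v, hv, hvx⟩
        have : v = x := Subtype.ext hvx
        rwa [← this]
      · intro hx
        exact ⟨x, hx, rfl⟩
    rw [e]
    exact hVn
  have h8 : 2 ^ (2 + 1) ∣ Nat.card (normalizer ((V.map C.subtype : Subgroup G) : Set G)) := by
    have : Fact (Nat.Prime 2) := ⟨Nat.prime_two⟩
    apply Sylow.prime_pow_dvd_card_normalizer (p := 2) (n := 2)
    · rw [h]; norm_num
    · rw [hV'card]; norm_num
  have h9 : 9 ∣ Nat.card (normalizer ((V.map C.subtype : Subgroup G) : Set G)) := by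
    have h1 := Subgroup.card_dvd_of_le hCN
    rw [hC36] at h1
    exact dvd_trans (by norm_num) h1
  have h72 : 72 ∣ Nat.card (normalizer ((V.map C.subtype : Subgroup G) : Set G)) := by
    have hcop : Nat.Coprime (2 ^ (2 + 1)) 9 := by norm_num
    have := hcop.mul_dvd_of_dvd_of_dvd h8 h9
    norm_num at this
    exact this
  have hMtop : normalizer ((V.map C.subtype : Subgroup G) : Set G) = ⊤ := by
    by_contra hne
    have h1 := six_le_index h _ hne
    have h2 := (normalizer ((V.map C.subtype : Subgroup G) : Set G)).card_mul_index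
    rw [h] at h2
    obtain ⟨k, hk⟩ := h72
    rw [hk] at h2
    have : k * (normalizer ((V.map C.subtype : Subgroup G) : Set G)).index = 5 := by
      have : 72 * (k * (normalizer ((V.map C.subtype : Subgroup G) : Set G)).index) = 360 := by
        rw [← h2]; ring
      omega
    have hk0 : 0 < k := by
      rcases Nat.eq_zero_or_pos k with h0 | h0
      · rw [h0] at this; omega
      · exact h0
    nlinarith
  have hVnormal : (V.map C.subtype).Normal := normalizer_eq_top_iff.mp hMtop
  rcases hVnormal.eq_bot_or_eq_top with hb | ht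
  · rw [hb, Subgroup.card_bot] at hV'card
    omega
  · rw [ht, Subgroup.card_top, h] at hV'card
    omega

end Cfsg.Agent.Lib.Helper99.G360
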