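import Mathlib
import Cfsg.Agent.Lib.Helper99.G360a

/-!
Simple groups of order 360 (helper99), part B: the action on the ten cosets of the normalizer of
a Sylow `3`-subgroup `P`.  `P` is regular on the nine cosets other than the base point, and the
two-point stabilizer has order `4`.
-/

set_option autoImplicit false
set_option linter.unusedSectionVars false

namespace Cfsg.Agent.Lib.Helper99.G360

open Subgroup MulAction
open Cfsg.Agent.Lib.Helper17.Sylow Cfsg.Agent.Lib.Helper17.Embed
open Cfsg.Agent.Lib.Helper17.FixedPoints Cfsg.Agent.Lib.Helper17.SylowConj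

variable {G : Type*} [Group G] [Finite G] [IsSimpleGroup G]

/-- the ten points -/
abbrev X3 (P : Sylow 3 G) : Type _ := G ⧸ normalizer ((P : Subgroup G) : Set G)

/-- the base point -/
abbrev pt (P : Sylow 3 G) : X3 P := ((1 : G) : G ⧸ normalizer ((P : Subgroup G) : Set G))

theorem smul_pt_iff (P : Sylow 3 G) (g : G) :
    g • pt P = pt P ↔ g ∈ normalizer ((P : Subgroup G) : Set G) := by
  rw [coset_fixed_iff]
  simp

theorem smul_pt_of_mem (P : Sylow 3 G) {k : G} (hk : k ∈ (P : Subgroup G)) : k • pt P = pt P :=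
  (smul_pt_iff P k).mpr (le_normalizer hk)

theorem card_X3 (h : Nat.card G = 360) (P : Sylow 3 G) : Nat.card (X3 P) = 10 := by
  have h1 := (normalizer ((P : Subgroup G) : Set G)).card_mul_index
  rw [card_normalizer h P, h] at h1
  have h2 : (normalizer ((P : Subgroup G) : Set G)).index = 10 := by omega
  exact h2

theorem faithful (h : Nat.card G = 360) (P : Sylow 3 G) (g : G)
    (hg : ∀ x : X3 P, g • x = x) : g = 1 := by
  have hG := not_comm h
  have h3 : (3 : ℕ) ∣ Nat.card G := by rw [h]; norm_num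
  have hinj := toPermHom_injective_of_simple (normalizer ((P : Subgroup G) : Set G))
    (normalizer_sylow_ne_top hG h3 P)
  apply hinj
  ext x
  rw [map_one]
  exact hg x

/-- a nontrivial element of `P` fixes only the base point -/
theorem free_P (h : Nat.card G = 360) (P : Sylow 3 G) (u : G) (hu : u ∈ (P : Subgroup G))
    (hu1 : u ≠ 1) (x : X3 P) (hx : u • x = x) : x = pt P := by
  induction x using QuotientGroup.induction_on with
  | H g =>
  rw [coset_fixed_iff] at hx
  have hpow : (g⁻¹ * u * g) ^ 3 ^ 2 = 1 := by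
    have h1 : u ^ 3 ^ 2 = 1 := by
      have h2 := pow_card_eq_one' (G := (P : Subgroup G)) (x := ⟨u, hu⟩)
      rw [card_sylow3 h P] at h2
      have h3 := congrArg Subtype.val h2
      norm_num
      exact h3
    have h4 : (g⁻¹ * u * g) ^ 3 ^ 2 = g⁻¹ * u ^ 3 ^ 2 * g := by
      have := conj_pow (i := 3 ^ 2) (a := g⁻¹) (b := u)
      rw [inv_inv] at this
      exact this
    rw [h4, h1]
    group
  have h5 := SylAct.mem_sylow_of_pow_eq_one P 2 hpow hx
  have h6 : u ∈ ((g • P : Sylow 3 G) : Subgroup G) := mem_smul_sylow_iff.mpr h5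
  have h7 : P = g • P := ti h P (g • P) u hu1 hu h6
  have h8 : g ∈ normalizer ((P : Subgroup G) : Set G) :=
    Sylow.smul_eq_iff_mem_normalizer.mp h7.symm
  show ((g : G) : G ⧸ normalizer ((P : Subgroup G) : Set G)) = ((1 : G) : G ⧸ _)
  rw [QuotientGroup.eq]
  simpa using h8

theorem smul_ne_pt (P : Sylow 3 G) {b : X3 P} (hb : b ≠ pt P) {g : G}
    (hg : g ∈ normalizer ((P : Subgroup G) : Set G)) : g • b ≠ pt P := by
  intro h1
  apply hb
  have h2 : g⁻¹ • (g • b) = g⁻¹ • pt P := by rw [h1]
  rw [inv_smul_smul, (smul_pt_iff P g⁻¹).mpr (inv_mem hg)] at h2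
  exact h2

theorem smul_inj (h : Nat.card G = 360) (P : Sylow 3 G) {b : X3 P} (hb : b ≠ pt P)
    {k k' : G} (hk : k ∈ (P : Subgroup G)) (hk' : k' ∈ (P : Subgroup G))
    (he : k • b = k' • b) : k = k' := by
  by_contra hne
  have h1 : (k'⁻¹ * k) • b = b := by rw [mul_smul, he, inv_smul_smul]
  have h2 : k'⁻¹ * k ≠ 1 := by
    intro h3
    apply hne
    exact (inv_mul_eq_one.mp h3).symm
  exact hb (free_P h P _ ((P : Subgroup G).mul_mem ((P : Subgroup G).inv_mem hk') hk) h2 b h1)

/-- `P` is regular on the points other than the base point -/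
theorem reg (h : Nat.card G = 360) (P : Sylow 3 G) {b : X3 P} (hb : b ≠ pt P) :
    ∀ x : X3 P, x ≠ pt P → ∃! k : (P : Subgroup G), (k : G) • b = x := by
  classical
  have := Fintype.ofFinite (X3 P)
  let f : ↥(P : Subgroup G) → {x : X3 P // x ≠ pt P} := fun k =>
    ⟨(k : G) • b, smul_ne_pt P hb (le_normalizer k.2)⟩
  have hf : Function.Injective f := by
    intro k k' hkk
    exact Subtype.ext (smul_inj h P hb k.2 k'.2 (congrArg Subtype.val hkk))
  have hcard : Nat.card {x : X3 P // x ≠ pt P} ≤ Nat.card (P : Subgroup G) := by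
    rw [card_sylow3 h P, Nat.card_eq_fintype_card, Fintype.card_subtype_compl,
      Fintype.card_subtype_eq, ← Nat.card_eq_fintype_card, card_X3 h P]
  have hb' := hf.bijective_of_nat_card_le hcard
  intro x hx
  obtain ⟨k, hk⟩ := hb'.2 ⟨x, hx⟩
  refine ⟨k, congrArg Subtype.val hk, ?_⟩
  intro k' hk'
  apply hf
  rw [hk]
  exact Subtype.ext hk'

/-- the two-point stabilizer has order `4` -/
theorem card_H (h : Nat.card G = 360) (P : Sylow 3 G) {b : X3 P} (hb : b ≠ pt P) :
    Nat.card {g : G // g • pt P = pt P ∧ g • b = b} = 4 := by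
  let f : ↥(P : Subgroup G) × {g : G // g • pt P = pt P ∧ g • b = b} →
      normalizer ((P : Subgroup G) : Set G) := fun a =>
    ⟨(a.1 : G) * (a.2 : G), mul_mem (le_normalizer a.1.2) ((smul_pt_iff P _).mp a.2.2.1)⟩
  have hf : Function.Bijective f := by
    constructor
    · rintro ⟨k, g, hg⟩ ⟨k', g', hg'⟩ hkk
      have h1 : (k : G) * g = (k' : G) * g' := congrArg Subtype.val hkk
      have h2 : (k : G) • b = (k' : G) • b := by
        have := congrArg (fun z : G => z • b) h1
        simp only [mul_smul, hg.2, hg'.2] at this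
        exact this
      have h3 : (k : G) = (k' : G) := smul_inj h P hb k.2 k'.2 h2
      have h4 : g = g' := by
        rw [h3] at h1
        exact mul_left_cancel h1
      have h5 : k = k' := Subtype.ext h3
      subst h5
      subst h4
      rfl
    · rintro ⟨g, hg⟩
      obtain ⟨k, hk, -⟩ := reg h P hb (g • b) (smul_ne_pt P hb hg)
      refine ⟨(k, ⟨(k : G)⁻¹ * g, ?_, ?_⟩), ?_⟩
      · rw [smul_pt_iff]
        exact mul_mem (inv_mem (le_normalizer k.2)) hg
      · rw [mul_smul, ← hk, inv_smul_smul]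
      · apply Subtype.ext
        show (k : G) * ((k : G)⁻¹ * g) = g
        group
  have hc := Nat.card_congr (Equiv.ofBijective f hf)
  rw [Nat.card_prod, card_sylow3 h P, card_normalizer h P] at hc
  omega

end Cfsg.Agent.Lib.Helper99.G360
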