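import Mathlib
import Cfsg.Agent.Lib.Helper99.G360b
import Cfsg.Agent.Lib.Helper99.FLineE

/-!
Simple groups of order 360 (helper99), part C: the two-point stabilizer acts freely on the Sylow
`3`-subgroup (a parity argument), and the group is isomorphic to the reference group `K0 F 4` over
a field with nine elements.
-/

set_option autoImplicit false
set_option linter.unusedSectionVars false

namespace Cfsg.Agent.Lib.Helper99.G360

open Subgroup MulAction
open Cfsg.Agent.Lib.Helper17.Sylow Cfsg.Agent.Lib.Helper17.Embed
open Cfsg.Agent.Lib.Helper17.FixedPoints Cfsg.Agent.Lib.Helper17.SylowConj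

universe u

variable {G : Type u} [Group G] [Finite G] [IsSimpleGroup G]

/-- an involution of the two-point stabilizer centralizes no nontrivial element of `P` -/
theorem free_inv (h : Nat.card G = 360) (P : Sylow 3 G) {b : X3 P} (hb : b ≠ pt P)
    (s : G) (hsa : s • pt P = pt P) (hsb : s • b = b) (hs1 : s ≠ 1) (hss : s * s = 1)
    (u : G) (hu : u ∈ (P : Subgroup G)) (hu1 : u ≠ 1) : s * u * s⁻¹ ≠ u := by
  classical
  intro hcomm
  have hG := not_comm h
  have hsN : s ∈ normalizer ((P : Subgroup G) : Set G) := (smul_pt_iff P s).mp hsa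
  have hsinv : s⁻¹ = s := inv_eq_of_mul_eq_one_left hss
  -- the centralizer of `s` in `P`
  have hD_dvd : Nat.card ((P : Subgroup G) ⊓ centralizer ({s} : Set G) : Subgroup G) ∣ 9 := by
    rw [← card_sylow3 h P]
    exact Subgroup.card_dvd_of_le inf_le_left
  have huD : u ∈ ((P : Subgroup G) ⊓ centralizer ({s} : Set G) : Subgroup G) := by
    refine Subgroup.mem_inf.mpr ⟨hu, ?_⟩
    rw [mem_centralizer_iff]
    intro y hy
    rw [Set.mem_singleton_iff] at hy
    subst hy
    calc y * u = (y * u * y⁻¹) * y := by group
      _ = u * y := by rw [hcomm]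
  have hD1 : Nat.card ((P : Subgroup G) ⊓ centralizer ({s} : Set G) : Subgroup G) ≠ 1 := by
    intro h1
    have hbot := Subgroup.card_eq_one.mp h1
    rw [hbot, mem_bot] at huD
    exact hu1 huD
  have hD9 : Nat.card ((P : Subgroup G) ⊓ centralizer ({s} : Set G) : Subgroup G) ≠ 9 := by
    intro h9
    have hle : (P : Subgroup G) ≤ (P : Subgroup G) ⊓ centralizer ({s} : Set G) := by
      have heq : ((P : Subgroup G) ⊓ centralizer ({s} : Set G) : Subgroup G) = (P : Subgroup G) := by
        apply Subgroup.eq_of_le_of_card_ge inf_le_left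
        rw [h9, card_sylow3 h P]
      rw [heq]
    apply hs1
    apply faithful h P
    intro x
    by_cases hx : x = pt P
    · rw [hx]; exact hsa
    · obtain ⟨k, hk, -⟩ := reg h P hb x hx
      have hkc : (k : G) ∈ centralizer ({s} : Set G) := (Subgroup.mem_inf.mp (hle k.2)).2
      rw [mem_centralizer_iff] at hkc
      have hkc' := hkc s rfl
      rw [← hk, ← mul_smul, hkc', mul_smul, hsb]
  have hD3 : Nat.card ((P : Subgroup G) ⊓ centralizer ({s} : Set G) : Subgroup G) = 3 := by
    have hle : Nat.card ((P : Subgroup G) ⊓ centralizer ({s} : Set G) : Subgroup G) ≤ 9 :=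
      Nat.le_of_dvd (by norm_num) hD_dvd
    interval_cases hn : Nat.card ((P : Subgroup G) ⊓ centralizer ({s} : Set G) : Subgroup G)
      <;> omega
  -- the fixed points of `s`
  have hfix : Nat.card {x : X3 P // s • x = x} = 4 := by
    let f : Option ↥((P : Subgroup G) ⊓ centralizer ({s} : Set G) : Subgroup G) →
        {x : X3 P // s • x = x} := fun o => match o with
      | none => ⟨pt P, hsa⟩
      | some k => ⟨(k : G) • b, by
          have hkc : (k : G) ∈ centralizer ({s} : Set G) := (Subgroup.mem_inf.mp k.2).2
          rw [mem_centralizer_iff] at hkc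
          rw [← mul_smul, hkc s rfl, mul_smul, hsb]⟩
    have hf : Function.Bijective f := by
      constructor
      · intro x y hxy
        cases x with
        | none =>
          cases y with
          | none => rfl
          | some k' =>
            exfalso
            have h1 : pt P = (k' : G) • b := congrArg Subtype.val hxy
            exact smul_ne_pt P hb (le_normalizer (Subgroup.mem_inf.mp k'.2).1) h1.symm
        | some k =>
          cases y with
          | none =>
            exfalso
            have h1 : (k : G) • b = pt P := congrArg Subtype.val hxy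
            exact smul_ne_pt P hb (le_normalizer (Subgroup.mem_inf.mp k.2).1) h1
          | some k' =>
            have h1 : (k : G) • b = (k' : G) • b := congrArg Subtype.val hxy
            have h2 := smul_inj h P hb (Subgroup.mem_inf.mp k.2).1 (Subgroup.mem_inf.mp k'.2).1 h1
            rw [Subtype.ext h2]
      · rintro ⟨x, hx⟩
        by_cases hxp : x = pt P
        · exact ⟨none, Subtype.ext hxp.symm⟩
        · obtain ⟨k, hk, -⟩ := reg h P hb x hxp
          have hconj : s * (k : G) * s⁻¹ ∈ (P : Subgroup G) :=
            (mem_normalizer_iff.mp hsN (k : G)).mp k.2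
          have h1 : (s * (k : G) * s⁻¹) • b = (k : G) • b := by
            rw [mul_smul, mul_smul, hsinv, hsb, hk, hx]
          have h2 := smul_inj h P hb hconj k.2 h1
          have hkc : (k : G) ∈ centralizer ({s} : Set G) := by
            rw [mem_centralizer_iff]
            intro y hy
            rw [Set.mem_singleton_iff] at hy
            subst hy
            calc y * (k : G) = (y * (k : G) * y⁻¹) * y := by group
              _ = (k : G) * y := by rw [h2]
          exact ⟨some ⟨(k : G), Subgroup.mem_inf.mpr ⟨k.2, hkc⟩⟩, Subtype.ext hk⟩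
    rw [← Nat.card_congr (Equiv.ofBijective f hf), Finite.card_option, hD3]
  -- the sign of `s`
  have := Fintype.ofFinite (X3 P)
  have hsign : Equiv.Perm.sign (MulAction.toPerm s : Equiv.Perm (X3 P)) = 1 :=
    hom_eq_one_of_simple hG (Equiv.Perm.sign.comp (MulAction.toPermHom G (X3 P))) s
  have hσ1 : (MulAction.toPerm s : Equiv.Perm (X3 P)) ≠ 1 := by
    intro h1
    apply hs1
    apply faithful h P
    intro x
    have := congrArg (fun σ : Equiv.Perm (X3 P) => σ x) h1
    exact this
  have hσ2 : (MulAction.toPerm s : Equiv.Perm (X3 P)) ^ 2 = 1 := by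
    ext x
    rw [pow_two]
    show s • s • x = x
    rw [← mul_smul, hss, one_smul]
  have hord : orderOf (MulAction.toPerm s : Equiv.Perm (X3 P)) = 2 :=
    orderOf_eq_prime hσ2 hσ1
  obtain ⟨n, hn⟩ := Equiv.Perm.cycleType_prime_order
    (σ := (MulAction.toPerm s : Equiv.Perm (X3 P))) (by rw [hord]; exact Nat.prime_two)
  rw [hord] at hn
  have hfp := Equiv.Perm.card_fixedPoints (MulAction.toPerm s : Equiv.Perm (X3 P))
  have hfp4 : Fintype.card (Function.fixedPoints (MulAction.toPerm s : Equiv.Perm (X3 P))) = 4 := by
    rw [← Nat.card_eq_fintype_card, ← hfix]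
    rfl
  have hcard10 : Fintype.card (X3 P) = 10 := by
    rw [← Nat.card_eq_fintype_card, card_X3 h P]
  have hsumle := Equiv.Perm.sum_cycleType_le (MulAction.toPerm s : Equiv.Perm (X3 P))
  rw [hfp4, hcard10] at hfp
  rw [hcard10] at hsumle
  have hsum : (MulAction.toPerm s : Equiv.Perm (X3 P)).cycleType.sum = 6 := by omega
  rw [Equiv.Perm.sign_of_cycleType, hsum, hn, Multiset.card_replicate] at hsign
  rw [hn, Multiset.sum_replicate, smul_eq_mul] at hsum
  have hn2 : n + 1 = 3 := by omega
  rw [hn2] at hsign
  revert hsign
  decide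

end Cfsg.Agent.Lib.Helper99.G360
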