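import Mathlib
import Cfsg.Agent.Lib.Helper99.G360c

/-!
Simple groups of order 360 (helper99), part D: a simple group of order `360` is isomorphic to the
reference group `K0 F 4` over a field with nine elements; hence any two simple groups of order
`360` are isomorphic.
-/

set_option autoImplicit false
set_option linter.unusedSectionVars false

namespace Cfsg.Agent.Lib.Helper99.G360

open Subgroup MulAction
open Cfsg.Agent.Lib.Helper17.Sylow Cfsg.Agent.Lib.Helper17.Embed
open Cfsg.Agent.Lib.Helper17.FixedPoints Cfsg.Agent.Lib.Helper17.SylowConj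
open Cfsg.Agent.Lib.Helper99.FLine

universe u v

variable {G : Type u} [Group G] [Finite G] [IsSimpleGroup G]

/-- the two-point stabilizer as a subgroup -/
def Hs (P : Sylow 3 G) (b : X3 P) : Subgroup G := stabilizer G (pt P) ⊓ stabilizer G b

theorem mem_Hs (P : Sylow 3 G) (b : X3 P) (g : G) :
    g ∈ Hs P b ↔ g • pt P = pt P ∧ g • b = b := by
  unfold Hs
  rw [Subgroup.mem_inf, mem_stabilizer_iff, mem_stabilizer_iff]

theorem card_Hs (h : Nat.card G = 360) (P : Sylow 3 G) {b : X3 P} (hb : b ≠ pt P) :
    Nat.card (Hs P b) = 4 := by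
  rw [← card_H h P hb]
  exact Nat.card_congr (Equiv.subtypeEquivRight (mem_Hs P b))

/-- a nontrivial element of the two-point stabilizer centralizes no nontrivial element of `P` -/
theorem free_H (h : Nat.card G = 360) (P : Sylow 3 G) {b : X3 P} (hb : b ≠ pt P)
    (g : G) (hga : g • pt P = pt P) (hgb : g • b = b) (hg1 : g ≠ 1)
    (u : G) (hu : u ∈ (P : Subgroup G)) (hu1 : u ≠ 1) : g * u * g⁻¹ ≠ u := by
  intro hcomm
  have hgH : g ∈ Hs P b := (mem_Hs P b g).mpr ⟨hga, hgb⟩
  have hg4 : g ^ 4 = 1 := by
    have h1 := pow_card_eq_one' (G := Hs P b) (x := ⟨g, hgH⟩)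
    rw [card_Hs h P hb] at h1
    exact congrArg Subtype.val h1
  by_cases hgg : g * g = 1
  · exact free_inv h P hb g hga hgb hg1 hgg u hu hu1 hcomm
  · have h2 : (g * g) * (g * g) = 1 := by
      have e : (g * g) * (g * g) = g ^ 4 := by
        simp [pow_succ, mul_assoc]
      rw [e, hg4]
    have h3 : (g * g) • pt P = pt P := by rw [mul_smul, hga, hga]
    have h4 : (g * g) • b = b := by rw [mul_smul, hgb, hgb]
    have h5 : (g * g) * u * (g * g)⁻¹ = u := by
      calc (g * g) * u * (g * g)⁻¹ = g * (g * u * g⁻¹) * g⁻¹ := by group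
        _ = u := by rw [hcomm, hcomm]
    exact free_inv h P hb (g * g) h3 h4 hgg h2 u hu hu1 h5

/-- a simple group of order `360` is isomorphic to `K0 F 4` for a field with nine elements -/
theorem exists_field_iso (h : Nat.card G = 360) :
    ∃ (F : Type u) (_ : Field F) (_ : Finite F),
      Nat.card F = 9 ∧ Nonempty (G ≃* K0 F 4) := by
  obtain ⟨P⟩ : Nonempty (Sylow 3 G) := inferInstance
  -- a second point
  have hex : ∃ b : X3 P, b ≠ pt P := by
    by_contra hcon
    push Not at hcon
    have hsub : Subsingleton (X3 P) := ⟨fun x y => (hcon x).trans (hcon y).symm⟩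
    have h1 : Nat.card (X3 P) ≤ 1 := Finite.card_le_one_iff_subsingleton.mpr hsub
    rw [card_X3 h P] at h1
    omega
  obtain ⟨b, hb⟩ := hex
  have hP9 := card_sylow3 h P
  have hK1 : ∃ k ∈ (P : Subgroup G), k ≠ 1 := by
    by_contra hcon
    push Not at hcon
    have hbot : (P : Subgroup G) = ⊥ := (Subgroup.eq_bot_iff_forall _).mpr hcon
    rw [hbot, Subgroup.card_bot] at hP9
    omega
  have hHnorm : ∀ g : G, g • pt P = pt P → g • b = b →
      ∀ k ∈ (P : Subgroup G), g * k * g⁻¹ ∈ (P : Subgroup G) := by
    intro g hga _ k hk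
    exact (mem_normalizer_iff.mp ((smul_pt_iff P g).mp hga) k).mp hk
  have hHcomm : ∀ g g' : G, g • pt P = pt P → g • b = b → g' • pt P = pt P → g' • b = b →
      g * g' = g' * g := by
    intro g g' hga hgb hga' hgb'
    have : Fact (Nat.Prime 2) := ⟨Nat.prime_two⟩
    have h4 : Nat.card (Hs P b) = 2 ^ 2 := by rw [card_Hs h P hb]; norm_num
    have := IsPGroup.commutative_of_card_eq_prime_sq h4
      ⟨g, (mem_Hs P b g).mpr ⟨hga, hgb⟩⟩ ⟨g', (mem_Hs P b g').mpr ⟨hga', hgb'⟩⟩
    exact congrArg Subtype.val this
  have hirr : ∀ L : Subgroup G, L ≤ (P : Subgroup G) →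
      (∀ g : G, g • pt P = pt P → g • b = b → ∀ k ∈ L, g * k * g⁻¹ ∈ L) →
      L = ⊥ ∨ L = (P : Subgroup G) := by
    intro L hLP hLinv
    by_cases hL : L = ⊥
    · exact Or.inl hL
    · right
      obtain ⟨v, hvL, hv1⟩ : ∃ v ∈ L, v ≠ 1 := by
        by_contra hcon
        push Not at hcon
        exact hL ((Subgroup.eq_bot_iff_forall _).mpr hcon)
      let f : Option (Hs P b) → L := fun o => match o with
        | none => 1
        | some g => ⟨(g : G) * v * (g : G)⁻¹,
            hLinv g ((mem_Hs P b g).mp g.2).1 ((mem_Hs P b g).mp g.2).2 v hvL⟩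
      have hf : Function.Injective f := by
        intro x y hxy
        cases x with
        | none =>
          cases y with
          | none => rfl
          | some g' =>
            exfalso
            have h1 : (1 : G) = (g' : G) * v * (g' : G)⁻¹ := congrArg Subtype.val hxy
            apply hv1
            have h2 : v = (g' : G)⁻¹ * ((g' : G) * v * (g' : G)⁻¹) * (g' : G) := by group
            rw [h2, ← h1]
            group
        | some g =>
          cases y with
          | none =>
            exfalso
            have h1 : (g : G) * v * (g : G)⁻¹ = (1 : G) := congrArg Subtype.val hxy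
            apply hv1
            have h2 : v = (g : G)⁻¹ * ((g : G) * v * (g : G)⁻¹) * (g : G) := by group
            rw [h2, h1]
            group
          | some g' =>
            have h1 : (g : G) * v * (g : G)⁻¹ = (g' : G) * v * (g' : G)⁻¹ :=
              congrArg Subtype.val hxy
            have h2 : ((g' : G)⁻¹ * (g : G)) * v * ((g' : G)⁻¹ * (g : G))⁻¹ = v := by
              calc ((g' : G)⁻¹ * (g : G)) * v * ((g' : G)⁻¹ * (g : G))⁻¹
                  = (g' : G)⁻¹ * ((g : G) * v * (g : G)⁻¹) * (g' : G) := by group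
                _ = v := by rw [h1]; group
            have h3 : (g' : G)⁻¹ * (g : G) ∈ Hs P b := (Hs P b).mul_mem ((Hs P b).inv_mem g'.2) g.2
            have h4 : (g' : G)⁻¹ * (g : G) = 1 := by
              by_contra hne
              exact free_H h P hb _ ((mem_Hs P b _).mp h3).1 ((mem_Hs P b _).mp h3).2 hne v
                (hLP hvL) hv1 h2
            have h5 : (g : G) = (g' : G) := (inv_mul_eq_one.mp h4).symm
            rw [Subtype.ext h5]
      have hc := Nat.card_le_card_of_injective f hf
      rw [Finite.card_option, card_Hs h P hb] at hc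
      have hdvd : Nat.card L ∣ 9 := by
        rw [← hP9]
        exact Subgroup.card_dvd_of_le hLP
      have hle : Nat.card L ≤ 9 := Nat.le_of_dvd (by norm_num) hdvd
      have h9 : Nat.card L = 9 := by
        interval_cases hn : Nat.card L <;> omega
      apply Subgroup.eq_of_le_of_card_ge hLP
      rw [h9, hP9]
  have htr : ∃ t : G, t • pt P = b := by
    induction b using QuotientGroup.induction_on with
    | H g =>
    refine ⟨g, ?_⟩
    show g • ((1 : G) : G ⧸ normalizer ((P : Subgroup G) : Set G)) = _
    rw [MulAction.Quotient.smul_mk]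
    simp
  obtain ⟨F, instF, finF, hcard, hiso⟩ := exists_field_mulEquiv_K0 (X := X3 P) (faithful h P)
    (pt P) b hb.symm (P : Subgroup G) (fun k hk => smul_pt_of_mem P hk) (sylow3_comm h P)
    (reg h P hb) hK1 hHnorm hHcomm hirr htr 4 (card_H h P hb) (by norm_num)
    (by rw [hP9]; norm_num)
  exact ⟨F, instF, finF, by rw [hcard, hP9], hiso⟩

/-- any two simple groups of order `360` are isomorphic -/
theorem nonempty_mulEquiv (h : Nat.card G = 360) {G' : Type v} [Group G'] [Finite G']
    [IsSimpleGroup G'] (h' : Nat.card G' = 360) : Nonempty (G ≃* G') := by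
  obtain ⟨F, instF, finF, hcard, ⟨e⟩⟩ := exists_field_iso h
  obtain ⟨F', instF', finF', hcard', ⟨e'⟩⟩ := exists_field_iso h'
  obtain ⟨e''⟩ := nonempty_K0_congr_of_card (F := F) (F' := F') (by rw [hcard, hcard']) 4
  exact ⟨(e.trans e'').trans e'.symm⟩

end Cfsg.Agent.Lib.Helper99.G360
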