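import Mathlib
import Cfsg.Agent.Lib.Helper92.M11Stmt

/-!
# Piece CONG of S0434: Sylow subgroups meeting trivially, `n_p ≡ 1 mod |P|`
-/

set_option autoImplicit false
set_option linter.unusedSectionVars false

namespace Cfsg.Agent.Lib.Helper99.M11CONG

universe u

theorem main : Cfsg.Agent.Lib.Helper92.M11Stmt.SylCong.{u} := by
  intro G _ _ p _ P hTI
  classical
  have hfixP : ∀ g : (P : Subgroup G), g • P = P := by
    intro g
    rw [Subgroup.smul_def, Sylow.smul_eq_iff_mem_normalizer]
    exact Subgroup.le_normalizer g.2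
  have hstab : ∀ Q : Sylow p G, Q ≠ P → MulAction.stabilizer (P : Subgroup G) Q = ⊥ := by
    intro Q hQ
    rw [eq_bot_iff]
    intro g hg
    rw [MulAction.mem_stabilizer_iff, Subgroup.smul_def, Sylow.smul_eq_iff_mem_normalizer] at hg
    have h1 : (g : G) ∈ (P : Subgroup G) ⊓ (Q : Subgroup G) := by
      rw [← IsPGroup.inf_normalizer_sylow P.2 Q]
      exact ⟨g.2, hg⟩
    rw [hTI Q hQ, Subgroup.mem_bot] at h1
    rw [Subgroup.mem_bot]
    exact Subtype.ext h1
  have e := MulAction.selfEquivSigmaOrbitsQuotientStabilizer (P : Subgroup G) (Sylow p G)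
  have : Fintype (MulAction.orbitRel.Quotient (P : Subgroup G) (Sylow p G)) := Fintype.ofFinite _
  have hcard : Nat.card (Sylow p G) = ∑ ω : MulAction.orbitRel.Quotient (P : Subgroup G) (Sylow p G),
      (MulAction.stabilizer (P : Subgroup G) ω.out).index := by
    rw [Nat.card_congr e, Nat.card_sigma]
    rfl
  set ω₀ : MulAction.orbitRel.Quotient (P : Subgroup G) (Sylow p G) := Quotient.mk'' P with hω₀
  have hout : (ω₀.out : Sylow p G) = P := by
    have h1 : (Quotient.mk'' ω₀.out : MulAction.orbitRel.Quotient (P : Subgroup G) (Sylow p G))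
        = Quotient.mk'' P := Quotient.out_eq' ω₀
    rw [Quotient.eq''] at h1
    have h2 : ω₀.out ∈ MulAction.orbit (P : Subgroup G) P := h1
    obtain ⟨g, hg⟩ := h2
    rw [← hg]
    exact hfixP g
  have h0 : (MulAction.stabilizer (P : Subgroup G) ω₀.out).index = 1 := by
    rw [hout, Subgroup.index_eq_one, eq_top_iff]
    intro g _
    exact hfixP g
  have hne : ∀ ω ∈ (Finset.univ.erase ω₀ :
      Finset (MulAction.orbitRel.Quotient (P : Subgroup G) (Sylow p G))),
      (MulAction.stabilizer (P : Subgroup G) ω.out).index = Nat.card (P : Subgroup G) := by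
    intro ω hω
    have hω' : ω ≠ ω₀ := (Finset.mem_erase.mp hω).1
    have h1 : (ω.out : Sylow p G) ≠ P := by
      intro h
      apply hω'
      have h2 : ω = Quotient.mk'' ω.out := (Quotient.out_eq' ω).symm
      rw [h2, h]
    rw [hstab _ h1, Subgroup.index_bot]
  rw [hcard, ← Finset.add_sum_erase _ _ (Finset.mem_univ ω₀), h0, Finset.sum_congr rfl hne,
    Finset.sum_const, smul_eq_mul]
  unfold Nat.ModEq
  simp

end Cfsg.Agent.Lib.Helper99.M11CONG
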