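import Mathlib
import Cfsg.Agent.Lib.Helper92.M11Stmt

/-!
# Piece TI of S0434: distinct Sylow 3-subgroups of a group of order 7920 meet trivially
(under the two centralizer hypotheses)
-/

set_option autoImplicit false
set_option linter.unusedSectionVars false

namespace Cfsg.Agent.Lib.Helper99.M11TI

universe u

theorem main : Cfsg.Agent.Lib.Helper92.M11Stmt.SylTI.{u} := by
  intro G _ _ hG hC h3 P Q hPQ
  classical
  have hcard : ∀ R : Sylow 3 G, Nat.card (R : Subgroup G) = 9 := by
    intro R
    obtain ⟨k, hk⟩ := IsPGroup.iff_card.mp R.2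
    have hidx := R.not_dvd_index
    have hmul : Nat.card (R : Subgroup G) * (R : Subgroup G).index = 7920 := by
      rw [Subgroup.card_mul_index, hG]
    rw [hk] at hmul
    have hk2 : k ≤ 2 := by
      by_contra hcon
      push Not at hcon
      have h27 : 3 ^ 3 ∣ 7920 := by
        rw [← hmul]
        exact Dvd.dvd.mul_right (pow_dvd_pow 3 hcon) _
      omega
    interval_cases k
    · exfalso; apply hidx; omega
    · exfalso; apply hidx; omega
    · rw [hk]; norm_num
  rw [eq_bot_iff]
  intro x hx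
  rw [Subgroup.mem_bot]
  by_contra hx1
  obtain ⟨hxP, hxQ⟩ := hx
  have hord : orderOf x ∣ 9 := by
    have h := Subgroup.orderOf_dvd_natCard (P : Subgroup G) hxP
    rwa [hcard P] at h
  obtain ⟨y, hyP, hyQ, hy3⟩ :
      ∃ y : G, y ∈ (P : Subgroup G) ∧ y ∈ (Q : Subgroup G) ∧ orderOf y = 3 := by
    have h9 : (9 : ℕ) = 3 ^ 2 := by norm_num
    rw [h9, Nat.dvd_prime_pow Nat.prime_three] at hord
    obtain ⟨j, hj, hjx⟩ := hord
    interval_cases j
    · exfalso; apply hx1; rwa [pow_zero, orderOf_eq_one_iff] at hjx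
    · exact ⟨x, hxP, hxQ, by simpa using hjx⟩
    · refine ⟨x ^ 3, Subgroup.pow_mem _ hxP 3, Subgroup.pow_mem _ hxQ 3, ?_⟩
      rw [orderOf_pow' x (by norm_num : (3 : ℕ) ≠ 0), hjx]
      norm_num
  have hle : ∀ R : Sylow 3 G, y ∈ (R : Subgroup G) →
      (R : Subgroup G) ≤ Subgroup.centralizer ({y} : Set G) := by
    intro R hyR g hg
    rw [Subgroup.mem_centralizer_iff]
    intro z hz
    rw [Set.mem_singleton_iff] at hz
    rw [hz]
    have hcomm := IsPGroup.isMulCommutative_of_card_eq_prime_sq (p := 3) (G := (R : Subgroup G))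
      (by rw [hcard R]; norm_num)
    exact congrArg Subtype.val (hcomm.is_comm.comm ⟨y, hyR⟩ ⟨g, hg⟩)
  have hPC := hle P hyP
  have hQC := hle Q hyQ
  have hy1 : y ≠ 1 := by
    intro h
    rw [h, orderOf_one] at hy3
    omega
  have hdvd : Nat.card (Subgroup.centralizer ({y} : Set G)) ∣ 144 :=
    hC y hy1 (by rw [hy3]; norm_num) (by rw [hy3]; norm_num)
  have h4 : ¬ 4 ∣ Nat.card (Subgroup.centralizer ({y} : Set G)) := h3 y hy3
  have hidx : ((P.subtype hPC : Sylow 3 (Subgroup.centralizer ({y} : Set G))) :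
      Subgroup (Subgroup.centralizer ({y} : Set G))).index ∣ 2 := by
    have h1 := Subgroup.card_mul_index ((P.subtype hPC : Sylow 3 (Subgroup.centralizer ({y} : Set G))) :
      Subgroup (Subgroup.centralizer ({y} : Set G)))
    have h2 : Nat.card ((P.subtype hPC : Sylow 3 (Subgroup.centralizer ({y} : Set G))) :
      Subgroup (Subgroup.centralizer ({y} : Set G))) = 9 := by
      rw [Sylow.coe_subtype, ← hcard P]
      exact Nat.card_congr (Subgroup.subgroupOfEquivOfLe hPC).toEquiv
    rw [h2] at h1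
    obtain ⟨i, hi⟩ : ∃ i, ((P.subtype hPC : Sylow 3 (Subgroup.centralizer ({y} : Set G))) :
      Subgroup (Subgroup.centralizer ({y} : Set G))).index = i := ⟨_, rfl⟩
    rw [hi] at h1 ⊢
    rw [← h1] at hdvd h4
    have h16 : i ∣ 16 := Nat.dvd_of_mul_dvd_mul_left (by norm_num : 0 < 9) hdvd
    have hle16 := Nat.le_of_dvd (by norm_num) h16
    interval_cases i <;> omega
  have hone : Nat.card (Sylow 3 (Subgroup.centralizer ({y} : Set G))) = 1 := by
    have hd := (Sylow.card_dvd_index (P.subtype hPC)).trans hidx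
    have hm := card_sylow_modEq_one 3 (Subgroup.centralizer ({y} : Set G))
    have hle2 := Nat.le_of_dvd (by norm_num) hd
    unfold Nat.ModEq at hm
    obtain ⟨c, hc⟩ : ∃ c, Nat.card (Sylow 3 (Subgroup.centralizer ({y} : Set G))) = c := ⟨_, rfl⟩
    rw [hc] at hm hle2 ⊢
    interval_cases c <;> omega
  have hsub : P.subtype hPC = Q.subtype hQC := by
    have := (Nat.card_eq_one_iff_unique.mp hone).1
    exact Subsingleton.elim _ _
  apply hPQ
  have h5 : (P : Subgroup G).subgroupOf (Subgroup.centralizer ({y} : Set G))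
      = (Q : Subgroup G).subgroupOf (Subgroup.centralizer ({y} : Set G)) := by
    have h := congrArg (fun R : Sylow 3 (Subgroup.centralizer ({y} : Set G)) =>
      (R : Subgroup (Subgroup.centralizer ({y} : Set G)))) hsub
    simpa only [Sylow.coe_subtype] using h
  rw [Subgroup.subgroupOf_inj, inf_eq_left.mpr hPC, inf_eq_left.mpr hQC] at h5
  exact Sylow.ext h5

end Cfsg.Agent.Lib.Helper99.M11TI
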