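import Mathlib
import Cfsg.Agent.Lib.Helper25.AICSpec

/-! Piece PL1b of S2202: an abelian non-cyclic Sylow 2-subgroup has at least three
involutions. -/

set_option autoImplicit false

namespace Cfsg.Agent.Lib.Helper99.AICPL1b

open Subgroup Cfsg.Agent.Lib.Helper25.AICSpec

universe u

/-- an abelian non-cyclic finite 2-subgroup contains three involutions -/
theorem three_invol {G : Type u} [Group G] [Finite G] (S : Subgroup G) (hS : IsPGroup 2 ↥S)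
    (hc : ∀ a ∈ S, ∀ b ∈ S, a * b = b * a) (hnc : ¬ IsCyclic ↥S) :
    ∃ a b c : G, a ∈ S ∧ b ∈ S ∧ c ∈ S ∧ orderOf a = 2 ∧ orderOf b = 2 ∧ orderOf c = 2 ∧
      a ≠ b ∧ a ≠ c ∧ b ≠ c := by
  haveI : Fact (Nat.Prime 2) := ⟨Nat.prime_two⟩
  have hpow : ∀ y ∈ S, ∃ k, orderOf y = 2 ^ k := by
    intro y hy
    obtain ⟨k, hk⟩ := hS ⟨y, hy⟩
    have h1 : y ^ 2 ^ k = 1 := by
      have := congrArg Subtype.val hk
      simpa using this
    obtain ⟨j, -, hj⟩ := (Nat.dvd_prime_pow Nat.prime_two).1 (orderOf_dvd_of_pow_eq_one h1)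
    exact ⟨j, hj⟩
  haveI : Nonempty ↥S := ⟨1⟩
  obtain ⟨x0, hx0⟩ := Finite.exists_max (fun y : ↥S => orderOf (y : G))
  obtain ⟨x, hxS⟩ := x0
  obtain ⟨e, he⟩ := hpow x hxS
  have hexp : ∀ y ∈ S, y ^ 2 ^ e = 1 := by
    intro y hy
    obtain ⟨f, hf⟩ := hpow y hy
    have hle : orderOf y ≤ orderOf x := hx0 ⟨y, hy⟩
    rw [hf, he] at hle
    have hfe : f ≤ e := (Nat.pow_le_pow_iff_right (by norm_num)).1 hle
    have hdvd : orderOf y ∣ 2 ^ e := by rw [hf]; exact pow_dvd_pow 2 hfe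
    exact orderOf_dvd_iff_pow_eq_one.1 hdvd
  have hZS : zpowers x ≤ S := zpowers_le.2 hxS
  obtain ⟨y, hyS, hyZ⟩ : ∃ y ∈ S, y ∉ zpowers x := by
    by_contra hcon
    push Not at hcon
    have hEq : S = zpowers x := le_antisymm hcon hZS
    apply hnc
    rw [hEq]
    exact Subgroup.isCyclic_zpowers x
  have hy1 : y ≠ 1 := by
    rintro rfl
    exact hyZ (one_mem _)
  have he1 : 1 ≤ e := by
    by_contra h
    have h0 : e = 0 := by omega
    have h2 := hexp y hyS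
    rw [h0, pow_zero, pow_one] at h2
    exact hy1 h2
  have hex : ∃ i, y ^ 2 ^ i ∈ zpowers x := ⟨e, by rw [hexp y hyS]; exact one_mem _⟩
  have hi0 : Nat.find hex ≠ 0 := by
    intro h0
    have h2 := Nat.find_spec hex
    rw [h0, pow_zero, pow_one] at h2
    exact hyZ h2
  obtain ⟨j, hj⟩ := Nat.exists_eq_succ_of_ne_zero hi0
  have hy'Z : y ^ 2 ^ j ∉ zpowers x := Nat.find_min hex (by omega)
  have hy'2 : (y ^ 2 ^ j) ^ 2 ∈ zpowers x := by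
    have h2 := Nat.find_spec hex
    rw [hj, Nat.succ_eq_add_one, pow_succ, pow_mul] at h2
    exact h2
  have hy'S : y ^ 2 ^ j ∈ S := S.pow_mem hyS _
  rw [← mem_powers_iff_mem_zpowers, Submonoid.mem_powers_iff] at hy'2
  obtain ⟨k, hk⟩ := hy'2
  have h3 : 2 ^ e = 2 * 2 ^ (e - 1) := by rw [← pow_succ', Nat.sub_add_cancel he1]
  have hkeven : 2 ∣ k := by
    have h1 : ((y ^ 2 ^ j) ^ 2) ^ 2 ^ (e - 1) = 1 := by
      rw [← pow_mul, ← h3]
      exact hexp _ hy'S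
    rw [← hk, ← pow_mul] at h1
    have h2 : orderOf x ∣ k * 2 ^ (e - 1) := orderOf_dvd_of_pow_eq_one h1
    rw [he, h3] at h2
    exact Nat.dvd_of_mul_dvd_mul_right (by positivity) h2
  obtain ⟨m, hm⟩ := hkeven
  have hxmS : x ^ m ∈ S := S.pow_mem hxS _
  have hbS : y ^ 2 ^ j * (x ^ m)⁻¹ ∈ S := S.mul_mem hy'S (S.inv_mem hxmS)
  have hbZ : y ^ 2 ^ j * (x ^ m)⁻¹ ∉ zpowers x := by
    intro h
    apply hy'Z
    have h2 : y ^ 2 ^ j = y ^ 2 ^ j * (x ^ m)⁻¹ * x ^ m := by group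
    rw [h2]
    exact (zpowers x).mul_mem h (Subgroup.pow_mem _ (mem_zpowers x) m)
  have hb1 : y ^ 2 ^ j * (x ^ m)⁻¹ ≠ 1 := by
    intro h
    exact hbZ (h ▸ one_mem _)
  have hb2 : (y ^ 2 ^ j * (x ^ m)⁻¹) ^ 2 = 1 := by
    have hcomm : Commute (y ^ 2 ^ j) (x ^ m)⁻¹ := hc _ hy'S _ (S.inv_mem hxmS)
    rw [hcomm.mul_pow, ← hk, hm, inv_pow, ← pow_mul, mul_comm m 2]
    exact mul_inv_cancel _
  have hbo : orderOf (y ^ 2 ^ j * (x ^ m)⁻¹) = 2 := orderOf_eq_prime hb2 hb1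
  have haS : x ^ 2 ^ (e - 1) ∈ S := S.pow_mem hxS _
  have haZ : x ^ 2 ^ (e - 1) ∈ zpowers x := Subgroup.pow_mem _ (mem_zpowers x) _
  have ha2 : (x ^ 2 ^ (e - 1)) ^ 2 = 1 := by
    rw [← pow_mul, mul_comm, ← h3, ← he]
    exact pow_orderOf_eq_one x
  have ha1 : x ^ 2 ^ (e - 1) ≠ 1 := by
    intro h
    have h2 : orderOf x ∣ 2 ^ (e - 1) := orderOf_dvd_of_pow_eq_one h
    rw [he] at h2
    have h4 := Nat.le_of_dvd (by positivity) h2
    have h5 : 2 ^ (e - 1) < 2 ^ e := Nat.pow_lt_pow_right (by norm_num) (by omega)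
    omega
  have hao : orderOf (x ^ 2 ^ (e - 1)) = 2 := orderOf_eq_prime ha2 ha1
  have hcomm : Commute (x ^ 2 ^ (e - 1)) (y ^ 2 ^ j * (x ^ m)⁻¹) := hc _ haS _ hbS
  have hab2 : (x ^ 2 ^ (e - 1) * (y ^ 2 ^ j * (x ^ m)⁻¹)) ^ 2 = 1 := by
    rw [hcomm.mul_pow, ha2, hb2, one_mul]
  have hab1 : x ^ 2 ^ (e - 1) * (y ^ 2 ^ j * (x ^ m)⁻¹) ≠ 1 := by
    intro h
    apply hbZ
    rw [eq_inv_of_mul_eq_one_right h]
    exact (zpowers x).inv_mem haZ
  refine ⟨x ^ 2 ^ (e - 1), y ^ 2 ^ j * (x ^ m)⁻¹, x ^ 2 ^ (e - 1) * (y ^ 2 ^ j * (x ^ m)⁻¹),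
    haS, hbS, S.mul_mem haS hbS, hao, hbo, orderOf_eq_prime hab2 hab1, ?_, ?_, ?_⟩
  · intro h
    exact hbZ (h ▸ haZ)
  · intro h
    exact hb1 (mul_eq_left.mp h.symm)
  · intro h
    exact ha1 (mul_eq_right.mp h.symm)

theorem main : Cfsg.Agent.Lib.Helper25.AICSpec.PL1b.{u} := by
  intro G _ _ S hyp L
  have hc : ∀ a ∈ (S : Subgroup G), ∀ b ∈ (S : Subgroup G), a * b = b * a :=
    fun a ha b hb => L.comm a b (L.le ha) (L.le hb)
  obtain ⟨a, b, c, ha, hb, hc', hao, hbo, hco, hab, hac, hbc⟩ :=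
    three_invol (S : Subgroup G) S.isPGroup' hc hyp.2.1
  unfold qm1
  classical
  have hcard : ({⟨a, ha, hao⟩, ⟨b, hb, hbo⟩, ⟨c, hc', hco⟩} :
      Finset {t : G // t ∈ S ∧ orderOf t = 2}).card = 3 := by
    rw [Finset.card_insert_of_notMem, Finset.card_insert_of_notMem, Finset.card_singleton]
    · simp only [Finset.mem_singleton, Subtype.mk.injEq]
      exact hbc
    · simp only [Finset.mem_insert, Finset.mem_singleton, Subtype.mk.injEq, not_or]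
      exact ⟨hab, hac⟩
  haveI : Fintype {t : G // t ∈ S ∧ orderOf t = 2} := Fintype.ofFinite _
  rw [Nat.card_eq_fintype_card, ← hcard]
  exact Finset.card_le_univ _

end Cfsg.Agent.Lib.Helper99.AICPL1b
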