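import Mathlib
import Cfsg.Agent.Lib.Helper25.AICSpec

/-! Piece PL2 of S2202: products of involutions have odd order across the normalizer of the
Sylow 2-subgroup, all involutions are conjugate, and the normalizer is transitive on the
involutions of the Sylow 2-subgroup. -/

set_option autoImplicit false

namespace Cfsg.Agent.Lib.Helper99.AICPL2

open Subgroup Cfsg.Agent.Lib.Helper25.AICSpec

universe u

variable {G : Type u} [Group G]

theorem inv_sq {t : G} (ht : orderOf t = 2) : t * t = 1 := by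
  have h := pow_orderOf_eq_one t
  rw [ht, pow_two] at h
  exact h

theorem inv_ne_one {t : G} (ht : orderOf t = 2) : t ≠ 1 := by
  rintro rfl
  rw [orderOf_one] at ht
  omega

theorem orderOf_conj' (g t : G) : orderOf (g⁻¹ * t * g) = orderOf t := by
  have h := orderOf_injective (MulAut.conj g⁻¹).toMonoidHom (MulAut.conj g⁻¹).injective t
  simpa [MulAut.conj_apply] using h

/-- the dihedral relation: `r ^ n * t * r ^ n = t` for `r = t * w` -/
theorem dih_pow {t w : G} (ht : t * t = 1) (hw : w * w = 1) (n : ℕ) :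
    (t * w) ^ n * t * (t * w) ^ n = t := by
  induction n with
  | zero => simp
  | succ n ih =>
    have e1 : (t * w) ^ (n + 1) = (t * w) * (t * w) ^ n := pow_succ' _ _
    have e2 : (t * w) ^ (n + 1) = (t * w) ^ n * (t * w) := pow_succ _ _
    calc (t * w) ^ (n + 1) * t * (t * w) ^ (n + 1)
        = ((t * w) * (t * w) ^ n) * t * ((t * w) ^ n * (t * w)) := by rw [← e1, ← e2]
      _ = (t * w) * ((t * w) ^ n * t * (t * w) ^ n) * (t * w) := by simp only [mul_assoc]
      _ = (t * w) * t * (t * w) := by rw [ih]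
      _ = t * (w * (t * t) * w) := by simp only [mul_assoc]
      _ = t := by rw [ht, mul_one, hw, mul_one]

/-- two involutions whose product has odd order are conjugate -/
theorem conj_of_odd {t w : G} (ht : t * t = 1) (hw : w * w = 1) (k : ℕ)
    (hk : (t * w) ^ (2 * k + 1) = 1) : ∃ g : G, g⁻¹ * t * g = w := by
  refine ⟨(t * w) ^ (k + 1), ?_⟩
  have h1 := dih_pow ht hw (k + 1)
  have h2 : (t * w) ^ (k + 1) * (t * w) ^ (k + 1) = t * w := by
    rw [← pow_add, show k + 1 + (k + 1) = (2 * k + 1) + 1 by ring, pow_succ, hk, one_mul]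
  have hwinv : w⁻¹ = w := inv_eq_of_mul_eq_one_left hw
  have h3 : t * (t * w) ^ (k + 1) = ((t * w) ^ (k + 1))⁻¹ * t := by
    rw [eq_inv_mul_iff_mul_eq, ← mul_assoc]
    exact h1
  calc ((t * w) ^ (k + 1))⁻¹ * t * (t * w) ^ (k + 1)
      = ((t * w) ^ (k + 1))⁻¹ * (t * (t * w) ^ (k + 1)) := by rw [mul_assoc]
    _ = ((t * w) ^ (k + 1))⁻¹ * (((t * w) ^ (k + 1))⁻¹ * t) := by rw [h3]
    _ = ((t * w) ^ (k + 1) * (t * w) ^ (k + 1))⁻¹ * t := by rw [mul_inv_rev, mul_assoc]
    _ = (t * w)⁻¹ * t := by rw [h2]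
    _ = w := by rw [mul_inv_rev, mul_assoc, inv_mul_cancel, mul_one, hwinv]

/-- if the product of two involutions has even order, some involution commutes with both -/
theorem exists_central_invol [Finite G] {t w : G} (ht : t * t = 1) (hw : w * w = 1)
    (heven : Even (orderOf (t * w))) :
    ∃ z : G, orderOf z = 2 ∧ z * t = t * z ∧ z * w = w * z := by
  obtain ⟨k, hk⟩ := heven
  have hpos : 0 < orderOf (t * w) := orderOf_pos _
  have hk0 : 0 < k := by omega
  have hz2 : (t * w) ^ k * (t * w) ^ k = 1 := by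
    rw [← pow_add, ← hk]
    exact pow_orderOf_eq_one _
  have hz1 : (t * w) ^ k ≠ 1 := by
    intro h
    have h5 := orderOf_le_of_pow_eq_one hk0 h
    omega
  haveI : Fact (Nat.Prime 2) := ⟨Nat.prime_two⟩
  have hzo : orderOf ((t * w) ^ k) = 2 := orderOf_eq_prime (by rw [pow_two]; exact hz2) hz1
  have hzinv : ((t * w) ^ k)⁻¹ = (t * w) ^ k := inv_eq_of_mul_eq_one_left hz2
  have hzt : (t * w) ^ k * t = t * (t * w) ^ k := by
    have h1 := dih_pow ht hw k
    have h2 : (t * w) ^ k * t = t * ((t * w) ^ k)⁻¹ := by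
      rw [eq_mul_inv_iff_mul_eq]
      exact h1
    rw [h2, hzinv]
  have hzr : (t * w) ^ k * (t * w) = (t * w) * (t * w) ^ k := (Commute.pow_self (t * w) k).eq
  refine ⟨(t * w) ^ k, hzo, hzt, ?_⟩
  have hwr : w = t * (t * w) := by rw [← mul_assoc, ht, one_mul]
  calc (t * w) ^ k * w = (t * w) ^ k * (t * (t * w)) := by rw [← hwr]
    _ = ((t * w) ^ k * t) * (t * w) := by rw [mul_assoc]
    _ = t * ((t * w) ^ k * (t * w)) := by rw [hzt, mul_assoc]
    _ = t * (t * w) * (t * w) ^ k := by rw [hzr]; simp only [mul_assoc]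
    _ = w * (t * w) ^ k := by rw [← hwr]

theorem odd_prod [Finite G] (S : Sylow 2 G) (L : Loc1 G S) (t w : G) (htS : t ∈ S)
    (ht : orderOf t = 2) (hw : orderOf w = 2) (hwH : w ∉ NS S) : Odd (orderOf (t * w)) := by
  by_contra hodd
  rw [Nat.not_odd_iff_even] at hodd
  obtain ⟨z, hzo, hzt, hzw⟩ := exists_central_invol (inv_sq ht) (inv_sq hw) hodd
  have hzC : z ∈ CS S := by
    rw [← L.cent t htS ht, mem_centralizer_iff]
    intro x hx
    rw [Set.mem_singleton_iff] at hx
    rw [hx]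
    exact hzt.symm
  have hzS : z ∈ S := L.two z hzC ⟨1, by rw [hzo, pow_one]⟩
  have hwC : w ∈ CS S := by
    rw [← L.cent z hzS hzo, mem_centralizer_iff]
    intro x hx
    rw [Set.mem_singleton_iff] at hx
    rw [hx]
    exact hzw
  exact hwH (L.cle hwC)

/-- every involution has a conjugate in the Sylow 2-subgroup -/
theorem exists_conj_mem [Finite G] (S : Sylow 2 G) (w : G) (hw : orderOf w = 2) :
    ∃ g : G, g⁻¹ * w * g ∈ S := by
  haveI : Fact (Nat.Prime 2) := ⟨Nat.prime_two⟩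
  have hp : IsPGroup 2 (zpowers w) :=
    IsPGroup.of_card (n := 1) (by rw [Nat.card_zpowers, hw, pow_one])
  obtain ⟨Q, hQ⟩ := hp.exists_le_sylow
  obtain ⟨g, hg⟩ := MulAction.exists_smul_eq G S Q
  have hwQ : w ∈ (Q : Subgroup G) := hQ (mem_zpowers w)
  rw [← hg, Sylow.coe_subgroup_smul, Subgroup.mem_pointwise_smul_iff_inv_smul_mem] at hwQ
  refine ⟨g, ?_⟩
  have h1 : (MulAut.conj g)⁻¹ • w = g⁻¹ * w * g := by
    rw [← map_inv, MulAut.smul_def, MulAut.conj_apply, inv_inv]
  rw [h1] at hwQ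
  exact hwQ

theorem main : Cfsg.Agent.Lib.Helper25.AICSpec.PL2.{u} := by
  intro G _ _ S hyp L
  have hodd := odd_prod S L
  have key : ∀ v : G, orderOf v = 2 → v ∉ NS S → ∀ s : G, s ∈ S → orderOf s = 2 →
      ∃ g : G, g⁻¹ * s * g = v := by
    intro v hv hvH s hsS hs
    obtain ⟨k, hk⟩ := hodd s v hsS hs hv hvH
    exact conj_of_odd (inv_sq hs) (inv_sq hv) k (by rw [← hk]; exact pow_orderOf_eq_one _)
  have hconjS : ∀ t w : G, t ∈ S → orderOf t = 2 → orderOf w = 2 →
      ∃ g : G, g⁻¹ * t * g = w := by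
    intro t w htS ht hw
    by_cases hwH : w ∈ NS S
    · have hwS : w ∈ S := L.inv_mem w hwH hw
      have hne : NS S ≠ ⊤ := by
        intro h
        exact hyp.2.2 (Subgroup.normalizer_eq_top_iff.1 h)
      obtain ⟨g, hg⟩ : ∃ g : G, g ∉ NS S := by
        by_contra hcon
        push Not at hcon
        exact hne (eq_top_iff.2 (fun x _ => hcon x))
      have hv : orderOf (g⁻¹ * t * g) = 2 := by rw [orderOf_conj', ht]
      have hvH : g⁻¹ * t * g ∉ NS S := by
        intro h
        have hvS := L.inv_mem _ h hv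
        exact hg (L.ti g t htS (inv_ne_one ht) hvS)
      obtain ⟨g1, hg1⟩ := key _ hv hvH t htS ht
      obtain ⟨g2, hg2⟩ := key _ hv hvH w hwS hw
      refine ⟨g1 * g2⁻¹, ?_⟩
      have h5 : w = g2 * (g⁻¹ * t * g) * g2⁻¹ := by
        rw [← hg2]
        group
      rw [h5, ← hg1]
      group
    · exact key w hw hwH t htS ht
  refine ⟨hodd, ?_, ?_⟩
  · intro t w ht hw
    obtain ⟨g, hg⟩ := exists_conj_mem S t ht
    have ht' : orderOf (g⁻¹ * t * g) = 2 := by rw [orderOf_conj', ht]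
    obtain ⟨h, hh⟩ := hconjS _ w hg ht' hw
    refine ⟨g * h, ?_⟩
    rw [← hh]
    group
  · intro t t' htS ht ht'S ht'
    obtain ⟨g, hg⟩ := hconjS t t' htS ht ht'
    exact ⟨g, L.ti g t htS (inv_ne_one ht) (by rw [hg]; exact ht'S), hg⟩

end Cfsg.Agent.Lib.Helper99.AICPL2
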