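import Mathlib
import Cfsg.Agent.Lib.Helper88.FCStmt

/-! Piece GEN of S5293: a finite group is generated by a Sylow `p`-subgroup together with its
elements of order prime to `p`. -/

set_option autoImplicit false

namespace Cfsg.Agent.Lib.Helper99.FCGEN

universe u

theorem orderOf_conj_eq {G : Type u} [Group G] (c b : G) :
    orderOf (c * b * c⁻¹) = orderOf b := by
  have := orderOf_injective (MulAut.conj c).toMonoidHom (MulAut.conj c).injective b
  simpa [MulAut.conj_apply] using this

theorem main : Cfsg.Agent.Lib.Helper88.FCStmt.SylowGen.{u} := by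
  intro G _ _ p _ R g
  have hp : p.Prime := Fact.out
  have key : Subgroup.closure (((R : Subgroup G) : Set G) ∪ {h : G | (orderOf h).Coprime p})
      = ⊤ := by
    set s : Set G := {h : G | (orderOf h).Coprime p} with hs
    set H : Subgroup G := Subgroup.closure (((R : Subgroup G) : Set G) ∪ s) with hH
    have hconj : Group.conjugatesOfSet s ⊆ s := by
      intro x hx
      rw [Group.mem_conjugatesOfSet_iff] at hx
      obtain ⟨a, ha, hax⟩ := hx
      rw [isConj_iff] at hax
      obtain ⟨c, rfl⟩ := hax
      show (orderOf (c * a * c⁻¹)).Coprime p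
      rw [orderOf_conj_eq]
      exact ha
    have hNH : Subgroup.normalClosure s ≤ H := by
      unfold Subgroup.normalClosure
      apply Subgroup.closure_mono
      exact hconj.trans Set.subset_union_right
    have hRH : (R : Subgroup G) ≤ H := by
      intro x hx
      exact Subgroup.subset_closure (Or.inl hx)
    have hpg : IsPGroup p (G ⧸ Subgroup.normalClosure s) := by
      intro y
      obtain ⟨y, rfl⟩ := QuotientGroup.mk_surjective y
      have hn : orderOf y ≠ 0 := (orderOf_pos y).ne'
      obtain ⟨e, n', hn', hne⟩ := Nat.exists_eq_pow_mul_and_not_dvd hn p hp.ne_one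
      refine ⟨e, ?_⟩
      rw [← QuotientGroup.mk_pow, QuotientGroup.eq_one_iff]
      apply Subgroup.subset_normalClosure
      show (orderOf (y ^ p ^ e)).Coprime p
      have h1 : (y ^ p ^ e) ^ n' = 1 := by
        rw [← pow_mul, ← hne]; exact pow_orderOf_eq_one y
      have h2 : orderOf (y ^ p ^ e) ∣ n' := orderOf_dvd_of_pow_eq_one h1
      have h3 : n'.Coprime p := (Nat.Coprime.symm ((Nat.Prime.coprime_iff_not_dvd hp).2 hn'))
      exact Nat.Coprime.coprime_dvd_left h2 h3
    obtain ⟨k, hk⟩ := IsPGroup.iff_card.1 hpg
    have hNidx : (Subgroup.normalClosure s).index = p ^ k := by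
      rw [Subgroup.index_eq_card]; exact hk
    have h1 : H.index ∣ p ^ k := hNidx ▸ Subgroup.index_dvd_of_le hNH
    have h2 : H.index ∣ (R : Subgroup G).index := Subgroup.index_dvd_of_le hRH
    have h3 : ¬ p ∣ (R : Subgroup G).index := Sylow.not_dvd_index R
    obtain ⟨j, hj, hidx⟩ := (Nat.dvd_prime_pow hp).1 h1
    have hj0 : j = 0 := by
      by_contra hj0
      apply h3
      have : p ∣ H.index := by rw [hidx]; exact dvd_pow_self p hj0
      exact this.trans h2
    have hH1 : H.index = 1 := by rw [hidx, hj0, pow_zero]
    exact Subgroup.index_eq_one.1 hH1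
  rw [key]; trivial

end Cfsg.Agent.Lib.Helper99.FCGEN
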