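import Mathlib
import Cfsg.Agent.Lib.Helper75.OTStmt
import Cfsg.Agent.Lib.Helper77.BPSub
import Cfsg.Agent.Lib.Helper16.BPLocal
import Cfsg.Agent.Lib.Helper77.BPAb

set_option autoImplicit false

/-! Piece [LOC] of S4889: the block of `C_G(D)` in a maximal Brauer pair `(D, c)` with abelian `D`
has exactly `|D|` irreducible characters. -/

namespace Cfsg.Agent.Lib.Helper99.OtLOC

open Cfsg

universe u

theorem main : Cfsg.Agent.Lib.Helper75.OTStmt.LOC.{u} := by
  intro G _ _ p _ M hM B D c hmax hab
  have hDC : D ≤ Subgroup.centralizer (D : Set G) := by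
    intro x hx
    rw [Subgroup.mem_centralizer_iff]
    intro y hy
    exact hab y hy x hx
  have hc : IsPBlock M c := hmax.1.1.2
  have hD' : IsDefectGroup p M c (D.subgroupOf (Subgroup.centralizer (D : Set G))) :=
    Cfsg.Agent.Lib.Helper77.BPSub.isDefectGroup_of_le_centralizer hM hmax
      Relation.ReflTransGen.refl hDC
  obtain ⟨e', hmax'⟩ := Cfsg.Agent.Lib.Helper16.BPLocal.exists_maximal_pair hM c hc _ hD'
  have hab' : ∀ x ∈ D.subgroupOf (Subgroup.centralizer (D : Set G)),
      ∀ y ∈ D.subgroupOf (Subgroup.centralizer (D : Set G)), x * y = y * x := by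
    intro x hx y hy
    apply Subtype.ext
    exact hab _ (Subgroup.mem_subgroupOf.mp hx) _ (Subgroup.mem_subgroupOf.mp hy)
  have hcent : ∀ x : ↥(Subgroup.centralizer (D : Set G)),
      x ∈ Subgroup.centralizer
        ((D.subgroupOf (Subgroup.centralizer (D : Set G)) : Subgroup _) : Set _) := by
    intro x
    rw [Subgroup.mem_centralizer_iff]
    intro y hy
    apply Subtype.ext
    have hx := x.2
    rw [Subgroup.mem_centralizer_iff] at hx
    exact hx _ (Subgroup.mem_subgroupOf.mp hy)
  have h := (Cfsg.Agent.Lib.Helper77.BPAb.abelian_nilpotent hM hmax' hab'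
    (fun x _ _ => hcent x)).2
  rw [h]
  exact Nat.card_congr (Subgroup.subgroupOfEquivOfLe hDC).toEquiv

end Cfsg.Agent.Lib.Helper99.OtLOC
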