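import Mathlib
import Cfsg.Agent.Lib.Helper40.GFStmt
import Cfsg.Agent.Lib.Helper8.GFZ1BStmt

/-!
S5886 / Z1B sub-piece NORM2: the normalized coordinates `x = χ x • v + ψ x • v₂` and the
`F`-linear maps `A, D, X` describing `h₁`.
-/

set_option autoImplicit false

namespace Cfsg.Agent.Lib.Helper99.GFZ1BNORM2

open Cfsg.Agent.Lib.Helper40.GFStmt Cfsg.Agent.Lib.Helper8.GFZ1BStmt

universe u

theorem main : Norm2.{u} := by
  intro F L _ _ _ _ c h₁ hM v hv hfix hline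
  -- a second basis vector with determinant one
  obtain ⟨v₂, hdet⟩ : ∃ v₂ : V 2 L, v 0 * v₂ 1 - v 1 * v₂ 0 = 1 := by
    by_cases h0 : v 0 = 0
    · have h1 : v 1 ≠ 0 := by
        intro h1
        apply hv
        funext i
        fin_cases i
        · exact h0
        · exact h1
      refine ⟨![-(v 1)⁻¹, 0], ?_⟩
      simp [h0, h1]
    · refine ⟨![0, (v 0)⁻¹], ?_⟩
      simp [h0]
  obtain ⟨ψ, hψ⟩ : ∃ ψ : V 2 L →ₗ[L] L, ∀ x : V 2 L, ψ x = v 0 * x 1 - v 1 * x 0 :=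
    ⟨v 0 • (LinearMap.proj 1 : V 2 L →ₗ[L] L) - v 1 • (LinearMap.proj 0 : V 2 L →ₗ[L] L),
      fun x => by simp⟩
  obtain ⟨χ, hχ⟩ : ∃ χ : V 2 L →ₗ[L] L, ∀ x : V 2 L, χ x = v₂ 1 * x 0 - v₂ 0 * x 1 :=
    ⟨v₂ 1 • (LinearMap.proj 0 : V 2 L →ₗ[L] L) - v₂ 0 • (LinearMap.proj 1 : V 2 L →ₗ[L] L),
      fun x => by simp⟩
  have hψv : ψ v = 0 := by rw [hψ]; ring
  have hψv₂ : ψ v₂ = 1 := by rw [hψ]; exact hdet
  have hχv : χ v = 1 := by rw [hχ]; linear_combination hdet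
  have hχv₂ : χ v₂ = 0 := by rw [hχ]; ring
  have hdec : ∀ x : V 2 L, x = χ x • v + ψ x • v₂ := by
    intro x
    funext i
    rw [Pi.add_apply, Pi.smul_apply, Pi.smul_apply, smul_eq_mul, smul_eq_mul, hψ, hχ]
    fin_cases i
    · show x 0 = (v₂ 1 * x 0 - v₂ 0 * x 1) * v 0 + (v 0 * x 1 - v 1 * x 0) * v₂ 0
      linear_combination (-(x 0)) * hdet
    · show x 1 = (v₂ 1 * x 0 - v₂ 0 * x 1) * v 1 + (v 0 * x 1 - v 1 * x 0) * v₂ 1
      linear_combination (-(x 1)) * hdet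
  obtain ⟨A, hA⟩ : ∃ A : L →ₗ[F] L, ∀ a, A a = χ (h₁ (a • v)) :=
    ⟨(χ.restrictScalars F) ∘ₗ (h₁ : V 2 L →ₗ[F] V 2 L) ∘ₗ
      ((LinearMap.toSpanSingleton L (V 2 L) v).restrictScalars F), fun a => rfl⟩
  obtain ⟨X, hX⟩ : ∃ X : L →ₗ[F] L, ∀ b, X b = χ (h₁ (b • v₂)) :=
    ⟨(χ.restrictScalars F) ∘ₗ (h₁ : V 2 L →ₗ[F] V 2 L) ∘ₗ
      ((LinearMap.toSpanSingleton L (V 2 L) v₂).restrictScalars F), fun b => rfl⟩
  obtain ⟨D, hD⟩ : ∃ D : L →ₗ[F] L, ∀ b, D b = ψ (h₁ (b • v₂)) :=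
    ⟨(ψ.restrictScalars F) ∘ₗ (h₁ : V 2 L →ₗ[F] V 2 L) ∘ₗ
      ((LinearMap.toSpanSingleton L (V 2 L) v₂).restrictScalars F), fun b => rfl⟩
  have hAv : ∀ a : L, h₁ (a • v) = A a • v := by
    intro a
    obtain ⟨a', ha'⟩ := hline a
    rw [hA, ha', map_smul, hχv, smul_eq_mul, mul_one]
  have hact : ∀ a b : L, h₁ (a • v + b • v₂) = (A a + X b) • v + D b • v₂ := by
    intro a b
    rw [map_add, hAv, hdec (h₁ (b • v₂)), ← hX, ← hD, add_smul, add_assoc]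
  have hA1 : A 1 = 1 := by rw [hA, one_smul, hfix, hχv]
  have hAinj : Function.Injective A := by
    intro a a' haa
    have h1 : h₁ (a • v) = h₁ (a' • v) := by rw [hAv, hAv, haa]
    have h2 : a • v = a' • v := h₁.injective h1
    have h3 : (a - a') • v = 0 := by rw [sub_smul, h2, sub_self]
    rcases smul_eq_zero.mp h3 with h4 | h4
    · exact sub_eq_zero.mp h4
    · exact absurd h4 hv
  have hAsurj : Function.Surjective A := Finite.injective_iff_surjective.mp hAinj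
  have hDinj : Function.Injective D := by
    rw [injective_iff_map_eq_zero]
    intro b hb
    obtain ⟨a, ha⟩ := hAsurj (X b)
    have h1 : h₁ (b • v₂) = h₁ (a • v) := by
      rw [hAv, ha, hdec (h₁ (b • v₂)), ← hX, ← hD, hb, zero_smul, add_zero]
    have h2 : b • v₂ = a • v := h₁.injective h1
    have h3 := congrArg ψ h2
    rw [map_smul, map_smul, hψv₂, hψv, smul_eq_mul, smul_eq_mul, mul_one, mul_zero] at h3
    exact h3
  exact ⟨v₂, ψ, χ, A, D, X, ⟨hM, hv, hψv, hψv₂, hχv, hχv₂, hdec, hact, hA1, hAinj, hDinj⟩⟩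

end Cfsg.Agent.Lib.Helper99.GFZ1BNORM2
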