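import Mathlib
import Cfsg.Agent.Lib.Helper88.FCStmt

/-! Piece COP of S5293: coprime conjugacy. For an abelian subgroup `M` of exponent dividing
`p ^ n` normalized by `a`, with `a ^ m = 1 = g ^ m`, `m` prime to `p`, and `g a⁻¹ ∈ M`, the
element `g` is conjugate to `a` by an element of `M` lying in the subgroup generated by
`a` and `g`. -/

set_option autoImplicit false

namespace Cfsg.Agent.Lib.Helper99.FCCOP

universe u

theorem prod_shift {A : Type u} [CommGroup A] (φ : A →* A) (μ : A) (m : ℕ) (f : ℕ → A)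
    (h0 : f 0 = 1) (hs : ∀ j, f (j + 1) = μ * φ (f j)) (hm : f m = 1) :
    φ (∏ j ∈ Finset.range m, f j) = μ⁻¹ ^ m * ∏ j ∈ Finset.range m, f j := by
  have h1 : ∏ j ∈ Finset.range m, f (j + 1) = μ ^ m * φ (∏ j ∈ Finset.range m, f j) := by
    rw [map_prod]
    simp_rw [hs]
    rw [Finset.prod_mul_distrib, Finset.prod_const, Finset.card_range]
  have h2 : ∏ j ∈ Finset.range m, f (j + 1) = ∏ j ∈ Finset.range m, f j := by
    have a1 := Finset.prod_range_succ f m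
    have a2 := Finset.prod_range_succ' f m
    rw [a2, h0, hm, mul_one, mul_one] at a1
    exact a1
  rw [h2] at h1
  rw [inv_pow, eq_inv_mul_iff_mul_eq]
  exact h1.symm

theorem pow_fix {A : Type u} [CommGroup A] (φ : A →* A) (μ ν0 : A) (m m' N q : ℕ)
    (h : φ ν0 = μ⁻¹ ^ m * ν0) (hμ : μ ^ N = 1) (hmm : m * m' = 1 + N * q) :
    φ (ν0 ^ m') = μ⁻¹ * ν0 ^ m' := by
  have h1 : (μ⁻¹ ^ m) ^ m' = μ⁻¹ := by
    rw [← pow_mul, hmm, pow_add, pow_one, pow_mul, inv_pow μ N, hμ, inv_one, one_pow, mul_one]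
  rw [map_pow, h, mul_pow, h1]

theorem core {G : Type u} [Group G] (p n m : ℕ) [Fact p.Prime] (hmp : m.Coprime p)
    (M : Subgroup G)
    (hM : ∀ x ∈ M, ∀ y ∈ M, x * y = y * x) (hexp : ∀ x ∈ M, x ^ (p ^ n) = 1) (a g : G)
    (ha : ∀ x ∈ M, a * x * a⁻¹ ∈ M) (ham : a ^ m = 1) (hgm : g ^ m = 1) (hga : g * a⁻¹ ∈ M) :
    ∃ ν ∈ M, g = ν⁻¹ * a * ν := by
  have hp : p.Prime := Fact.out
  letI : CommGroup ↥M :=
    { (inferInstance : Group ↥M) with mul_comm := fun x y => Subtype.ext (hM x x.2 y y.2) }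
  let φ : ↥M →* ↥M :=
    { toFun := fun x => ⟨a * x * a⁻¹, ha x x.2⟩
      map_one' := by
        apply Subtype.ext
        show a * ((1 : ↥M) : G) * a⁻¹ = ((1 : ↥M) : G)
        rw [Subgroup.coe_one, mul_one, mul_inv_cancel]
      map_mul' := by
        intro x y
        apply Subtype.ext
        show a * ((x * y : ↥M) : G) * a⁻¹ = (a * (x : G) * a⁻¹) * (a * (y : G) * a⁻¹)
        rw [Subgroup.coe_mul]; group }
  have hstep : ∀ j : ℕ, g ^ (j + 1) * (a ^ (j + 1))⁻¹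
      = (g * a⁻¹) * (a * (g ^ j * (a ^ j)⁻¹) * a⁻¹) := by
    intro j
    rw [pow_succ' g, pow_succ' a]; group
  have hf : ∀ j : ℕ, g ^ j * (a ^ j)⁻¹ ∈ M := by
    intro j
    induction j with
    | zero => simp
    | succ j ih =>
      rw [hstep]
      exact M.mul_mem hga (ha _ ih)
  let f : ℕ → ↥M := fun j => ⟨g ^ j * (a ^ j)⁻¹, hf j⟩
  let μ : ↥M := ⟨g * a⁻¹, hga⟩
  have h0 : f 0 = 1 := by
    apply Subtype.ext
    show g ^ 0 * (a ^ 0)⁻¹ = ((1 : ↥M) : G)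
    simp
  have hs : ∀ j, f (j + 1) = μ * φ (f j) := by
    intro j
    apply Subtype.ext
    show g ^ (j + 1) * (a ^ (j + 1))⁻¹ = (g * a⁻¹) * (a * (g ^ j * (a ^ j)⁻¹) * a⁻¹)
    exact hstep j
  have hm : f m = 1 := by
    apply Subtype.ext
    show g ^ m * (a ^ m)⁻¹ = ((1 : ↥M) : G)
    rw [ham, hgm]; simp
  have hprod := prod_shift φ μ m f h0 hs hm
  have hμ : μ ^ (p ^ n) = 1 := by
    apply Subtype.ext
    show ((μ ^ (p ^ n) : ↥M) : G) = ((1 : ↥M) : G)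
    rw [Subgroup.coe_pow, Subgroup.coe_one]
    exact hexp _ hga
  obtain ⟨m', q, hmm⟩ : ∃ m' q : ℕ, m * m' = 1 + p ^ n * q := by
    rcases Nat.eq_zero_or_pos n with hn | hn
    · subst hn
      have hm0 : m ≠ 0 := by
        rintro rfl
        rw [Nat.coprime_zero_left] at hmp
        exact hp.ne_one hmp
      refine ⟨1, m - 1, ?_⟩
      rw [pow_zero]; omega
    · have hk : 1 < p ^ n := Nat.one_lt_pow hn.ne' hp.one_lt
      have hc : Nat.Coprime m (p ^ n) := Nat.Coprime.pow_right n hmp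
      obtain ⟨m', -, hm'⟩ := Nat.exists_mul_mod_eq_one_of_coprime hc hk
      refine ⟨m', m * m' / p ^ n, ?_⟩
      have := Nat.div_add_mod (m * m') (p ^ n)
      rw [hm'] at this
      omega
  have hfix := pow_fix φ μ _ m m' (p ^ n) q hprod hμ hmm
  obtain ⟨ν1, hν1⟩ : ∃ ν1 : ↥M, φ ν1 = μ⁻¹ * ν1 := ⟨_, hfix⟩
  have hval : a * (ν1 : G) * a⁻¹ = (g * a⁻¹)⁻¹ * (ν1 : G) := congrArg Subtype.val hν1
  refine ⟨(ν1 : G)⁻¹, M.inv_mem ν1.2, ?_⟩
  rw [inv_inv]
  have h3 : (ν1 : G) * a⁻¹ = g⁻¹ * (ν1 : G) := by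
    have : a⁻¹ * (a * (ν1 : G) * a⁻¹) = a⁻¹ * ((g * a⁻¹)⁻¹ * (ν1 : G)) := by rw [hval]
    simpa [mul_assoc] using this
  have h4 : g * (ν1 : G) = (ν1 : G) * a := by
    have : g * ((ν1 : G) * a⁻¹) * a = g * (g⁻¹ * (ν1 : G)) * a := by rw [h3]
    simpa [mul_assoc] using this
  rw [← h4]; group

theorem main : Cfsg.Agent.Lib.Helper88.FCStmt.CoprimeConj.{u} := by
  intro G _ p n m _ hmp M hM hexp a g ha ham hgm hga
  have haK : a ∈ Subgroup.closure ({a, g} : Set G) := Subgroup.subset_closure (by simp)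
  have hgK : g ∈ Subgroup.closure ({a, g} : Set G) := Subgroup.subset_closure (by simp)
  obtain ⟨ν, hν, h⟩ := core p n m hmp (M ⊓ Subgroup.closure ({a, g} : Set G))
    (fun x hx y hy => hM x hx.1 y hy.1) (fun x hx => hexp x hx.1) a g
    (fun x hx => ⟨ha x hx.1, Subgroup.mul_mem _ (Subgroup.mul_mem _ haK hx.2)
      (Subgroup.inv_mem _ haK)⟩) ham hgm
    ⟨hga, Subgroup.mul_mem _ hgK (Subgroup.inv_mem _ haK)⟩
  exact ⟨ν, hν.1, hν.2, h⟩

end Cfsg.Agent.Lib.Helper99.FCCOP
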