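import Mathlib
import Cfsg.Agent.Lib.Helper80.FTStmt
import Cfsg.Agent.Lib.Helper57.FTStmt

/-!
# S3999 piece SHRINK (helper99; both routes): a Frobenius complement has a copy in `Type`.
`main : Helper80.FTStmt.Shrink`, `main57 : Helper57.FTStmt.Shrink`.
-/

set_option autoImplicit false

universe u v

namespace Cfsg.Agent.Lib.Helper99.FTSHRINK

open Pointwise

/-- every finite group has a copy in `Type` -/
theorem exists_copy (H : Type u) [Group H] [Finite H] :
    ∃ (H' : Type) (_ : Group H') (_ : Finite H'), Nonempty (H' ≃* H) := by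
  let e : Fin (Nat.card H) ≃ H := (Finite.equivFin H).symm
  letI : Group (Fin (Nat.card H)) := e.group
  exact ⟨Fin (Nat.card H), e.group, inferInstance, ⟨e.mulEquiv⟩⟩

/-- Frobenius complements transfer along a group isomorphism -/
theorem frob_map {X : Type u} {L : Type v} [Group X] [Group L] (φ : X ≃* L) (C : Subgroup X)
    (hC : Cfsg.IsFrobeniusComplement C) :
    Cfsg.IsFrobeniusComplement (C.map (φ : X →* L)) := by
  obtain ⟨h1, h2, h3⟩ := hC
  refine ⟨?_, ?_, ?_⟩
  · intro hbot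
    exact h1 ((Subgroup.map_eq_bot_iff_of_injective C φ.injective).mp hbot)
  · intro htop
    apply h2
    rw [eq_top_iff]
    intro x _
    have hx : φ x ∈ C.map (φ : X →* L) := by
      rw [htop]
      exact Subgroup.mem_top _
    obtain ⟨c, hc, hcx⟩ := Subgroup.mem_map.mp hx
    have hcx' : c = x := φ.injective hcx
    rw [← hcx']
    exact hc
  · intro g hg
    have hg₀ : φ.symm g ∉ C := by
      intro hmem
      apply hg
      exact Subgroup.mem_map.mpr ⟨φ.symm g, hmem, φ.apply_symm_apply g⟩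
    have h4 := h3 (φ.symm g) hg₀
    rw [eq_bot_iff]
    intro y hy
    obtain ⟨hy1, hy2⟩ := Subgroup.mem_inf.mp hy
    obtain ⟨c, hc, hcy⟩ := Subgroup.mem_map.mp hy1
    obtain ⟨z, hz, hzy⟩ := (Subgroup.mem_smul_pointwise_iff_exists _ _ _).mp hy2
    obtain ⟨c', hc', hcz⟩ := Subgroup.mem_map.mp hz
    have e1 : φ c' = z := hcz
    have e2 : φ c = y := hcy
    have hc2 : c ∈ MulAut.conj (φ.symm g) • C := by
      refine (Subgroup.mem_smul_pointwise_iff_exists _ _ _).mpr ⟨c', hc', ?_⟩
      apply φ.injective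
      rw [MulAut.smul_def, MulAut.conj_apply, map_mul, map_mul, map_inv, φ.apply_symm_apply,
        e1, e2, ← hzy, MulAut.smul_def, MulAut.conj_apply]
    have hc3 : c ∈ C ⊓ MulAut.conj (φ.symm g) • C := Subgroup.mem_inf.mpr ⟨hc, hc2⟩
    rw [h4, Subgroup.mem_bot] at hc3
    rw [Subgroup.mem_bot, ← e2, hc3]
    exact map_one _

theorem shrink {X : Type u} [Group X] [Finite X] (C : Subgroup X)
    (hC : Cfsg.IsFrobeniusComplement C) :
    ∃ (L : Type) (_ : Group L) (_ : Finite L) (H : Subgroup L),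
      Cfsg.IsFrobeniusComplement H ∧ Nonempty (↥C ≃* ↥H) := by
  obtain ⟨L, hG, hF, ⟨f⟩⟩ := exists_copy X
  exact ⟨L, hG, hF, C.map (f.symm : X →* L), frob_map f.symm C hC, ⟨f.symm.subgroupMap C⟩⟩

theorem main : Cfsg.Agent.Lib.Helper80.FTStmt.Shrink.{u} := by
  intro X _ _ C hC
  exact shrink C hC

theorem main57 : Cfsg.Agent.Lib.Helper57.FTStmt.Shrink.{u} := by
  intro Y _ _ C hC
  exact shrink C hC

end Cfsg.Agent.Lib.Helper99.FTSHRINK
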