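import Mathlib
import Cfsg.Agent.Lib.Helper68.FixStmt

/-!
S4414 piece FPF: if `⁅V, Q⁆ = V` for an abelian normal `V` and a Sylow `q`-subgroup `Q` of order
`q`, then every element of order `q` acts fixed-point-freely on `V`.

Proof: for a generator `x` of `Q` the map `v ↦ x v x⁻¹ v⁻¹` is an endomorphism of `V` whose image
contains `⁅V, Q⁆ = V`; being surjective on the finite group `V` it is injective.
-/

set_option autoImplicit false

namespace Cfsg.Agent.Lib.Helper99.FixFPF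

open Cfsg.Agent.Lib.Helper68.FixStmt
open scoped Pointwise

universe u

theorem core {S : Type u} [Group S] [Finite S] (V Q : Subgroup S) (hVn : V.Normal)
    (hab : ∀ a ∈ V, ∀ z ∈ V, a * z = z * a) (x : S) (hQ : ∀ z ∈ Q, ∃ n : ℕ, x ^ n = z)
    (hcomm : ⁅V, Q⁆ = V) (c : S) (hc : c ∈ V) (hfix : x * c * x⁻¹ = c) : c = 1 := by
  have hFV : ∀ v ∈ V, x * v * x⁻¹ * v⁻¹ ∈ V := fun v hv =>
    V.mul_mem (hVn.conj_mem v hv x) (V.inv_mem hv)
  let F : ↥V →* S :=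
    { toFun := fun v => x * (v : S) * x⁻¹ * (v : S)⁻¹
      map_one' := by simp
      map_mul' := by
        intro v w
        have h1 : (x * (w : S) * x⁻¹ * (w : S)⁻¹) * (v : S)⁻¹ =
            (v : S)⁻¹ * (x * (w : S) * x⁻¹ * (w : S)⁻¹) :=
          hab _ (hFV _ w.2) _ (V.inv_mem v.2)
        calc x * ((v * w : ↥V) : S) * x⁻¹ * ((v * w : ↥V) : S)⁻¹
            = (x * (v : S) * x⁻¹) * ((x * (w : S) * x⁻¹ * (w : S)⁻¹) * (v : S)⁻¹) := by
              rw [Subgroup.coe_mul]; group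
          _ = (x * (v : S) * x⁻¹) * ((v : S)⁻¹ * (x * (w : S) * x⁻¹ * (w : S)⁻¹)) := by rw [h1]
          _ = x * (v : S) * x⁻¹ * (v : S)⁻¹ * (x * (w : S) * x⁻¹ * (w : S)⁻¹) := by group }
  have hFdef : ∀ v : ↥V, F v = x * (v : S) * x⁻¹ * (v : S)⁻¹ := fun v => rfl
  have hpow : ∀ (n : ℕ) (w : S), w ∈ V → x ^ n * w * (x ^ n)⁻¹ * w⁻¹ ∈ F.range := by
    intro n
    induction n with
    | zero =>
      intro w hw
      have e0 : x ^ 0 * w * (x ^ 0)⁻¹ * w⁻¹ = 1 := by simp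
      rw [e0]; exact F.range.one_mem
    | succ n ih =>
      intro w hw
      have hw' : x ^ n * w * (x ^ n)⁻¹ ∈ V := hVn.conj_mem w hw (x ^ n)
      have e : x ^ (n + 1) * w * (x ^ (n + 1))⁻¹ * w⁻¹ =
          (x * (x ^ n * w * (x ^ n)⁻¹) * x⁻¹ * (x ^ n * w * (x ^ n)⁻¹)⁻¹) *
            (x ^ n * w * (x ^ n)⁻¹ * w⁻¹) := by
        rw [pow_succ']; group
      rw [e]
      exact F.range.mul_mem (MonoidHom.mem_range.mpr ⟨⟨_, hw'⟩, rfl⟩) (ih w hw)
  have h1 : ⁅V, Q⁆ ≤ F.range := by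
    rw [Subgroup.commutator_le]
    intro v hv z hz
    obtain ⟨n, rfl⟩ := hQ z hz
    have h2 := hpow n v⁻¹ (V.inv_mem hv)
    have hcv : x ^ n * v⁻¹ * (x ^ n)⁻¹ ∈ V := hVn.conj_mem _ (V.inv_mem hv) _
    have e : v * x ^ n * v⁻¹ * (x ^ n)⁻¹ = x ^ n * v⁻¹ * (x ^ n)⁻¹ * v⁻¹⁻¹ := by
      rw [inv_inv]
      have h3 := hab _ hv _ hcv
      calc v * x ^ n * v⁻¹ * (x ^ n)⁻¹ = v * (x ^ n * v⁻¹ * (x ^ n)⁻¹) := by group
        _ = x ^ n * v⁻¹ * (x ^ n)⁻¹ * v := h3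
    show v * x ^ n * v⁻¹ * (x ^ n)⁻¹ ∈ F.range
    rw [e]; exact h2
  have hsurj : Function.Surjective (fun v : ↥V => (⟨F v, hFV v v.2⟩ : ↥V)) := by
    intro u
    have hu : (u : S) ∈ ⁅V, Q⁆ := by rw [hcomm]; exact u.2
    obtain ⟨v, hv⟩ := MonoidHom.mem_range.mp (h1 hu)
    exact ⟨v, Subtype.ext hv⟩
  have hinj := Finite.injective_iff_surjective.mpr hsurj
  have h2 : (⟨F ⟨c, hc⟩, hFV c hc⟩ : ↥V) = ⟨F 1, hFV _ (1 : ↥V).2⟩ := by
    apply Subtype.ext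
    show F ⟨c, hc⟩ = F 1
    rw [map_one, hFdef]
    show x * c * x⁻¹ * c⁻¹ = 1
    rw [hfix, mul_inv_cancel]
  have h3 := hinj h2
  exact congrArg Subtype.val h3

theorem main : FPF.{u} := by
  intro S _ _ q hq V Q y hVn hab hQc hqV hcomm hy v hv hfix
  have hyp : IsPGroup q (Subgroup.zpowers y) := by
    apply IsPGroup.of_card (n := 1)
    rw [Nat.card_zpowers, hy, pow_one]
  obtain ⟨P, hP⟩ := hyp.exists_le_sylow
  obtain ⟨g, hg⟩ := MulAction.exists_smul_eq S P Q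
  have hyP : y ∈ (P : Subgroup S) := hP (Subgroup.mem_zpowers y)
  have hxQ : g * y * g⁻¹ ∈ (Q : Subgroup S) := by
    have h1 : MulAut.conj g • y ∈ MulAut.conj g • (P : Subgroup S) :=
      Subgroup.smul_mem_pointwise_smul y (MulAut.conj g) (P : Subgroup S) hyP
    have h2 : MulAut.conj g • (P : Subgroup S) = ((g • P : Sylow q S) : Subgroup S) := rfl
    rw [h2, hg] at h1
    simpa [MulAut.smul_def] using h1
  obtain ⟨x, hx⟩ : ∃ x, x = g * y * g⁻¹ := ⟨_, rfl⟩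
  rw [← hx] at hxQ
  have hx1 : x ≠ 1 := by
    intro h
    have hy1 : y = 1 := by
      have h0 : y = g⁻¹ * x * g := by rw [hx]; group
      rw [h0, h]; group
    rw [hy1, orderOf_one] at hy
    exact (Fact.out : q.Prime).one_lt.ne hy
  have hzx : Subgroup.zpowers x = (Q : Subgroup S) := by
    apply Subgroup.eq_of_le_of_card_ge (Subgroup.zpowers_le.mpr hxQ)
    rw [hQc, Nat.card_zpowers]
    have hd : orderOf x ∣ q := by
      have h0 := Subgroup.orderOf_dvd_natCard (Q : Subgroup S) hxQ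
      rwa [hQc] at h0
    rcases (Nat.dvd_prime (Fact.out : q.Prime)).mp hd with h | h
    · exact absurd (orderOf_eq_one_iff.mp h) hx1
    · exact h.ge
  have hQpow : ∀ z ∈ (Q : Subgroup S), ∃ n : ℕ, x ^ n = z := by
    intro z hz
    rw [← hzx] at hz
    exact (Submonoid.mem_powers_iff _ _).mp (mem_powers_iff_mem_zpowers.mpr hz)
  have hc : g * v * g⁻¹ ∈ V := hVn.conj_mem v hv g
  have hcfix : x * (g * v * g⁻¹) * x⁻¹ = g * v * g⁻¹ := by
    rw [hx]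
    calc g * y * g⁻¹ * (g * v * g⁻¹) * (g * y * g⁻¹)⁻¹ = g * (y * v * y⁻¹) * g⁻¹ := by group
      _ = g * v * g⁻¹ := by rw [hfix]
  have h1 := core V Q hVn hab x hQpow hcomm _ hc hcfix
  have h0 : v = g⁻¹ * (g * v * g⁻¹) * g := by group
  rw [h0, h1]; group

end Cfsg.Agent.Lib.Helper99.FixFPF
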