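import Mathlib
import Cfsg.Agent.Lib.Helper40.GFStmt

/-!
S5886 piece ALG2: `[L : F] = 2`: for suitable `f`, `d` the map `nu b (f • e) d 1` is not a
multiplication.
-/

set_option autoImplicit false

namespace Cfsg.Agent.Lib.Helper99.GFALG2

open Cfsg.Agent.Lib.Helper40.GFStmt

universe u

/-- if `nu b (f • e) d 1` is the multiplication by `c'` (and `b (d e) ≠ 0`) then `2 = 0` and
`b (d² e) = f * b (d e)²` -/
theorem key {F L : Type u} [Field F] [Field L] [Algebra F L] (e : L) (b : L →ₗ[F] F)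
    (he : e ≠ 0) (hbe : b e = 0) (f : F) (hf : f ≠ 0) (d c' : L) (hd : b (d * e) ≠ 0)
    (h : nu b (f • e) d 1 = LinearMap.mulLeft F c') :
    (2 : F) = 0 ∧ b (d * (d * e)) = f * b (d * e) ^ 2 := by
  have hba : ∀ (s : F) (y : L), b (algebraMap F L s * y) = s * b y := by
    intro s y
    rw [← Algebra.smul_def, map_smul, smul_eq_mul]
  obtain ⟨e', he'def⟩ : ∃ e' : L, e' = algebraMap F L f * e := ⟨_, rfl⟩
  have he' : e' ≠ 0 := by
    rw [he'def]
    exact mul_ne_zero ((map_ne_zero (algebraMap F L)).mpr hf) he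
  have hbe' : b e' = 0 := by rw [he'def, hba, hbe, mul_zero]
  obtain ⟨β, hβdef⟩ : ∃ β : F, β = b (d * e') := ⟨_, rfl⟩
  have hβ : β = f * b (d * e) := by
    rw [hβdef, he'def, mul_left_comm d (algebraMap F L f) e, hba]
  have hβ0 : β ≠ 0 := by rw [hβ]; exact mul_ne_zero hf hd
  have hν : ∀ x : L, d * (x - algebraMap F L (b x) * e') +
      algebraMap F L (b (d * (x - algebraMap F L (b x) * e'))) * e' = c' * x := by
    intro x
    have h1 := LinearMap.congr_fun h x
    rw [nu_apply, LinearMap.mulLeft_apply] at h1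
    simp only [one_mul, Algebra.smul_def] at h1
    rw [he'def]
    exact h1
  have hc' : c' = d + algebraMap F L β := by
    have h1 := hν e'
    rw [hbe', map_zero, zero_mul, sub_zero, ← hβdef] at h1
    have h2 : (d + algebraMap F L β) * e' = c' * e' := by rw [add_mul]; exact h1
    exact (mul_right_cancel₀ he' h2).symm
  have hbd : ∀ x : L, b (d * (x - algebraMap F L (b x) * e')) = b (d * x) - b x * β := by
    intro x
    rw [mul_sub, map_sub, mul_left_comm d (algebraMap F L (b x)) e', hba, ← hβdef]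
  have h2 : (2 : F) = 0 := by
    have h1 := hν (d * e)
    have h3 := congrArg b h1
    rw [map_add, hba, hbe', mul_zero, add_zero, hbd, hc', add_mul, map_add, hba] at h3
    have h4 : (2 : F) * (β * b (d * e)) = 0 := by linear_combination (-1 : F) * h3
    rcases mul_eq_zero.mp h4 with h5 | h5
    · exact h5
    · exact absurd h5 (mul_ne_zero hβ0 hd)
  refine ⟨h2, ?_⟩
  obtain ⟨x₁, hx₁def⟩ : ∃ x₁ : L, x₁ = algebraMap F L β⁻¹ * (d * e') := ⟨_, rfl⟩
  have hbx₁ : b x₁ = 1 := by rw [hx₁def, hba, ← hβdef, inv_mul_cancel₀ hβ0]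
  have h1 := hν x₁
  rw [hbd, hbx₁, map_one, one_mul, one_mul, hc'] at h1
  have h5 : algebraMap F L β * x₁ = d * e' := by
    rw [hx₁def, ← mul_assoc, ← map_mul, mul_inv_cancel₀ hβ0, map_one, one_mul]
  have h6 : algebraMap F L (b (d * x₁) - β) * e' = algebraMap F L 2 * (d * e') := by
    rw [map_ofNat]
    linear_combination h1 + h5
  have h7 : b (d * x₁) = β := by
    have h8 : algebraMap F L (b (d * x₁) - β) * e' = 0 := by rw [h6, h2, map_zero, zero_mul]
    rcases mul_eq_zero.mp h8 with h9 | h9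
    · exact sub_eq_zero.mp ((map_eq_zero (algebraMap F L)).mp h9)
    · exact absurd h9 he'
  have h10 : b (d * x₁) = β⁻¹ * b (d * (d * e')) := by
    rw [hx₁def, mul_left_comm d (algebraMap F L β⁻¹) (d * e'), hba]
  have h11 : b (d * (d * e')) = f * b (d * (d * e)) := by
    have h0 : d * (d * e') = algebraMap F L f * (d * (d * e)) := by rw [he'def]; ring
    rw [h0, hba]
  have h12 : b (d * (d * e')) = β * β := by
    have h0 : β⁻¹ * b (d * (d * e')) = β := h10.symm.trans h7
    calc b (d * (d * e')) = β * (β⁻¹ * b (d * (d * e'))) := by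
          rw [← mul_assoc β β⁻¹, mul_inv_cancel₀ hβ0, one_mul]
      _ = β * β := by rw [h0]
  have h13 : f * b (d * (d * e)) = f * (f * b (d * e) ^ 2) := by
    rw [← h11, h12, hβ]; ring
  exact mul_left_cancel₀ hf h13

theorem main : Alg2.{u} := by
  intro F L _ _ _ _ hr h2 e b he hb hbe
  classical
  obtain ⟨x₀, hx₀⟩ : ∃ x₀, b x₀ ≠ 0 := by
    by_contra hcon
    push Not at hcon
    exact hb (LinearMap.ext fun x => by rw [hcon x, LinearMap.zero_apply])
  obtain ⟨d, hd⟩ : ∃ d, b (d * e) ≠ 0 := ⟨x₀ * e⁻¹, by rwa [inv_mul_cancel_right₀ he]⟩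
  rcases h2 with h2 | h2
  · refine ⟨1, d, fun c' hc' => ?_⟩
    exact h2 (key e b he hbe 1 one_ne_zero d c' hd hc').1
  · obtain ⟨f₂, hf0, hf1⟩ : ∃ f₂ : F, f₂ ≠ 0 ∧ f₂ ≠ 1 := by
      by_contra hcon
      push Not at hcon
      haveI : Finite F := Finite.of_injective (algebraMap F L) (algebraMap F L).injective
      have hinj : Function.Injective (fun f : F => if f = 0 then (0 : Fin 2) else 1) := by
        intro f g hfg
        by_cases hf : f = 0
        · by_cases hg : g = 0
          · rw [hf, hg]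
          · simp [hf, hg] at hfg
        · by_cases hg : g = 0
          · simp [hf, hg] at hfg
          · rw [hcon f hf, hcon g hg]
      have hle := Nat.card_le_card_of_injective _ hinj
      have h22 : Nat.card (Fin 2) = 2 := by simp
      rw [h22] at hle
      omega
    by_cases h1 : ∀ c' : L, nu b ((1 : F) • e) d 1 ≠ LinearMap.mulLeft F c'
    · exact ⟨1, d, h1⟩
    · push Not at h1
      obtain ⟨c₁, hc₁⟩ := h1
      refine ⟨f₂, d, fun c' hc' => ?_⟩
      have k1 := (key e b he hbe 1 one_ne_zero d c₁ hd hc₁).2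
      have k2 := (key e b he hbe f₂ hf0 d c' hd hc').2
      have h3 : (1 : F) * b (d * e) ^ 2 = f₂ * b (d * e) ^ 2 := k1.symm.trans k2
      have hne : b (d * e) ^ 2 ≠ 0 := pow_ne_zero 2 hd
      exact hf1 (mul_right_cancel₀ hne h3).symm

end Cfsg.Agent.Lib.Helper99.GFALG2
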