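import Cfsg.Agent.Lib.Helper26.J2FusStmt

/-!
# Piece CGEN of S5321: `C(t)` is generated by its involutions
-/

set_option autoImplicit false

namespace Cfsg.Agent.Lib.Helper99.J2FusCGEN

theorem mem_cent_singleton {G : Type} [Group G] (t g : G) :
    g ∈ Subgroup.centralizer ({t} : Set G) ↔ g * t = t * g := by
  rw [Subgroup.mem_centralizer_iff]
  constructor
  · intro h
    exact (h t rfl).symm
  · intro h x hx
    rw [Set.mem_singleton_iff] at hx
    rw [hx]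
    exact h.symm

theorem main : Cfsg.Agent.Lib.Helper26.J2FusStmt.CGen := by
  intro G _ _ t P u1 u2 u3 u4 hC hP hPt hgen h11 h1t h22 h2t h12 h12ne h33 h3t h44 h4t h34 h34ne
    K hK g hg
  obtain ⟨C, hCdef⟩ : ∃ C : Subgroup G, C = Subgroup.centralizer ({t} : Set G) := ⟨_, rfl⟩
  rw [← hCdef] at hC
  have hmem : ∀ x : G, x ∈ C ↔ x * t = t * x := by
    intro x
    rw [hCdef]
    exact mem_cent_singleton t x
  have hPK : P ≤ K := hgen K (fun u hu huu => hK u huu (hPt u hu))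
  have hPC : P ≤ C := fun s hs => (hmem s).2 (hPt s hs)
  have hPH : P ≤ K ⊓ C := le_inf hPK hPC
  have hu12 : u1 * u2 ∈ K ⊓ C :=
    Subgroup.mem_inf.2 ⟨K.mul_mem (hK u1 h11 h1t) (hK u2 h22 h2t),
      C.mul_mem ((hmem u1).2 h1t) ((hmem u2).2 h2t)⟩
  have hu34 : u3 * u4 ∈ K ⊓ C :=
    Subgroup.mem_inf.2 ⟨K.mul_mem (hK u3 h33 h3t) (hK u4 h44 h4t),
      C.mul_mem ((hmem u3).2 h3t) ((hmem u4).2 h4t)⟩
  haveI : Fact (Nat.Prime 3) := ⟨by norm_num⟩
  haveI : Fact (Nat.Prime 5) := ⟨by norm_num⟩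
  have ho12 : orderOf (u1 * u2) = 3 := orderOf_eq_prime h12 h12ne
  have ho34 : orderOf (u3 * u4) = 5 := orderOf_eq_prime h34 h34ne
  have d128 : 128 ∣ Nat.card (K ⊓ C : Subgroup G) := by
    rw [← hP]
    exact Subgroup.card_dvd_of_le hPH
  have d3 : 3 ∣ Nat.card (K ⊓ C : Subgroup G) := by
    rw [← ho12]
    exact Subgroup.orderOf_dvd_natCard _ hu12
  have d5 : 5 ∣ Nat.card (K ⊓ C : Subgroup G) := by
    rw [← ho34]
    exact Subgroup.orderOf_dvd_natCard _ hu34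
  have d1920 : 1920 ∣ Nat.card (K ⊓ C : Subgroup G) := by
    have h15 : 3 * 5 ∣ Nat.card (K ⊓ C : Subgroup G) :=
      Nat.Coprime.mul_dvd_of_dvd_of_dvd (by norm_num) d3 d5
    have h := Nat.Coprime.mul_dvd_of_dvd_of_dvd (by norm_num : Nat.Coprime 128 (3 * 5)) d128 h15
    have e : (128 : ℕ) * (3 * 5) = 1920 := by norm_num
    rw [e] at h
    exact h
  have hle : Nat.card C ≤ Nat.card (K ⊓ C : Subgroup G) := by
    rw [hC]
    exact Nat.le_of_dvd Nat.card_pos d1920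
  have heq : K ⊓ C = C := Subgroup.eq_of_le_of_card_ge inf_le_right hle
  have hgH : g ∈ K ⊓ C := by
    rw [heq]
    exact (hmem g).2 hg
  exact (Subgroup.mem_inf.1 hgH).1

end Cfsg.Agent.Lib.Helper99.J2FusCGEN
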