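import Cfsg.Agent.Lib.Helper26.J2FusStmt

/-!
# Piece QCENT of S5321: the centraliser of `Q` lies in the Sylow 2-subgroup of `C(t)`
-/

set_option autoImplicit false

namespace Cfsg.Agent.Lib.Helper99.J2FusQCENT

theorem mem_cent_singleton {G : Type} [Group G] (t g : G) :
    g ∈ Subgroup.centralizer ({t} : Set G) ↔ g * t = t * g := by
  rw [Subgroup.mem_centralizer_iff]
  constructor
  · intro h
    exact (h t rfl).symm
  · intro h x hx
    rw [Set.mem_singleton_iff] at hx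
    rw [hx]
    exact h.symm

/-- a `p`-element of `C` lies in every normal subgroup of `C` of order divisible by `p`, when
`p ^ 2` does not divide `|C| = 1920` -/
theorem not_dvd_card {G : Type} [Group G] [Finite G] (C N : Subgroup G) (hNC : N ≤ C)
    (hconj : ∀ c ∈ C, ∀ n ∈ N, c * n * c⁻¹ ∈ N) (hC : Nat.card C = 1920)
    (p : ℕ) [hp : Fact p.Prime] (hp2 : ¬ p ^ 2 ∣ 1920) (y : G) (hyC : y ∈ C) (hyp : y ^ p = 1)
    (hyN : y ∉ N) : ¬ p ∣ Nat.card N := by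
  intro hdvd
  let Nc : Subgroup ↥C := N.subgroupOf C
  haveI : Nc.Normal := ⟨fun n hn c => by
    have hn' : (n : G) ∈ N := Subgroup.mem_subgroupOf.1 hn
    exact Subgroup.mem_subgroupOf.2 (by simpa using hconj c c.2 n hn')⟩
  have hcardNc : Nat.card Nc = Nat.card N :=
    Nat.card_congr (Subgroup.subgroupOfEquivOfLe hNC).toEquiv
  have hidx : Nat.card Nc * Nc.index = 1920 := by rw [Subgroup.card_mul_index, hC]
  have hpi : ¬ p ∣ Nc.index := by
    intro h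
    apply hp2
    rw [← hidx, pow_two, hcardNc]
    exact Nat.mul_dvd_mul hdvd h
  have h1 : (QuotientGroup.mk (⟨y, hyC⟩ : ↥C) : ↥C ⧸ Nc) ^ p = 1 := by
    rw [← QuotientGroup.mk_pow]
    have h0 : (⟨y, hyC⟩ : ↥C) ^ p = 1 := Subtype.ext (by simpa using hyp)
    rw [h0]
    rfl
  have h2 : orderOf (QuotientGroup.mk (⟨y, hyC⟩ : ↥C) : ↥C ⧸ Nc) ∣ p :=
    orderOf_dvd_of_pow_eq_one h1
  have h3 : orderOf (QuotientGroup.mk (⟨y, hyC⟩ : ↥C) : ↥C ⧸ Nc) ∣ Nc.index := by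
    rw [Subgroup.index_eq_card]
    exact orderOf_dvd_natCard _
  rcases (Nat.dvd_prime hp.out).1 h2 with h4 | h4
  · have h5 : (QuotientGroup.mk (⟨y, hyC⟩ : ↥C) : ↥C ⧸ Nc) = 1 := orderOf_eq_one_iff.1 h4
    rw [QuotientGroup.eq_one_iff] at h5
    exact hyN (Subgroup.mem_subgroupOf.1 h5)
  · rw [h4] at h3
    exact hpi h3

theorem main : Cfsg.Agent.Lib.Helper26.J2FusStmt.QCent := by
  intro G _ _ t P Q y3 x3 y5 x5 hC hP hPt htQ hnorm hy3t hy3 hx3 hne3 hy5t hy5 hx5 hne5 g hg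
  classical
  obtain ⟨C, hCdef⟩ : ∃ C : Subgroup G, C = Subgroup.centralizer ({t} : Set G) := ⟨_, rfl⟩
  obtain ⟨N, hNdef⟩ : ∃ N : Subgroup G, N = Subgroup.centralizer (Q : Set G) := ⟨_, rfl⟩
  rw [← hCdef] at hC
  have hmemC : ∀ x : G, x ∈ C ↔ x * t = t * x := by
    intro x
    rw [hCdef]
    exact mem_cent_singleton t x
  have hmemN : ∀ n : G, n ∈ N ↔ ∀ x ∈ Q, n * x = x * n := by
    intro n
    rw [hNdef, Subgroup.mem_centralizer_iff]
    constructor
    · intro h x hx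
      exact (h x hx).symm
    · intro h x hx
      exact (h x hx).symm
  have hNC : N ≤ C := by
    intro n hn
    rw [hmemC]
    exact (hmemN n).1 hn t htQ
  have hconj : ∀ c ∈ C, ∀ n ∈ N, c * n * c⁻¹ ∈ N := by
    intro c hc n hn
    rw [hmemN]
    intro x hx
    have h1 : c * t = t * c := (hmemC c).1 hc
    have hc' : c⁻¹ * t = t * c⁻¹ := by
      calc c⁻¹ * t = c⁻¹ * (t * c) * c⁻¹ := by group
        _ = c⁻¹ * (c * t) * c⁻¹ := by rw [h1]
        _ = t * c⁻¹ := by group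
    have hx' : c⁻¹ * x * c⁻¹⁻¹ ∈ Q := hnorm c⁻¹ hc' x hx
    rw [inv_inv] at hx'
    have h2 := (hmemN n).1 hn _ hx'
    calc c * n * c⁻¹ * x = c * (n * (c⁻¹ * x * c)) * c⁻¹ := by group
      _ = c * ((c⁻¹ * x * c) * n) * c⁻¹ := by rw [h2]
      _ = x * (c * n * c⁻¹) := by group
  have h3 : ¬ 3 ∣ Nat.card N := by
    haveI : Fact (Nat.Prime 3) := ⟨by norm_num⟩
    refine not_dvd_card C N hNC hconj hC 3 (by norm_num) y3 ((hmemC y3).2 hy3t) hy3 ?_
    intro hy3N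
    exact hne3 ((hmemN y3).1 hy3N x3 hx3)
  have h5 : ¬ 5 ∣ Nat.card N := by
    haveI : Fact (Nat.Prime 5) := ⟨by norm_num⟩
    refine not_dvd_card C N hNC hconj hC 5 (by norm_num) y5 ((hmemC y5).2 hy5t) hy5 ?_
    intro hy5N
    exact hne5 ((hmemN y5).1 hy5N x5 hx5)
  have hNdvd : Nat.card N ∣ 1920 := by
    rw [← hC]
    exact Subgroup.card_dvd_of_le hNC
  have hN128 : Nat.card N ∣ 2 ^ 7 := by
    have hc3 : Nat.Coprime (Nat.card N) 3 :=
      (Nat.Coprime.symm ((Nat.Prime.coprime_iff_not_dvd (by norm_num)).2 h3))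
    have hc5 : Nat.Coprime (Nat.card N) 5 :=
      (Nat.Coprime.symm ((Nat.Prime.coprime_iff_not_dvd (by norm_num)).2 h5))
    have hcop : Nat.Coprime (Nat.card N) (3 * 5) := Nat.Coprime.mul_right hc3 hc5
    have h1 : Nat.card N ∣ 2 ^ 7 * (3 * 5) := by
      have : (2 : ℕ) ^ 7 * (3 * 5) = 1920 := by norm_num
      rw [this]
      exact hNdvd
    exact hcop.dvd_of_dvd_mul_right h1
  obtain ⟨m, -, hm⟩ := (Nat.dvd_prime_pow Nat.prime_two).1 hN128
  haveI : Fact (Nat.Prime 2) := ⟨Nat.prime_two⟩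
  have hNp : IsPGroup 2 N := IsPGroup.of_card hm
  have hPp : IsPGroup 2 P := IsPGroup.of_card (n := 7) (by rw [hP]; norm_num)
  have hPC : P ≤ C := fun s hs => (hmemC s).2 (hPt s hs)
  have hPN : P ≤ Subgroup.normalizer (N : Set G) := by
    intro c hc
    rw [Subgroup.mem_normalizer_iff]
    intro n
    constructor
    · intro hn
      exact hconj c (hPC hc) n hn
    · intro hn
      have h1 := hconj c⁻¹ (C.inv_mem (hPC hc)) _ hn
      have h2 : c⁻¹ * (c * n * c⁻¹) * c⁻¹⁻¹ = n := by group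
      rw [h2] at h1
      exact h1
  have hsup : IsPGroup 2 (P ⊔ N : Subgroup G) := IsPGroup.to_sup_of_normal_right' hPp hNp hPN
  obtain ⟨k, hk⟩ := IsPGroup.iff_card.1 hsup
  have hsupC : P ⊔ N ≤ C := sup_le hPC hNC
  have hkd : 2 ^ k ∣ 1920 := by
    rw [← hk, ← hC]
    exact Subgroup.card_dvd_of_le hsupC
  have hk7 : k ≤ 7 := by
    by_contra hcon
    have h8 : (2 : ℕ) ^ 8 ∣ 1920 := dvd_trans (pow_dvd_pow 2 (by omega)) hkd
    norm_num at h8
  have hle : Nat.card (P ⊔ N : Subgroup G) ≤ Nat.card P := by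
    rw [hk, hP]
    calc 2 ^ k ≤ 2 ^ 7 := Nat.pow_le_pow_right (by norm_num) hk7
      _ = 128 := by norm_num
  have heq : P = P ⊔ N := Subgroup.eq_of_le_of_card_ge le_sup_left hle
  rw [heq]
  exact Subgroup.mem_sup_right ((hmemN g).2 hg)

end Cfsg.Agent.Lib.Helper99.J2FusQCENT
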