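import Mathlib
import Cfsg.Agent.Lib.Helper99.SylAct
import Cfsg.Agent.Lib.Helper99.SylAct2

/-!
No simple group with Sylow 3-subgroups of order 3 has exactly 22 Sylow 3-subgroups (helper99).
Part a: basic facts on the conjugation action on the 22 Sylow 3-subgroups.
-/

set_option autoImplicit false
set_option linter.style.haveILetI false
set_option linter.unusedSectionVars false
set_option linter.unusedVariables false

namespace Cfsg.Agent.Lib.Helper99.N3
open Subgroup MulAction Cfsg.Agent.Lib.Helper99.SylAct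

universe u

variable {G : Type u} [Group G] [Finite G]

/-- kernel of the action on Sylow 3-subgroups -/
def ker3 (G : Type u) [Group G] : Subgroup G := (MulAction.toPermHom G (Sylow 3 G)).ker

instance ker3_normal : (ker3 G).Normal := by
  unfold ker3; infer_instance

lemma mem_ker3 {g : G} : g ∈ ker3 G ↔ ∀ P : Sylow 3 G, g ∈ normalizer (P : Set G) := by
  unfold ker3
  rw [MonoidHom.mem_ker]
  constructor
  · intro h P
    rw [← Sylow.smul_eq_iff_mem_normalizer]
    have := congrArg (fun σ : Equiv.Perm (Sylow 3 G) => σ P) h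
    simpa using this
  · intro h
    ext P
    simp only [MulAction.toPermHom_apply, MulAction.toPerm_apply, Equiv.Perm.coe_one, id_eq]
    rw [Sylow.smul_eq_iff_mem_normalizer.mpr (h P)]

/-- the action is faithful in a group without proper nontrivial normal subgroups -/
lemma ker3_eq_bot (h22 : Nat.card (Sylow 3 G) = 22)
    (hsimple : ∀ M : Subgroup G, M.Normal → M = ⊥ ∨ M = ⊤) : ker3 G = ⊥ := by
  haveI : Finite (Sylow 3 G) := Nat.finite_of_card_ne_zero (by rw [h22]; norm_num)
  rcases hsimple (ker3 G) inferInstance with h | h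
  · exact h
  · exfalso
    have hall : ∀ (g : G) (P : Sylow 3 G), g • P = P := by
      intro g P
      rw [Sylow.smul_eq_iff_mem_normalizer]
      have hg : g ∈ ker3 G := by rw [h]; trivial
      exact mem_ker3.mp hg P
    haveI : Subsingleton (Sylow 3 G) := by
      constructor
      intro P Q
      obtain ⟨g, rfl⟩ := MulAction.exists_smul_eq G P Q
      exact (hall g P).symm
    have := Finite.card_le_one_iff_subsingleton.mpr this
    omega

/-- a subgroup of the normalizer of `P` does not move another Sylow subgroup to `P` -/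
lemma not_mem_orbit (H : Subgroup G) (P Q : Sylow 3 G) (hH : H ≤ normalizer (P : Set G))
    (hPQ : P ≠ Q) : P ∉ orbit H Q := by
  rintro ⟨x, hx⟩
  apply hPQ
  have h1 : (x⁻¹ : H) • P = P := by
    rw [Subgroup.smul_def, Sylow.smul_eq_iff_mem_normalizer]
    exact hH (x⁻¹).2
  have hx' : x • Q = P := hx
  calc P = (x⁻¹ : H) • P := h1.symm
    _ = (x⁻¹ : H) • (x • Q) := by rw [hx']
    _ = Q := inv_smul_smul x Q

/-- distinct Sylow 3-subgroups of order 3 meet trivially -/
lemma inf_eq_bot (h3 : ∀ P : Sylow 3 G, Nat.card P = 3) (P Q : Sylow 3 G) (hPQ : P ≠ Q) :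
    (P : Subgroup G) ⊓ Q = ⊥ := by
  have hdvd := Subgroup.card_dvd_of_le (inf_le_left : (P : Subgroup G) ⊓ Q ≤ P)
  rw [h3 P] at hdvd
  rcases (Nat.dvd_prime (by norm_num)).mp hdvd with h | h
  · exact Subgroup.eq_bot_of_card_eq _ h
  · exfalso
    apply hPQ
    have heq : (P : Subgroup G) ⊓ Q = P :=
      Subgroup.eq_of_le_of_card_ge inf_le_left (by rw [h, h3 P])
    have hle : (P : Subgroup G) ≤ Q := inf_eq_left.mp heq
    exact (Sylow.ext (P.3 Q.2 hle)).symm

lemma pow_three (h3 : ∀ P : Sylow 3 G, Nat.card P = 3) (P : Sylow 3 G) {y : G}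
    (hy : y ∈ (P : Subgroup G)) : y ^ 3 = 1 := by
  have h := pow_card_eq_one' (G := (P : Subgroup G)) (x := ⟨y, hy⟩)
  rw [h3 P] at h
  exact congrArg Subtype.val h

/-- a Sylow 3-subgroup is abelian -/
lemma sylow_le_centralizer (h3 : ∀ P : Sylow 3 G, Nat.card P = 3) (P : Sylow 3 G) :
    (P : Subgroup G) ≤ centralizer (P : Set G) := by
  haveI : IsCyclic (P : Subgroup G) := isCyclic_of_prime_card (h3 P)
  exact le_centralizer_iff_isMulCommutative.mpr IsCyclic.isMulCommutative

/-- an element of `P` normalizing another Sylow subgroup is trivial -/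
lemma eq_one_of_mem_normalizer (h3 : ∀ P : Sylow 3 G, Nat.card P = 3) (P Q : Sylow 3 G)
    (hPQ : P ≠ Q) {x : G} (hx : x ∈ (P : Subgroup G)) (hxQ : x ∈ normalizer (Q : Set G)) :
    x = 1 := by
  have h1 : x ^ 3 ^ 1 = 1 := by rw [pow_one]; exact pow_three h3 P hx
  have h2 : x ∈ (Q : Subgroup G) := mem_sylow_of_pow_eq_one Q 1 h1 hxQ
  have h4 : x ∈ (P : Subgroup G) ⊓ Q := ⟨hx, h2⟩
  rwa [inf_eq_bot h3 P Q hPQ, mem_bot] at h4

/-- the Sylow 3-subgroups normalized by `g` -/
def Fx (g : G) : Set (Sylow 3 G) := {R | g ∈ normalizer (R : Set G)}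

/-- the number of Sylow 3-subgroups normalized by `g` -/
noncomputable def fx (g : G) : ℕ := (Fx g).ncard

lemma mem_Fx {g : G} {R : Sylow 3 G} : R ∈ Fx g ↔ g • R = R := by
  rw [Sylow.smul_eq_iff_mem_normalizer]; rfl

/-- a `P`-invariant set of Sylow subgroups not containing `P` has size divisible by 3 -/
lemma dvd_ncard_of_invariant (h22 : Nat.card (Sylow 3 G) = 22) (P : Sylow 3 G)
    (T : Set (Sylow 3 G)) (hT : ∀ R ∈ T, ∀ x ∈ (P : Subgroup G), x • R ∈ T) (hP : P ∉ T) :
    3 ∣ T.ncard := by
  haveI : Finite (Sylow 3 G) := Nat.finite_of_card_ne_zero (by rw [h22]; norm_num)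
  let T' : SubMulAction (P : Subgroup G) (Sylow 3 G) :=
    { carrier := T
      smul_mem' := fun x R hR => hT R hR x x.2 }
  have h1 := P.2.card_modEq_card_fixedPoints T'
  have h2 : Nat.card (fixedPoints (P : Subgroup G) T') = 0 := by
    rw [Nat.card_eq_zero]
    left
    constructor
    rintro ⟨⟨R, hR⟩, hfix⟩
    have hPR : (P : Subgroup G) ≤ normalizer (R : Set G) := by
      intro x hx
      rw [← Sylow.smul_eq_iff_mem_normalizer]
      have := hfix ⟨x, hx⟩
      exact congrArg Subtype.val this
    have hle := le_sylow_of_le_normalizer P.2 R hPR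
    have hPReq : R = P := Sylow.ext (P.3 R.2 hle)
    exact hP (hPReq ▸ hR)
  rw [h2] at h1
  have h4 : Nat.card T' = T.ncard := rfl
  rw [h4] at h1
  exact (Nat.modEq_zero_iff_dvd).mp h1

/-- the number of fixed points of an element commuting with `P` is `1` mod `3` -/
lemma fx_mod_three (h22 : Nat.card (Sylow 3 G) = 22) (P : Sylow 3 G) {a : G}
    (haC : a ∈ centralizer (P : Set G)) : fx a % 3 = 1 := by
  haveI : Finite (Sylow 3 G) := Nat.finite_of_card_ne_zero (by rw [h22]; norm_num)
  have haP : a ∈ normalizer (P : Set G) := centralizer_le_normalizer _ haC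
  have h1 : 3 ∣ (Fx a \ {P}).ncard := by
    apply dvd_ncard_of_invariant h22 P
    · rintro R ⟨hR, hRP⟩ x hx
      refine ⟨?_, ?_⟩
      · rw [mem_Fx] at hR ⊢
        have hcomm : a * x = x * a := (haC x hx).symm
        rw [smul_smul, hcomm, mul_smul, hR]
      · intro h
        apply hRP
        rw [Set.mem_singleton_iff] at h ⊢
        have hxP : x • P = P := Sylow.smul_eq_iff_mem_normalizer.mpr (le_normalizer hx)
        have h' : x • R = x • P := h.trans hxP.symm
        exact smul_left_cancel x h'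
    · simp
  have h2 : (Fx a \ {P}).ncard = (Fx a).ncard - 1 := Set.ncard_sdiff_singleton_of_mem haP
  have h4 : 0 < (Fx a).ncard := (Set.ncard_pos (Set.toFinite _)).mpr ⟨P, haP⟩
  unfold fx
  omega

/-- a nontrivial element does not normalize all Sylow 3-subgroups -/
lemma fx_lt (h22 : Nat.card (Sylow 3 G) = 22) (hker : ker3 G = ⊥) {a : G} (ha : a ≠ 1) :
    fx a < 22 := by
  haveI : Finite (Sylow 3 G) := Nat.finite_of_card_ne_zero (by rw [h22]; norm_num)
  have hle : fx a ≤ 22 := by
    unfold fx
    rw [← h22, ← Set.ncard_univ]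
    exact Set.ncard_le_ncard (Set.subset_univ _) (Set.toFinite _)
  rcases Nat.lt_or_ge (fx a) 22 with h | h
  · exact h
  · exfalso
    apply ha
    have heq : (Fx a).ncard = Nat.card (Sylow 3 G) := by unfold fx at hle h; omega
    have huniv := (Set.eq_univ_iff_ncard (Fx a)).mpr heq
    have hmem : a ∈ ker3 G := by
      rw [mem_ker3]
      intro R
      have : R ∈ Fx a := by rw [huniv]; trivial
      exact this
    rwa [hker, mem_bot] at hmem

/-- fixed points of an element of prime order -/
lemma fx_mod_prime (h22 : Nat.card (Sylow 3 G) = 22) {b : G} {r : ℕ} (hr : r.Prime)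
    (hb : orderOf b = r) : fx b % r = 22 % r := by
  haveI : Finite (Sylow 3 G) := Nat.finite_of_card_ne_zero (by rw [h22]; norm_num)
  haveI : Fact r.Prime := ⟨hr⟩
  have hp : IsPGroup r (zpowers b) :=
    IsPGroup.of_card (n := 1) (by rw [Nat.card_zpowers, hb, pow_one])
  have h1 := hp.card_modEq_card_fixedPoints (Sylow 3 G)
  have h2 : fixedPoints (zpowers b) (Sylow 3 G) = Fx b := by
    ext R
    rw [mem_fixedPoints, mem_Fx]
    constructor
    · intro h
      exact h ⟨b, mem_zpowers b⟩
    · rintro h ⟨y, hy⟩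
      obtain ⟨k, rfl⟩ := mem_zpowers_iff.mp hy
      show (b ^ k) • R = R
      have hmem : b ∈ stabilizer G R := h
      exact zpow_mem hmem k
  rw [h2, h22, Nat.card_coe_set_eq] at h1
  exact h1.symm

/-- a set of Sylow subgroups invariant under an element of prime order `r` which fixes none of
its members has size divisible by `r` -/
lemma dvd_ncard_of_fixfree (h22 : Nat.card (Sylow 3 G) = 22) {g : G} {r : ℕ} (hr : r.Prime)
    (hg : orderOf g = r) (T : Set (Sylow 3 G)) (hT : ∀ R ∈ T, g • R ∈ T)
    (hfix : ∀ R ∈ T, g • R ≠ R) : r ∣ T.ncard := by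
  haveI : Finite (Sylow 3 G) := Nat.finite_of_card_ne_zero (by rw [h22]; norm_num)
  haveI : Fact r.Prime := ⟨hr⟩
  have hp : IsPGroup r (zpowers g) :=
    IsPGroup.of_card (n := 1) (by rw [Nat.card_zpowers, hg, pow_one])
  have hpow : ∀ (k : ℕ) (R : Sylow 3 G), R ∈ T → g ^ k • R ∈ T := by
    intro k
    induction k with
    | zero => intro R hR; simpa using hR
    | succ k ih =>
      intro R hR
      rw [pow_succ, mul_smul]
      exact ih _ (hT R hR)
  let T' : SubMulAction (zpowers g) (Sylow 3 G) :=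
    { carrier := T
      smul_mem' := by
        rintro ⟨y, hy⟩ R hR
        have hy' : y ∈ Submonoid.powers g := (mem_powers_iff_mem_zpowers).mpr hy
        obtain ⟨k, rfl⟩ := hy'
        exact hpow k R hR }
  have h1 := hp.card_modEq_card_fixedPoints T'
  have h2 : Nat.card (fixedPoints (zpowers g) T') = 0 := by
    rw [Nat.card_eq_zero]
    left
    constructor
    rintro ⟨⟨R, hR⟩, hfix'⟩
    have := hfix' ⟨g, mem_zpowers g⟩
    exact hfix R hR (congrArg Subtype.val this)
  rw [h2] at h1
  have h4 : Nat.card T' = T.ncard := rfl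
  rw [h4] at h1
  exact (Nat.modEq_zero_iff_dvd).mp h1

/-- the order of `G` is at least 22 -/
lemma card_ge (h22 : Nat.card (Sylow 3 G) = 22) : 22 ≤ Nat.card G := by
  haveI : Finite (Sylow 3 G) := Nat.finite_of_card_ne_zero (by rw [h22]; norm_num)
  obtain ⟨P⟩ : Nonempty (Sylow 3 G) := inferInstance
  have h1 := Sylow.card_eq_index_normalizer P
  rw [h22] at h1
  have h2 := Subgroup.card_mul_index (normalizer (P : Set G))
  rw [← h1] at h2
  have h4 : 0 < Nat.card (normalizer (P : Set G)) := Nat.card_pos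
  nlinarith

end Cfsg.Agent.Lib.Helper99.N3
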