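import Mathlib
import Cfsg.Agent.Lib.Helper99.SylAct
import Cfsg.Agent.Lib.Helper99.SylAct2
import Cfsg.Agent.Lib.Helper99.N3a

/-!
No simple group with Sylow 3-subgroups of order 3 has exactly 22 Sylow 3-subgroups (helper99).
Part b: involutions, elements outside the centralizer, transitivity of centralizers.
-/

set_option autoImplicit false
set_option linter.style.haveILetI false
set_option linter.unusedSectionVars false
set_option linter.unusedVariables false

namespace Cfsg.Agent.Lib.Helper99.N3
open Subgroup MulAction Cfsg.Agent.Lib.Helper99.SylAct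

universe u

variable {G : Type u} [Group G] [Finite G]

/-- an involution has `2` mod `4` fixed points (no subgroup of index 2) -/
lemma fx_involution_mod_four (h22 : Nat.card (Sylow 3 G) = 22) (hker : ker3 G = ⊥)
    (hsimple : ∀ M : Subgroup G, M.Normal → M = ⊥ ∨ M = ⊤) {t : G} (ht : orderOf t = 2) :
    fx t % 4 = 2 := by
  classical
  haveI : Finite (Sylow 3 G) := Nat.finite_of_card_ne_zero (by rw [h22]; norm_num)
  letI : Fintype (Sylow 3 G) := Fintype.ofFinite _
  let sgn : G →* ℤˣ := (Equiv.Perm.sign).comp (MulAction.toPermHom G (Sylow 3 G))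
  rcases hsimple sgn.ker (MonoidHom.normal_ker sgn) with h | h
  · exfalso
    have hinj : Function.Injective sgn := (MonoidHom.ker_eq_bot_iff sgn).mp h
    have hle : Nat.card G ≤ Nat.card ℤˣ := Nat.card_le_card_of_injective sgn hinj
    have h2 : Nat.card ℤˣ = 2 := by
      rw [Nat.card_eq_fintype_card]; rfl
    have hG := card_ge h22
    omega
  · have h1 : sgn t = 1 := by
      have : t ∈ sgn.ker := by rw [h]; trivial
      exact this
    set σ : Equiv.Perm (Sylow 3 G) := MulAction.toPermHom G (Sylow 3 G) t with hσ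
    have hsign : Equiv.Perm.sign σ = 1 := h1
    have hσ2 : σ ^ 2 = 1 := by rw [hσ, ← map_pow, ← ht, pow_orderOf_eq_one, map_one]
    have ht1 : t ≠ 1 := by
      rintro rfl
      rw [orderOf_one] at ht
      omega
    have hfx : fx t < 22 := fx_lt h22 hker ht1
    have hsupp : σ.support.card + fx t = 22 := by
      have h3 : (Fx t).ncard = (Finset.univ.filter (fun R : Sylow 3 G => σ R = R)).card := by
        rw [Set.ncard_eq_toFinset_card']
        congr 1
        ext R
        simp only [Set.mem_toFinset, Finset.mem_filter, Finset.mem_univ, true_and]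
        exact mem_Fx
      have h4 : σ.support = Finset.univ.filter (fun R : Sylow 3 G => ¬ σ R = R) := by
        ext R
        simp [Equiv.Perm.mem_support]
      unfold fx
      rw [h3, h4, add_comm, Finset.card_filter_add_card_filter_not, Finset.card_univ,
        ← Nat.card_eq_fintype_card, h22]
    have hσne : σ ≠ 1 := by
      intro h
      rw [h] at hsupp
      simp at hsupp
      omega
    have hord : orderOf σ = 2 := orderOf_eq_prime hσ2 hσne
    obtain ⟨n, hn⟩ := Equiv.Perm.cycleType_prime_order (σ := σ) (by rw [hord]; exact Nat.prime_two)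
    rw [hord] at hn
    have hsum := Equiv.Perm.sum_cycleType σ
    rw [hn] at hsum
    simp only [Multiset.sum_replicate, smul_eq_mul] at hsum
    rw [Equiv.Perm.sign_of_cycleType, hn] at hsign
    simp only [Multiset.sum_replicate, Multiset.card_replicate, smul_eq_mul] at hsign
    have heven : Even ((n + 1) * 2 + (n + 1)) :=
      (neg_one_pow_eq_one_iff_even (by decide)).mp hsign
    obtain ⟨k, hk⟩ := heven
    omega

/-- at least two fixed points -/
lemma two_le_fx (h22 : Nat.card (Sylow 3 G) = 22) (P Q : Sylow 3 G) (hPQ : P ≠ Q) {a : G}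
    (haP : a ∈ normalizer (P : Set G)) (haQ : a ∈ normalizer (Q : Set G)) : 2 ≤ fx a := by
  haveI : Finite (Sylow 3 G) := Nat.finite_of_card_ne_zero (by rw [h22]; norm_num)
  have hsub : ({P, Q} : Set (Sylow 3 G)) ⊆ Fx a := by
    rintro R (rfl | rfl)
    · exact haP
    · exact haQ
  have := Set.ncard_le_ncard hsub (Set.toFinite _)
  rwa [Set.ncard_pair hPQ] at this

/-- an element of odd order normalizing a Sylow 3-subgroup of order 3 centralizes it -/
lemma mem_centralizer_of_odd (h3 : ∀ P : Sylow 3 G, Nat.card P = 3) (R : Sylow 3 G) {g : G}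
    (hodd : ¬ 2 ∣ orderOf g) (hgN : g ∈ normalizer (R : Set G)) :
    g ∈ centralizer (R : Set G) := by
  have hle : zpowers g ≤ centralizer ((R : Subgroup G) : Set G) := by
    apply le_centralizer_of_coprime (R : Subgroup G) _ (isCyclic_of_prime_card (h3 R))
      (zpowers_le.mpr hgN)
    rw [Nat.card_zpowers, h3 R, Nat.totient_prime (by norm_num)]
    exact ((Nat.Prime.coprime_iff_not_dvd Nat.prime_two).mpr hodd).symm
  exact hle (mem_zpowers g)

/-- an element of `N(P)` outside `C(P)` commutes with no nontrivial element of `P` -/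
lemma eq_one_of_commute (h3 : ∀ P : Sylow 3 G, Nat.card P = 3) (P : Sylow 3 G)
    {g : G} (hgC : g ∉ centralizer (P : Set G)) {x : G} (hx : x ∈ (P : Subgroup G))
    (hcomm : g * x = x * g) : x = 1 := by
  have hP3 := h3 P
  have hdvd := Subgroup.card_dvd_of_le
    (inf_le_left : (P : Subgroup G) ⊓ centralizer ({g} : Set G) ≤ P)
  rw [hP3] at hdvd
  rcases (Nat.dvd_prime (by norm_num)).mp hdvd with h | h
  · have hbot := Subgroup.eq_bot_of_card_eq _ h
    have hmem : x ∈ (P : Subgroup G) ⊓ centralizer ({g} : Set G) := by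
      refine ⟨hx, ?_⟩
      show x ∈ centralizer ({g} : Set G)
      rw [mem_centralizer_iff]
      intro h hh
      rw [Set.mem_singleton_iff] at hh
      rw [hh]
      exact hcomm
    rwa [hbot, mem_bot] at hmem
  · exfalso
    apply hgC
    have heq : (P : Subgroup G) ⊓ centralizer ({g} : Set G) = P :=
      Subgroup.eq_of_le_of_card_ge inf_le_left (by rw [h, hP3])
    have hle : (P : Subgroup G) ≤ centralizer ({g} : Set G) := inf_eq_left.mp heq
    intro y hy
    have := hle hy
    rw [mem_centralizer_iff] at this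
    exact (this g rfl).symm

/-- an element of `N(P)` outside `C(P)` has at most 8 fixed points -/
lemma fx_le_eight (h22 : Nat.card (Sylow 3 G) = 22) (h3 : ∀ P : Sylow 3 G, Nat.card P = 3)
    (P : Sylow 3 G) {g : G} (hgN : g ∈ normalizer (P : Set G))
    (hgC : g ∉ centralizer (P : Set G)) : fx g ≤ 8 := by
  haveI : Finite (Sylow 3 G) := Nat.finite_of_card_ne_zero (by rw [h22]; norm_num)
  let f : ↥(P : Subgroup G) × ↥(Fx g \ ({P} : Set (Sylow 3 G))) →
      ↥(({P} : Set (Sylow 3 G))ᶜ) := fun z =>
    ⟨(z.1 : G) • (z.2 : Sylow 3 G), by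
      rw [Set.mem_compl_iff, Set.mem_singleton_iff]
      intro h
      have hxP : (z.1 : G) • P = P :=
        Sylow.smul_eq_iff_mem_normalizer.mpr (le_normalizer z.1.2)
      have h' : (z.1 : G) • (z.2 : Sylow 3 G) = (z.1 : G) • P := h.trans hxP.symm
      exact z.2.2.2 (Set.mem_singleton_iff.mpr (smul_left_cancel _ h'))⟩
  have hf : Function.Injective f := by
    rintro ⟨x, R, hR, hRP⟩ ⟨x', R', hR', hRP'⟩ h
    have h' : (x : G) • R = (x' : G) • R' := congrArg Subtype.val h
    have hz : R' = ((x' : G)⁻¹ * (x : G)) • R := by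
      rw [mul_smul, h', inv_smul_smul]
    set z : G := (x' : G)⁻¹ * (x : G) with hzdef
    have hzP : z ∈ (P : Subgroup G) := mul_mem (inv_mem x'.2) x.2
    have hRP1 : P ≠ R := fun h => hRP (by rw [Set.mem_singleton_iff]; exact h.symm)
    have hgR : g • R = R := mem_Fx.mp hR
    have hgR' : g • R' = R' := mem_Fx.mp hR'
    have h1 : (z⁻¹ * (g * z * g⁻¹)) • R = R := by
      have : g⁻¹ • R = R := by
        rw [← hgR, inv_smul_smul, hgR]
      rw [mul_smul, mul_smul, mul_smul, this, ← hz, hgR', hz, inv_smul_smul]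
    have h2 : z⁻¹ * (g * z * g⁻¹) ∈ (P : Subgroup G) := by
      apply mul_mem (inv_mem hzP)
      exact (hgN z).mp hzP
    have h3' : z⁻¹ * (g * z * g⁻¹) = 1 :=
      eq_one_of_mem_normalizer h3 P R hRP1 h2 (Sylow.smul_eq_iff_mem_normalizer.mp h1)
    have h4 : g * z = z * g := by
      have : g * z * g⁻¹ = z := by
        have := congrArg (fun w => z * w) h3'
        simpa using this
      calc g * z = g * z * g⁻¹ * g := by group
        _ = z * g := by rw [this]
    have hz1 : z = 1 := eq_one_of_commute h3 P hgC hzP h4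
    have hRR' : R' = R := by rw [hz, hz1, one_smul]
    have hxx' : x = x' := by
      have : (x' : G)⁻¹ * (x : G) = 1 := hz1
      have h5 : (x : G) = (x' : G) := by
        have := congrArg (fun w => (x' : G) * w) this
        simpa using this
      exact Subtype.ext h5
    subst hRR'
    subst hxx'
    rfl
  have hcard := Nat.card_le_card_of_injective f hf
  rw [Nat.card_prod, h3 P, Nat.card_coe_set_eq, Nat.card_coe_set_eq,
    Set.ncard_compl, Set.ncard_singleton, h22,
    Set.ncard_sdiff_singleton_of_mem (show P ∈ Fx g from hgN)] at hcard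
  unfold fx
  omega

/-- if `g` centralizes every Sylow 3-subgroup it normalizes, then its centralizer is transitive
on them; in particular their number divides the order of the centralizer -/
lemma fx_dvd_card_centralizer (h22 : Nat.card (Sylow 3 G) = 22) {g : G}
    (hall : ∀ R ∈ Fx g, g ∈ centralizer (R : Set G)) (hne : (Fx g).Nonempty) :
    fx g ∣ Nat.card (centralizer ({g} : Set G)) := by
  haveI : Finite (Sylow 3 G) := Nat.finite_of_card_ne_zero (by rw [h22]; norm_num)
  obtain ⟨P₀, hP₀⟩ := hne
  have hsub : orbit ↥(centralizer ({g} : Set G)) P₀ ⊆ Fx g := by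
    rintro _ ⟨c, rfl⟩
    rw [mem_Fx]
    show g • ((c : G) • P₀) = (c : G) • P₀
    have hc : (c : G) * g = g * (c : G) := by
      have := c.2
      rw [mem_centralizer_iff] at this
      exact (this g rfl).symm
    rw [smul_smul, ← hc, mul_smul, mem_Fx.mp hP₀]
  have hle : ∀ R ∈ Fx g, (R : Subgroup G) ≤ centralizer ({g} : Set G) := by
    intro R hR x hx
    rw [mem_centralizer_iff]
    intro y hy
    rw [Set.mem_singleton_iff] at hy
    rw [hy]
    exact (hall R hR x hx).symm
  have heq : orbit ↥(centralizer ({g} : Set G)) P₀ = Fx g := by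
    apply Set.Subset.antisymm hsub
    intro R hR
    by_contra hRO
    have h1 : 3 ∣ (orbit ↥(centralizer ({g} : Set G)) P₀).ncard := by
      apply dvd_ncard_of_invariant h22 R
      · rintro _ ⟨c, rfl⟩ x hx
        exact ⟨⟨x, hle R hR hx⟩ * c, mul_smul (⟨x, hle R hR hx⟩ : ↥(centralizer ({g} : Set G))) c P₀⟩
      · exact hRO
    have h2 : 3 ∣ (orbit ↥(centralizer ({g} : Set G)) P₀ \ {P₀}).ncard := by
      apply dvd_ncard_of_invariant h22 P₀
      · rintro _ ⟨⟨c, rfl⟩, hcP⟩ x hx
        refine ⟨⟨⟨x, hle P₀ hP₀ hx⟩ * c,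
          mul_smul (⟨x, hle P₀ hP₀ hx⟩ : ↥(centralizer ({g} : Set G))) c P₀⟩, ?_⟩
        intro h
        apply hcP
        rw [Set.mem_singleton_iff] at h ⊢
        have hxP : x • P₀ = P₀ := Sylow.smul_eq_iff_mem_normalizer.mpr (le_normalizer hx)
        have h' : x • (c • P₀) = x • P₀ := h.trans hxP.symm
        exact smul_left_cancel x h'
      · simp
    have h4 : (orbit ↥(centralizer ({g} : Set G)) P₀ \ {P₀}).ncard =
        (orbit ↥(centralizer ({g} : Set G)) P₀).ncard - 1 :=
      Set.ncard_sdiff_singleton_of_mem (mem_orbit_self P₀)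
    have h5 : 0 < (orbit ↥(centralizer ({g} : Set G)) P₀).ncard :=
      (Set.ncard_pos (Set.toFinite _)).mpr ⟨P₀, mem_orbit_self P₀⟩
    omega
  unfold fx
  rw [← heq, ncard_orbit_subgroup]
  exact Subgroup.relIndex_dvd_card _ _

end Cfsg.Agent.Lib.Helper99.N3
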