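import Mathlib
import Cfsg.Agent.Lib.Helper99.SylAct
import Cfsg.Agent.Lib.Helper99.SylAct2
import Cfsg.Agent.Lib.Helper99.N3b

/-!
No simple group with Sylow 3-subgroups of order 3 has exactly 22 Sylow 3-subgroups (helper99).
Part c: no elements of order 5, no involutions centralizing a Sylow 3-subgroup, and the
structure of the centralizer of a Sylow 3-subgroup.
-/

set_option autoImplicit false
set_option linter.style.haveILetI false
set_option linter.unusedSectionVars false
set_option linter.unusedVariables false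

namespace Cfsg.Agent.Lib.Helper99.N3
open Subgroup MulAction Cfsg.Agent.Lib.Helper99.SylAct

universe u

variable {G : Type u} [Group G] [Finite G]

instance fact5 : Fact (Nat.Prime 5) := ⟨by norm_num⟩
instance fact7 : Fact (Nat.Prime 7) := ⟨by norm_num⟩
instance fact11 : Fact (Nat.Prime 11) := ⟨by norm_num⟩

lemma ne_one_of_orderOf {g : G} {r : ℕ} (hr : 1 < r) (hg : orderOf g = r) : g ≠ 1 := by
  rintro rfl
  rw [orderOf_one] at hg
  omega

/-- there are no elements of order 5 -/
lemma no_order_five (h22 : Nat.card (Sylow 3 G) = 22) (h3 : ∀ P : Sylow 3 G, Nat.card P = 3)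
    (hker : ker3 G = ⊥) {u : G} (hu : orderOf u = 5) : False := by
  haveI : Finite (Sylow 3 G) := Nat.finite_of_card_ne_zero (by rw [h22]; norm_num)
  have h5 := fx_mod_prime h22 (by norm_num : Nat.Prime 5) hu
  have hpos : 0 < (Fx u).ncard := by
    have : 0 < fx u := by omega
    exact this
  have hne : (Fx u).Nonempty := (Set.ncard_pos (Set.toFinite _)).mp hpos
  have hall : ∀ R ∈ Fx u, u ∈ centralizer (R : Set G) := by
    intro R hR
    exact mem_centralizer_of_odd h3 R (by rw [hu]; norm_num) hR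
  obtain ⟨R₁, hR₁⟩ := hne
  have hmod3 := fx_mod_three h22 R₁ (hall R₁ hR₁)
  have hlt := fx_lt h22 hker (ne_one_of_orderOf (by norm_num) hu)
  have hfx7 : fx u = 7 := by omega
  have hdvd := fx_dvd_card_centralizer h22 hall ⟨R₁, hR₁⟩
  rw [hfx7] at hdvd
  obtain ⟨z, hz⟩ := exists_prime_orderOf_dvd_card' (G := centralizer ({u} : Set G)) 7 hdvd
  have hz' : orderOf (z : G) = 7 := by rw [Subgroup.orderOf_coe, hz]
  have hzu : (z : G) * u = u * (z : G) := by
    have := z.2
    rw [mem_centralizer_iff] at this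
    exact (this u rfl).symm
  have h7 := fx_mod_prime h22 (by norm_num : Nat.Prime 7) hz'
  have hposz : 0 < (Fx (z : G)).ncard := by
    have : 0 < fx (z : G) := by omega
    exact this
  obtain ⟨R₀, hR₀⟩ := (Set.ncard_pos (Set.toFinite _)).mp hposz
  have hzC : (z : G) ∈ centralizer (R₀ : Set G) :=
    mem_centralizer_of_odd h3 R₀ (by rw [hz']; norm_num) hR₀
  have hzmod3 := fx_mod_three h22 R₀ hzC
  have hzlt := fx_lt h22 hker (ne_one_of_orderOf (by norm_num) hz')
  have hfz : fx (z : G) = 1 := by omega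
  have hFz : Fx (z : G) = {R₀} := by
    obtain ⟨R', hR'⟩ := Set.ncard_eq_one.mp hfz
    rw [hR'] at hR₀ ⊢
    rw [Set.mem_singleton_iff] at hR₀
    rw [hR₀]
  have huR₀ : u • R₀ = R₀ := by
    have : u • R₀ ∈ Fx (z : G) := by
      rw [mem_Fx, smul_smul, hzu, mul_smul, mem_Fx.mp hR₀]
    rw [hFz, Set.mem_singleton_iff] at this
    exact this
  have hR₀u : R₀ ∈ Fx u := mem_Fx.mpr huR₀
  have h7dvd : 7 ∣ (Fx u \ {R₀}).ncard := by
    apply dvd_ncard_of_fixfree h22 (by norm_num : Nat.Prime 7) hz'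
    · rintro R ⟨hR, hRne⟩
      refine ⟨?_, ?_⟩
      · rw [mem_Fx, smul_smul, ← hzu, mul_smul, mem_Fx.mp hR]
      · intro h
        apply hRne
        rw [Set.mem_singleton_iff] at h ⊢
        have h' : (z : G) • R = (z : G) • R₀ := h.trans (mem_Fx.mp hR₀).symm
        exact smul_left_cancel _ h'
    · rintro R ⟨hR, hRne⟩ hfix
      apply hRne
      have : R ∈ Fx (z : G) := mem_Fx.mpr hfix
      rwa [hFz] at this
  rw [Set.ncard_sdiff_singleton_of_mem hR₀u] at h7dvd
  have : (Fx u).ncard = 7 := hfx7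
  rw [this] at h7dvd
  omega

/-- no involution centralizes a Sylow 3-subgroup -/
lemma no_involution_centralizer (h22 : Nat.card (Sylow 3 G) = 22)
    (h3 : ∀ P : Sylow 3 G, Nat.card P = 3) (hker : ker3 G = ⊥)
    (hsimple : ∀ M : Subgroup G, M.Normal → M = ⊥ ∨ M = ⊤) (P : Sylow 3 G) {t : G}
    (htC : t ∈ centralizer (P : Set G)) (ht : orderOf t = 2) : False := by
  haveI : Finite (Sylow 3 G) := Nat.finite_of_card_ne_zero (by rw [h22]; norm_num)
  have h1 := fx_involution_mod_four h22 hker hsimple ht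
  have h2 := fx_mod_three h22 P htC
  have hlt := fx_lt h22 hker (ne_one_of_orderOf (by norm_num) ht)
  have hfx : fx t = 10 := by omega
  have hall : ∀ R ∈ Fx t, t ∈ centralizer (R : Set G) := by
    intro R hR
    by_contra hC
    have := fx_le_eight h22 h3 R hR hC
    omega
  have hdvd := fx_dvd_card_centralizer h22 hall ⟨P, centralizer_le_normalizer _ htC⟩
  rw [hfx] at hdvd
  obtain ⟨u, hu⟩ := exists_prime_orderOf_dvd_card' (G := centralizer ({t} : Set G)) 5
    (Dvd.dvd.trans (by norm_num) hdvd)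
  have hu' : orderOf (u : G) = 5 := by rw [Subgroup.orderOf_coe, hu]
  exact no_order_five h22 h3 hker hu'

lemma prime_arith {r f : ℕ} (hr : r.Prime) (h3 : f % 3 = 1) (h2 : 2 ≤ f) (hlt : f < 22)
    (hmod : f % r = 22 % r) : r = 2 ∨ r = 3 ∨ r = 5 := by
  have hdvd : r ∣ 22 - f := (Nat.modEq_iff_dvd' hlt.le).mp hmod
  have hle : r ≤ 22 - f := Nat.le_of_dvd (by omega) hdvd
  have hr2 := hr.two_le
  have hr20 : r ≤ 20 := by omega
  interval_cases r <;> first | (exfalso; revert hr; decide) | omega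

/-- the centralizer of a Sylow 3-subgroup acts semiregularly on the other Sylow
3-subgroups -/
lemma centralizer_inf_normalizer (h22 : Nat.card (Sylow 3 G) = 22)
    (h3 : ∀ P : Sylow 3 G, Nat.card P = 3) (hker : ker3 G = ⊥)
    (hsimple : ∀ M : Subgroup G, M.Normal → M = ⊥ ∨ M = ⊤) (P Q : Sylow 3 G) (hPQ : P ≠ Q) :
    centralizer (P : Set G) ⊓ normalizer (Q : Set G) = ⊥ := by
  rw [eq_bot_iff]
  intro a ha
  rw [mem_bot]
  by_contra ha1
  have hn1 : orderOf a ≠ 1 := fun h => ha1 (orderOf_eq_one_iff.mp h)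
  have hnpos : 0 < orderOf a := orderOf_pos a
  set r := (orderOf a).minFac with hrdef
  have hr : r.Prime := Nat.minFac_prime hn1
  have hrdvd : r ∣ orderOf a := Nat.minFac_dvd _
  set b := a ^ (orderOf a / r) with hbdef
  have hb : orderOf b = r := orderOf_pow_orderOf_div hnpos.ne' hrdvd
  have hbmem : b ∈ centralizer (P : Set G) ⊓ normalizer (Q : Set G) := pow_mem ha _
  have hbC : b ∈ centralizer (P : Set G) := hbmem.1
  have hbP : b ∈ normalizer (P : Set G) := centralizer_le_normalizer _ hbC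
  have hbQ : b ∈ normalizer (Q : Set G) := hbmem.2
  have hb1 : b ≠ 1 := ne_one_of_orderOf hr.one_lt hb
  have hcases := prime_arith hr (fx_mod_three h22 P hbC) (two_le_fx h22 P Q hPQ hbP hbQ)
    (fx_lt h22 hker hb1) (fx_mod_prime h22 hr hb)
  rcases hcases with h | h | h
  · exact no_involution_centralizer h22 h3 hker hsimple P hbC (hb.trans h)
  · have hb3 : b ^ 3 ^ 1 = 1 := by
      rw [pow_one, ← h, ← hb]; exact pow_orderOf_eq_one b
    have hbP' : b ∈ (P : Subgroup G) := mem_sylow_of_pow_eq_one P 1 hb3 hbP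
    exact hb1 (eq_one_of_mem_normalizer h3 P Q hPQ hbP' hbQ)
  · exact no_order_five h22 h3 hker (hb.trans h)

/-- orbit-stabilizer for a subgroup acting on the Sylow 3-subgroups -/
lemma orbit_mul_card (H : Subgroup G) (Q : Sylow 3 G) :
    (orbit ↥H Q).ncard * Nat.card ↥(H ⊓ normalizer (Q : Set G)) = Nat.card H := by
  rw [ncard_orbit_subgroup, ← Subgroup.inf_relIndex_right, inf_comm]
  have h1 := Subgroup.card_mul_index ((H ⊓ normalizer (Q : Set G)).subgroupOf H)
  rw [Nat.card_congr (Subgroup.subgroupOfEquivOfLe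
    (inf_le_left : H ⊓ normalizer (Q : Set G) ≤ _)).toEquiv] at h1
  rw [mul_comm]
  exact h1

lemma orbit_subset_compl (H : Subgroup G) (P Q : Sylow 3 G) (hH : H ≤ normalizer (P : Set G))
    (hPQ : P ≠ Q) : orbit ↥H Q ⊆ ({P} : Set (Sylow 3 G))ᶜ := by
  intro R hR
  rw [Set.mem_compl_iff, Set.mem_singleton_iff]
  rintro rfl
  exact not_mem_orbit _ R Q hH hPQ hR

lemma exists_ne (h22 : Nat.card (Sylow 3 G) = 22) (P : Sylow 3 G) : ∃ Q : Sylow 3 G, Q ≠ P := by
  haveI : Finite (Sylow 3 G) := Nat.finite_of_card_ne_zero (by rw [h22]; norm_num)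
  by_contra h
  push Not at h
  haveI : Subsingleton (Sylow 3 G) := ⟨fun A B => (h A).trans (h B).symm⟩
  have := Finite.card_le_one_iff_subsingleton.mpr this
  omega

lemma card_arith {c : ℕ} (hle : c ≤ 21) (h3 : 3 ∣ c) (h2 : ¬ 2 ∣ c) (h5 : ¬ 5 ∣ c)
    (h9 : ¬ 9 ∣ c) : c = 3 ∨ c = 21 := by
  interval_cases c <;> omega

/-- the centralizer of a Sylow 3-subgroup has order 3 or 21 -/
lemma card_centralizer (h22 : Nat.card (Sylow 3 G) = 22)
    (h3 : ∀ P : Sylow 3 G, Nat.card P = 3) (hker : ker3 G = ⊥)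
    (hsimple : ∀ M : Subgroup G, M.Normal → M = ⊥ ∨ M = ⊤) (P : Sylow 3 G) :
    Nat.card (centralizer (P : Set G)) = 3 ∨ Nat.card (centralizer (P : Set G)) = 21 := by
  haveI : Finite (Sylow 3 G) := Nat.finite_of_card_ne_zero (by rw [h22]; norm_num)
  obtain ⟨Q, hQ⟩ := exists_ne h22 P
  have hPQ : P ≠ Q := Ne.symm hQ
  have h1 := orbit_mul_card (centralizer (P : Set G)) Q
  rw [centralizer_inf_normalizer h22 h3 hker hsimple P Q hPQ, Subgroup.card_bot, mul_one] at h1
  have hle : Nat.card (centralizer (P : Set G)) ≤ 21 := by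
    rw [← h1]
    have := Set.ncard_le_ncard
      (orbit_subset_compl (centralizer (P : Set G)) P Q (centralizer_le_normalizer _) hPQ)
      (Set.toFinite _)
    rwa [Set.ncard_compl, Set.ncard_singleton, h22] at this
  apply card_arith hle
  · have := Subgroup.card_dvd_of_le (sylow_le_centralizer h3 P)
    rwa [h3 P] at this
  · intro h2
    obtain ⟨t, ht⟩ := exists_prime_orderOf_dvd_card' (G := centralizer (P : Set G)) 2 h2
    have ht' : orderOf (t : G) = 2 := by rw [Subgroup.orderOf_coe, ht]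
    exact no_involution_centralizer h22 h3 hker hsimple P t.2 ht'
  · intro h5
    obtain ⟨t, ht⟩ := exists_prime_orderOf_dvd_card' (G := centralizer (P : Set G)) 5 h5
    have ht' : orderOf (t : G) = 5 := by rw [Subgroup.orderOf_coe, ht]
    exact no_order_five h22 h3 hker ht'
  · intro h9
    have h9G : 3 ^ (1 + 1) ∣ Nat.card G :=
      Dvd.dvd.trans (by norm_num; exact h9) (Subgroup.card_subgroup_dvd_card _)
    have hP := h3 P
    rw [P.card_eq_multiplicity] at hP
    have hne : Nat.card G ≠ 0 := Nat.card_pos.ne'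
    rw [(by norm_num : Nat.Prime 3).pow_dvd_iff_le_factorization hne] at h9G
    have h31 : (3 : ℕ) ^ (Nat.card G).factorization 3 = 3 ^ 1 := by rw [hP]; norm_num
    have := Nat.pow_right_injective (by norm_num : 2 ≤ 3) h31
    omega

end Cfsg.Agent.Lib.Helper99.N3
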