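import Mathlib
import Cfsg.Agent.Lib.Helper99.SylAct
import Cfsg.Agent.Lib.Helper99.SylAct2
import Cfsg.Agent.Lib.Helper99.N3c

/-!
No simple group with Sylow 3-subgroups of order 3 has exactly 22 Sylow 3-subgroups (helper99).
Part d: the order of the group is 132 or 924, and the Sylow 11-subgroup gives a contradiction.
-/

set_option autoImplicit false
set_option linter.style.haveILetI false
set_option linter.unusedSectionVars false
set_option linter.unusedVariables false

namespace Cfsg.Agent.Lib.Helper99.N3
open Subgroup MulAction Cfsg.Agent.Lib.Helper99.SylAct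

universe u

variable {G : Type u} [Group G] [Finite G]

/-- a Sylow subgroup that is neither trivial nor everything -/
lemma sylow_ne {p : ℕ} (S : Sylow p G) (h1 : Nat.card S ≠ 1) (h2 : Nat.card S ≠ Nat.card G) :
    ¬ ((S : Subgroup G) = ⊥ ∨ (S : Subgroup G) = ⊤) := by
  rintro (h | h)
  · apply h1
    have : Nat.card (S : Subgroup G) = Nat.card (⊥ : Subgroup G) := by rw [h]
    rw [this, Subgroup.card_bot]
  · apply h2
    have : Nat.card (S : Subgroup G) = Nat.card (⊤ : Subgroup G) := by rw [h]
    rw [this, Subgroup.card_top]

/-- `|N(P) : C(P)|` divides 2 -/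
lemma relIndex_dvd_two (h3 : ∀ P : Sylow 3 G, Nat.card P = 3) (P : Sylow 3 G) :
    (centralizer (P : Set G)).relIndex (normalizer (P : Set G)) ∣ 2 := by
  have hH : IsCyclic (P : Subgroup G) := isCyclic_of_prime_card (h3 P)
  have key := Subgroup.card_dvd_of_injective _
    (QuotientGroup.kerLift_injective (P : Subgroup G).normalizerMonoidHom)
  rw [normalizerMonoidHom_ker, ← index, ← relIndex] at key
  rw [hH.card_mulAut, h3 P, Nat.totient_prime (by norm_num)] at key
  exact key

/-- the order of `G` -/
lemma card_eq (h22 : Nat.card (Sylow 3 G) = 22) (P : Sylow 3 G) :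
    Nat.card G = 22 * (Nat.card (centralizer (P : Set G)) *
      (centralizer (P : Set G)).relIndex (normalizer (P : Set G))) := by
  have h1 := Sylow.card_eq_index_normalizer P
  rw [h22] at h1
  have h2 := Subgroup.card_mul_index (normalizer (P : Set G))
  have h3 := Subgroup.relIndex_mul_index (centralizer_le_normalizer (P : Set G))
  have h4 := Subgroup.card_mul_index (centralizer (P : Set G))
  rw [← h1] at h2
  have h5 : Nat.card (normalizer (P : Set G)) = Nat.card (centralizer (P : Set G)) *
      (centralizer (P : Set G)).relIndex (normalizer (P : Set G)) := by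
    have hpos : 0 < (normalizer (P : Set G)).index := by rw [← h1]; norm_num
    have : Nat.card (normalizer (P : Set G)) * (normalizer (P : Set G)).index
        = Nat.card (centralizer (P : Set G)) *
      (centralizer (P : Set G)).relIndex (normalizer (P : Set G)) *
        (normalizer (P : Set G)).index := by
      rw [mul_assoc, h3, h4, ← h1, h2]
    exact Nat.eq_of_mul_eq_mul_right hpos this
  rw [← h5, ← h2, mul_comm]

/-- `N(P) ≠ C(P)` -/
lemma relIndex_ne_one (h22 : Nat.card (Sylow 3 G) = 22) (h3 : ∀ P : Sylow 3 G, Nat.card P = 3)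
    (hsimple : ∀ M : Subgroup G, M.Normal → M = ⊥ ∨ M = ⊤) (P : Sylow 3 G) :
    (centralizer (P : Set G)).relIndex (normalizer (P : Set G)) ≠ 1 := by
  intro h
  have hle : normalizer (P : Set G) ≤ centralizer (P : Set G) := Subgroup.relIndex_eq_one.mp h
  have hP := h3 P
  have hG := card_ge h22
  exact sylow_ne P (by rw [hP]; norm_num) (by rw [hP]; omega)
    (burnside_of_simple hsimple P hle)

/-- the order of `G` is 132 or 924 -/
lemma card_cases (h22 : Nat.card (Sylow 3 G) = 22) (h3 : ∀ P : Sylow 3 G, Nat.card P = 3)
    (hker : ker3 G = ⊥) (hsimple : ∀ M : Subgroup G, M.Normal → M = ⊥ ∨ M = ⊤) :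
    Nat.card G = 132 ∨ Nat.card G = 924 := by
  haveI : Finite (Sylow 3 G) := Nat.finite_of_card_ne_zero (by rw [h22]; norm_num)
  obtain ⟨P⟩ : Nonempty (Sylow 3 G) := inferInstance
  have hc := card_centralizer h22 h3 hker hsimple P
  have hd := relIndex_dvd_two h3 P
  have hd1 := relIndex_ne_one h22 h3 hsimple P
  have hcard := card_eq h22 P
  have hd2 : (centralizer (P : Set G)).relIndex (normalizer (P : Set G)) = 2 := by
    rcases (Nat.dvd_prime Nat.prime_two).mp hd with h | h
    · exact absurd h hd1
    · exact h
  rw [hd2] at hcard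
  rcases hc with hc | hc <;> rw [hc] at hcard <;> omega

/-- a group of order 132 or 924 has a proper nontrivial normal subgroup -/
lemma eleven_case (hsimple : ∀ M : Subgroup G, M.Normal → M = ⊥ ∨ M = ⊤)
    (hG : Nat.card G = 132 ∨ Nat.card G = 924) : False := by
  obtain ⟨F⟩ : Nonempty (Sylow 11 G) := inferInstance
  have hF : Nat.card F = 11 := by
    have := card_sylow_eq_pow F 1 (by rcases hG with h | h <;> rw [h] <;> norm_num)
      (by rcases hG with h | h <;> rw [h] <;> norm_num)
    simpa using this
  have hF1 : Nat.card F ≠ 1 := by rw [hF]; norm_num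
  have hF2 : Nat.card F ≠ Nat.card G := by rw [hF]; rcases hG with h | h <;> rw [h] <;> norm_num
  have hidx : (F : Subgroup G).index = 12 ∨ (F : Subgroup G).index = 84 := by
    have := Subgroup.card_mul_index (F : Subgroup G)
    rw [hF] at this
    rcases hG with h | h <;> rw [h] at this <;> omega
  have hmod := card_sylow_modEq_one 11 G
  have hdvd := Sylow.card_dvd_index F
  have hn := Sylow.card_eq_index_normalizer F
  have hcases : Nat.card (Sylow 11 G) = 1 ∨ Nat.card (Sylow 11 G) = 12 := by
    generalize Nat.card (Sylow 11 G) = n at hmod hdvd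
    unfold Nat.ModEq at hmod
    rcases hidx with h | h <;> rw [h] at hdvd
    · have hle : n ≤ 12 := Nat.le_of_dvd (by norm_num) hdvd
      interval_cases n <;> omega
    · have hle : n ≤ 84 := Nat.le_of_dvd (by norm_num) hdvd
      interval_cases n <;> omega
  rcases hcases with h1 | h12
  · rw [h1] at hn
    have htop : normalizer (F : Set G) = ⊤ := Subgroup.index_eq_one.mp hn.symm
    have hnorm : (F : Subgroup G).Normal :=
      (Subgroup.normalizer_eq_top_iff (H := (F : Subgroup G))).mp htop
    exact sylow_ne F hF1 hF2 (hsimple _ hnorm)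
  · rw [h12] at hn
    have hN : Nat.card (normalizer (F : Set G)) = 11 ∨
        Nat.card (normalizer (F : Set G)) = 77 := by
      have := Subgroup.card_mul_index (normalizer (F : Set G))
      rw [← hn] at this
      rcases hG with h | h <;> rw [h] at this <;> omega
    have hNC : normalizer (F : Set G) ≤ centralizer (F : Set G) := by
      apply normalizer_le_centralizer_of_coprime (F : Subgroup G) (isCyclic_of_prime_card hF)
      rw [hF, Nat.totient_prime (by norm_num)]
      rcases hN with h | h
      · have hN' : Nat.card (normalizer ((F : Subgroup G) : Set G)) = 11 := h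
        rw [hN']; decide
      · have hN' : Nat.card (normalizer ((F : Subgroup G) : Set G)) = 77 := h
        rw [hN']; decide
    exact sylow_ne F hF1 hF2 (burnside_of_simple hsimple F hNC)

/-- **TI endgame**: a finite group without proper nontrivial normal subgroups, all of whose
Sylow 3-subgroups have order 3, does not have exactly 22 Sylow 3-subgroups. -/
theorem no_ti_22 (hsimple : ∀ M : Subgroup G, M.Normal → M = ⊥ ∨ M = ⊤)
    (h22 : Nat.card (Sylow 3 G) = 22) (h3 : ∀ P : Sylow 3 G, Nat.card P = 3) : False := by
  have hker := ker3_eq_bot h22 hsimple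
  exact eleven_case hsimple (card_cases h22 h3 hker hsimple)

end Cfsg.Agent.Lib.Helper99.N3
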