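import Mathlib
import Cfsg.Agent.Lib.Helper44.PGStmt
import Cfsg.Agent.Lib.Helper44.OCls1
import Cfsg.Agent.Lib.Helper40.RecipPoly

/-! S2474 piece GNEC2: necessity for `p * s` at the level of Gram matrices. -/

set_option autoImplicit false

namespace Cfsg.Agent.Lib.Helper99.PGGNEC2

open Matrix Polynomial
open Cfsg.Agent.Lib.Helper44.QSpace Cfsg.Agent.Lib.Helper44.OGroup Cfsg.Agent.Lib.Helper44.OMat
open Cfsg.Agent.Lib.Helper44.OExt Cfsg.Agent.Lib.Helper40.RecipPoly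
open Cfsg.Agent.Lib.Helper44.PGStmt

universe u

theorem main (hGD : GDecomp.{u}) (hBD : Cfsg.Agent.Lib.Helper44.BCStmt.BlockDiag.{u})
    (hBF : Cfsg.Agent.Lib.Helper44.BCStmt.BlockFacts.{u}) (hTB : GTorBound.{u})
    (hRD : RootDvd.{u}) (hSU : SqfreeUnip.{u}) : GNecII.{u} := by
  intro F _ _ p _ _ ι _ _ G x s h2 hG hx hs hs2 hsp hord
  have hp : p.Prime := Fact.out
  by_contra hcon
  have hstar : ∀ k : ℕ, 1 ≤ k → Tor (Fintype.card F) k s → Fintype.card ι < 2 * k + 2 := by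
    intro k hk ht
    by_contra h
    exact hcon ⟨k, hk, not_lt.mp h, ht⟩
  have hsF : ((s : ℕ) : F) ≠ 0 := by
    intro h0
    rw [CharP.cast_eq_zero_iff F p] at h0
    exact hsp ((Nat.prime_dvd_prime_iff_eq hp hs).1 h0).symm
  have hs3 : 2 < s := lt_of_le_of_ne hs.two_le (Ne.symm hs2)
  have hpowinv : ∀ j : ℕ, (x ^ j)ᵀ * G * x ^ j = G := by
    intro j
    induction j with
    | zero => simp
    | succ j ih =>
      rw [pow_succ, Matrix.transpose_mul]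
      calc xᵀ * (x ^ j)ᵀ * G * (x ^ j * x) = xᵀ * ((x ^ j)ᵀ * G * x ^ j) * x := by
            simp only [Matrix.mul_assoc]
        _ = G := by rw [ih, hx]
  have hTpow : ∀ j : ℕ, (x ^ p) ^ j = 1 ↔ s ∣ j := by
    intro j; rw [← pow_mul, hord]; exact Nat.mul_dvd_mul_iff_left hp.pos
  have hUpow : ∀ j : ℕ, (x ^ s) ^ j = 1 ↔ p ∣ j := by
    intro j; rw [← pow_mul, hord, mul_comm p s]; exact Nat.mul_dvd_mul_iff_left hs.pos
  have hUT : x ^ s * x ^ p = x ^ p * x ^ s := (Commute.pow_pow_self x _ _).eq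
  obtain ⟨k₁, k₂, G₁, G₂, T₂, J, hG₁, hG₂, hT₂inv, hT₂s, hT₂fix, hbil, hTJ, -, -⟩ :=
    hGD F ι G (x ^ p) s hG (hpowinv p) hs.pos hsF ((hTpow s).mpr dvd_rfl)
  have hk : k₁ + k₂ = Fintype.card ι := by
    have h3 := J.finrank_eq
    rw [Module.finrank_fintype_fun_eq_card, Module.finrank_fintype_fun_eq_card, Fintype.card_sum,
      Fintype.card_fin, Fintype.card_fin] at h3
    exact h3
  have hk₂ : 0 < k₂ := by
    by_contra h0
    have hk0 : k₂ = 0 := by omega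
    subst hk0
    have hT1 : x ^ p = 1 := by
      apply matrix_ext_mulVec
      intro v
      obtain ⟨w, rfl⟩ := J.surjective v
      rw [hTJ w, Matrix.one_mulVec]
      congr 1
      funext i
      rcases i with i | i
      · rfl
      · exact i.elim0
    have h4 := (hTpow 1).mp (by rw [pow_one]; exact hT1)
    exact hs.one_lt.ne' (Nat.dvd_one.mp h4)
  have hfix : ∀ ℓ : ℕ, ℓ.Prime → ℓ ∣ s → ∀ v : Fin k₂ → F, (T₂ ^ (s / ℓ)) *ᵥ v = v → v = 0 := by
    intro ℓ hℓ hℓs v hv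
    have hℓeq : ℓ = s := (Nat.prime_dvd_prime_iff_eq hℓ hs).1 hℓs
    subst hℓeq
    rw [Nat.div_self hℓ.pos, pow_one] at hv
    exact hT₂fix v hv
  obtain ⟨k, hk1, hk2, hkT⟩ := hTB F (Fin k₂) G₂ T₂ s (by rw [Fintype.card_fin]; exact hk₂)
    hG₂ hT₂inv hs3 hT₂s hfix
  rw [Fintype.card_fin] at hk2
  have hk₁ : k₁ ≤ 1 := by
    have h5 := hstar k hk1 hkT
    omega
  obtain ⟨U₁, U₂, hUJ, hU₂T₂⟩ := hBD F ι (x ^ p) (x ^ s) k₁ k₂ T₂ J hT₂fix hTJ hUT
  obtain ⟨hUpowB, -, -⟩ := hBF F ι k₁ k₂ J (x ^ s) U₁ U₂ hUJ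
  have hUp : U₁ ^ p = 1 ∧ U₂ ^ p = 1 := (hUpowB p).mp ((hUpow p).mpr dvd_rfl)
  have hU₁ : U₁ = 1 := by
    have hsq : Squarefree (0 : Matrix (Fin k₁) (Fin k₁) F).charpoly := by
      rw [Matrix.charpoly_zero, Fintype.card_fin]
      interval_cases k₁
      · rw [pow_zero]; exact squarefree_one
      · rw [pow_one]; exact irreducible_X.squarefree
    exact hSU F p (Fin k₁) 0 U₁ hsq (by simp) hUp.1
  have hU₂ : U₂ ≠ 1 := by
    intro h1
    have h6 : (x ^ s) ^ 1 = 1 := (hUpowB 1).mpr ⟨by rw [hU₁, pow_one], by rw [h1, pow_one]⟩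
    have h7 := (hUpow 1).mp h6
    exact hp.one_lt.ne' (Nat.dvd_one.mp h7)
  have hnsq : ¬ Squarefree T₂.charpoly :=
    fun hsq => hU₂ (hSU F p (Fin k₂) T₂ U₂ hsq hU₂T₂ hUp.2)
  obtain ⟨c, hc⟩ : ∃ c : F[X], c = T₂.charpoly := ⟨_, rfl⟩
  rw [← hc] at hnsq
  have hcmonic : c.Monic := by rw [hc]; exact Matrix.charpoly_monic T₂
  have hc0 : c ≠ 0 := hcmonic.ne_zero
  have hcdeg : c.natDegree = k₂ := by
    rw [hc, Matrix.charpoly_natDegree_eq_dim, Fintype.card_fin]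
  obtain ⟨f, hf, hff⟩ : ∃ f : F[X], Irreducible f ∧ f * f ∣ c := by
    unfold Squarefree at hnsq
    push Not at hnsq
    obtain ⟨g, hgg, hgu⟩ := hnsq
    have hg0 : g ≠ 0 := by
      rintro rfl
      rw [zero_mul] at hgg
      exact hc0 (zero_dvd_iff.mp hgg)
    obtain ⟨f, hf, hfg⟩ := WfDvdMonoid.exists_irreducible_factor hgu hg0
    exact ⟨f, hf, (mul_dvd_mul hfg hfg).trans hgg⟩
  have hfc : f ∣ c := (dvd_mul_right f f).trans hff
  have hf0 : f ≠ 0 := hf.ne_zero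
  have hd1 : 1 ≤ f.natDegree := hf.natDegree_pos
  have hd2 : 2 * f.natDegree ≤ k₂ := by
    have h8 := Polynomial.natDegree_le_of_dvd hff hc0
    rw [Polynomial.natDegree_mul hf0 hf0, hcdeg] at h8
    omega
  obtain ⟨hdvd1, hdvd2⟩ := hRD F (Fin k₂) T₂ s hs.pos hT₂s hfix f hf (by rw [← hc]; exact hfc)
  have hd3 := hstar f.natDegree hd1 (Or.inl hdvd1)
  by_cases hfr : f ∣ rstar (RingHom.id F) f
  · obtain ⟨hev, hdvd3⟩ := hdvd2 hs3 hfr
    obtain ⟨e, he⟩ := hev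
    have he1 : 1 ≤ f.natDegree / 2 := by omega
    have hd4 := hstar (f.natDegree / 2) he1 (Or.inr hdvd3)
    omega
  · have hT₂inv' : T₂ * T₂ ^ (s - 1) = 1 := by
      rw [← pow_succ', Nat.sub_add_cancel hs.pos, hT₂s]
    have hdetG : IsUnit G₂.det := isUnit_iff_ne_zero.mpr hG₂
    have h1 : T₂ᵀ * G₂ = G₂ * T₂ ^ (s - 1) := by
      calc T₂ᵀ * G₂ = T₂ᵀ * G₂ * (T₂ * T₂ ^ (s - 1)) := by rw [hT₂inv', Matrix.mul_one]
        _ = G₂ * T₂ ^ (s - 1) := by rw [← Matrix.mul_assoc, hT₂inv]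
    have h2' : T₂ ^ (s - 1) = G₂⁻¹ * (T₂ᵀ * G₂) := by
      rw [h1, ← Matrix.mul_assoc, Matrix.nonsing_inv_mul _ hdetG, Matrix.one_mul]
    have hrc : rstar (RingHom.id F) c = c := by
      rw [hc, Cfsg.Agent.Lib.Helper44.OCls1.rstar_charpoly_inv T₂ (T₂ ^ (s - 1)) hT₂inv', h2',
        Matrix.charpoly_mul_comm, Matrix.mul_assoc, Matrix.mul_nonsing_inv _ hdetG,
        Matrix.mul_one, Matrix.charpoly_transpose]
    have hc00 : c.coeff 0 ≠ 0 := by
      have hdet : T₂.det ≠ 0 :=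
        left_ne_zero_of_mul_eq_one (by rw [← Matrix.det_mul, hT₂inv', Matrix.det_one])
      intro h0
      apply hdet
      rw [Matrix.det_eq_sign_charpoly_coeff, ← hc, h0, mul_zero]
    have hf00 : f.coeff 0 ≠ 0 := coeff0_of_dvd hfc hc00
    have hrdeg : (rstar (RingHom.id F) f).natDegree = f.natDegree :=
      rstar_natDegree _ f hf00
    have hcop : IsCoprime f (rstar (RingHom.id F) f) := (hf.coprime_iff_not_dvd).mpr hfr
    have hrr : rstar (RingHom.id F) f * rstar (RingHom.id F) f ∣ c := by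
      obtain ⟨e, he⟩ := hff
      refine ⟨rstar (RingHom.id F) e, ?_⟩
      rw [← rstar_mul, ← rstar_mul, ← he, hrc]
    have hcop2 : IsCoprime (f * f) (rstar (RingHom.id F) f * rstar (RingHom.id F) f) :=
      IsCoprime.mul_left (IsCoprime.mul_right hcop hcop) (IsCoprime.mul_right hcop hcop)
    have hall := hcop2.mul_dvd hff hrr
    have hP0 : f * f * (rstar (RingHom.id F) f * rstar (RingHom.id F) f) ≠ 0 :=
      ne_zero_of_dvd_ne_zero hc0 hall
    have hr0 : rstar (RingHom.id F) f ≠ 0 := by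
      intro h0
      rw [h0] at hP0
      simp at hP0
    have h9 := Polynomial.natDegree_le_of_dvd hall hc0
    rw [Polynomial.natDegree_mul (mul_ne_zero hf0 hf0) (mul_ne_zero hr0 hr0),
      Polynomial.natDegree_mul hf0 hf0, Polynomial.natDegree_mul hr0 hr0, hrdeg, hcdeg] at h9
    omega

end Cfsg.Agent.Lib.Helper99.PGGNEC2
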