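import Mathlib
import Cfsg.Agent.Lib.Helper81.RMStmt
import Cfsg.Agent.Lib.Helper81.Glaub

/-! Piece ISO of S4581: the number of real odd-degree irreducible characters is an isomorphism
invariant. -/

set_option autoImplicit false

namespace Cfsg.Agent.Lib.Helper99.RMISO

open Cfsg Cfsg.Agent.Lib.Helper81.RMStmt Cfsg.Agent.Lib.Helper81.Glaub

universe u

theorem main : Cfsg.Agent.Lib.Helper81.RMStmt.ISO.{u} := by
  intro G G' _ _ _ e
  symm
  let E : IrrCharacter G' ≃ IrrCharacter G :=
    { toFun := irrComp e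
      invFun := irrComp e.symm
      left_inv := fun χ => irrComp_symm e χ
      right_inv := fun χ => irrComp_symm' e χ }
  refine Nat.card_congr (Equiv.subtypeEquiv E ?_)
  intro χ
  have hval : ∀ g : G, ((E χ : IrrCharacter G) : G → ℂ) g = χ.1 (e g) := fun g => rfl
  have hdeg : charDegree ((E χ : IrrCharacter G) : G → ℂ) = charDegree (χ : G' → ℂ) := by
    unfold charDegree
    rw [hval, map_one]
  constructor
  · rintro ⟨h, h2⟩
    exact ⟨fun g => by rw [hval]; exact h (e g), by rw [hdeg]; exact h2⟩
  · rintro ⟨h, h2⟩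
    refine ⟨fun g => ?_, by rw [← hdeg]; exact h2⟩
    have h3 := h (e.symm g)
    rw [hval, MulEquiv.apply_symm_apply] at h3
    exact h3

end Cfsg.Agent.Lib.Helper99.RMISO
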