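import Mathlib
import Cfsg.Agent.Lib.Helper81.RMStmt
import Cfsg.Agent.Lib.Helper81.RMBridge

/-! Piece TWIST of S4581: multiplication with a real linear character `lam` of `H` extending
`τ` is a bijection from the real odd-degree characters over `τ` to those over `1`. -/

set_option autoImplicit false

namespace Cfsg.Agent.Lib.Helper99.RMTWIST

open Cfsg Cfsg.Agent.Lib.Helper81.RMStmt Cfsg.Agent.Lib.Helper81.RMBridge

universe u

/-- the complex function `k ↦ lam k` -/
def lamFun {K : Type u} [Group K] (lam : K →* ℤˣ) : K → ℂ :=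
  fun k => (((lam k : ℤˣ) : ℤ) : ℂ)

theorem lamFun_sq {K : Type u} [Group K] (lam : K →* ℤˣ) (k : K) :
    lamFun lam k * lamFun lam k = 1 := by
  unfold lamFun
  have h : ((lam k : ℤˣ) : ℤ) * ((lam k : ℤˣ) : ℤ) = 1 := Int.units_coe_mul_self (lam k)
  exact_mod_cast h

theorem lamFun_im {K : Type u} [Group K] (lam : K →* ℤˣ) (k : K) : (lamFun lam k).im = 0 :=
  Complex.intCast_im _

theorem lamFun_one {K : Type u} [Group K] (lam : K →* ℤˣ) : lamFun lam 1 = 1 := by
  unfold lamFun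
  rw [map_one]
  simp

/-- the twist of an irreducible character by `lam` -/
noncomputable def twistIrr {K : Type u} [Group K] (lam : K →* ℤˣ) (χ : IrrCharacter K) :
    IrrCharacter K :=
  ⟨lamFun lam * χ.1, Cfsg.Agent.Lib.CT.LinChar.isIrrCharacter_linear_mul
    (Cfsg.Agent.Lib.CT.LinChar.isCharacter_of_hom (tauC lam)) (lamFun_one lam) χ.2⟩

theorem twistIrr_apply {K : Type u} [Group K] (lam : K →* ℤˣ) (χ : IrrCharacter K) (k : K) :
    (twistIrr lam χ).1 k = lamFun lam k * χ.1 k := rfl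

theorem twistIrr_twistIrr {K : Type u} [Group K] (lam : K →* ℤˣ) (χ : IrrCharacter K) :
    twistIrr lam (twistIrr lam χ) = χ := by
  apply Subtype.ext
  funext k
  rw [twistIrr_apply, twistIrr_apply, ← mul_assoc, lamFun_sq, one_mul]

theorem main : Cfsg.Agent.Lib.Helper81.RMStmt.TWIST.{u} := by
  intro G _ _ U _ H hUH τ lam hlam
  let E : IrrCharacter ↥H ≃ IrrCharacter ↥H :=
    { toFun := twistIrr lam
      invFun := twistIrr lam
      left_inv := twistIrr_twistIrr lam
      right_inv := twistIrr_twistIrr lam }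
  refine Nat.card_congr (Equiv.subtypeEquiv E ?_)
  intro χ
  have hval : ∀ h : ↥H, ((E χ : IrrCharacter ↥H) : ↥H → ℂ) h = lamFun lam h * χ.1 h :=
    fun h => rfl
  have hdeg : charDegree ((E χ : IrrCharacter ↥H) : ↥H → ℂ) = charDegree (χ : ↥H → ℂ) := by
    unfold charDegree
    rw [hval, lamFun_one, one_mul]
  have him : (∀ h : ↥H, (((E χ : IrrCharacter ↥H) : ↥H → ℂ) h).im = 0) ↔
      (∀ h : ↥H, ((χ : ↥H → ℂ) h).im = 0) := by
    constructor
    · intro hh h
      have h1 := hh h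
      rw [hval] at h1
      have h2 : χ.1 h = lamFun lam h * (lamFun lam h * χ.1 h) := by
        rw [← mul_assoc, lamFun_sq, one_mul]
      rw [h2, Complex.mul_im, h1, lamFun_im]; simp
    · intro hh h
      rw [hval, Complex.mul_im, hh h, lamFun_im]; simp
  have hov : Over U H hUH 1 ((E χ : IrrCharacter ↥H) : ↥H → ℂ) ↔
      Over U H hUH τ (χ : ↥H → ℂ) := by
    unfold Over
    have hfun : (fun u : ↥U => ((E χ : IrrCharacter ↥H) : ↥H → ℂ) (Subgroup.inclusion hUH u)
          * ((((1 : ↥U →* ℤˣ) u : ℤˣ) : ℤ) : ℂ))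
        = fun u : ↥U => (χ : ↥H → ℂ) (Subgroup.inclusion hUH u) * (((τ u : ℤˣ) : ℤ) : ℂ) := by
      funext u
      rw [hval, ← hlam u]
      simp [lamFun, mul_comm]
    rw [hfun]
  constructor
  · rintro ⟨a, b, c⟩
    exact ⟨him.2 a, by rw [hdeg]; exact b, hov.2 c⟩
  · rintro ⟨a, b, c⟩
    exact ⟨him.1 a, by rw [← hdeg]; exact b, hov.1 c⟩

end Cfsg.Agent.Lib.Helper99.RMTWIST
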