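import Mathlib
import Cfsg.Agent.Lib.Helper36.ReeSolvStmt

/-!
S2361 piece TWOA (helper99, for helper36): the 2-elements of `S` lie in the self-centralizing
normal 2-subgroup `T`.
-/

set_option autoImplicit false

universe u

namespace Cfsg.Agent.Lib.Helper99.RSTWOA

theorem main : Cfsg.Agent.Lib.Helper36.ReeSolvStmt.TwoA.{u} := by
  intro G _ _ hexp S T hTS hT hST hself s hsS hs2
  haveI : Fact (Nat.Prime 2) := ⟨Nat.prime_two⟩
  obtain ⟨k, hk⟩ := hs2
  -- `zpowers s` is a 2-group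
  have hZ : IsPGroup 2 (Subgroup.zpowers s) := by
    have hdvd : orderOf s ∣ 2 ^ k := orderOf_dvd_of_pow_eq_one hk
    obtain ⟨j, -, hj⟩ := (Nat.dvd_prime_pow Nat.prime_two).mp hdvd
    apply IsPGroup.of_card (n := j)
    rw [Nat.card_zpowers, hj]
  have hZT : Subgroup.zpowers s ≤ Subgroup.normalizer (T : Set G) := by
    rw [Subgroup.zpowers_le]
    exact hST hsS
  have hsup : IsPGroup 2 (Subgroup.zpowers s ⊔ T : Subgroup G) :=
    IsPGroup.to_sup_of_normal_right' hZ hT hZT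
  obtain ⟨P, hP⟩ := hsup.exists_le_sylow
  have hsP : s ∈ (P : Subgroup G) := hP (Subgroup.mem_sup_left (Subgroup.mem_zpowers s))
  have hTP : T ≤ (P : Subgroup G) := le_sup_right.trans hP
  apply hself s hsS
  intro t ht
  have htP : t ∈ (P : Subgroup G) := hTP ht
  have h1 : s * s = 1 := hexp P s hsP
  have h2 : t * t = 1 := hexp P t htP
  have h3 : (s * t) * (s * t) = 1 := hexp P (s * t) (mul_mem hsP htP)
  have hs' : s⁻¹ = s := inv_eq_of_mul_eq_one_right h1
  have ht' : t⁻¹ = t := inv_eq_of_mul_eq_one_right h2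
  have hst' : (s * t)⁻¹ = s * t := inv_eq_of_mul_eq_one_right h3
  calc s * t = (s * t)⁻¹ := hst'.symm
    _ = t⁻¹ * s⁻¹ := mul_inv_rev s t
    _ = t * s := by rw [hs', ht']

end Cfsg.Agent.Lib.Helper99.RSTWOA
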