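import Mathlib
import Cfsg.Agent.Lib.Helper36.ReeSolvStmt

/-!
S2361 piece W7 (helper99, for helper36): every subgroup of order 4 of a self-centralizing
elementary abelian `P` of order 8 with `|N(P)| = 168` is normalized by an element of order 3 of
`N(P)`.
-/

set_option autoImplicit false

universe u

namespace Cfsg.Agent.Lib.Helper99.RSW7

variable {G : Type u} [Group G]

/-- the conjugate `g W g⁻¹` -/
def cj (g : G) (W : Subgroup G) : Subgroup G := W.map (MulAut.conj g).toMonoidHom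

theorem mem_cj {g x : G} {W : Subgroup G} : x ∈ cj g W ↔ g⁻¹ * x * g ∈ W := by
  constructor
  · rintro ⟨w, hw, rfl⟩
    have : g⁻¹ * ((MulAut.conj g).toMonoidHom w) * g = w := by
      show g⁻¹ * (g * w * g⁻¹) * g = w
      group
    rw [this]
    exact hw
  · intro h
    refine ⟨g⁻¹ * x * g, h, ?_⟩
    show g * (g⁻¹ * x * g) * g⁻¹ = x
    group

theorem cj_mul (a b : G) (W : Subgroup G) : cj (a * b) W = cj a (cj b W) := by
  ext x
  rw [mem_cj, mem_cj, mem_cj]
  have : (a * b)⁻¹ * x * (a * b) = b⁻¹ * (a⁻¹ * x * a) * b := by group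
  rw [this]

theorem cj_one (W : Subgroup G) : cj (1 : G) W = W := by
  ext x
  rw [mem_cj]
  simp

theorem cj_inv_cj (a : G) (W : Subgroup G) : cj a⁻¹ (cj a W) = W := by
  rw [← cj_mul, inv_mul_cancel, cj_one]

theorem card_cj (g : G) (W : Subgroup G) : Nat.card ↥(cj g W) = Nat.card ↥W :=
  Subgroup.card_map_of_injective (MulAut.conj g).injective

theorem cj_le {g : G} {W P : Subgroup G} (hg : g ∈ Subgroup.normalizer (P : Set G))
    (hW : W ≤ P) : cj g W ≤ P := by
  intro x hx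
  rw [mem_cj] at hx
  have h1 := (Subgroup.mem_normalizer_iff.mp hg (g⁻¹ * x * g)).mp (hW hx)
  have : g * (g⁻¹ * x * g) * g⁻¹ = x := by group
  rw [this] at h1
  exact h1

theorem mem_normalizer_of_cj {g : G} {W : Subgroup G} (h : cj g W = W) :
    g ∈ Subgroup.normalizer (W : Set G) := by
  rw [Subgroup.mem_normalizer_iff]
  intro x
  have h1 : g * x * g⁻¹ ∈ cj g W ↔ x ∈ W := by
    rw [mem_cj]
    have : g⁻¹ * (g * x * g⁻¹) * g = x := by group
    rw [this]
  rw [h] at h1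
  exact h1.symm

theorem seven_mod {k : ℕ} (h : 7 ≡ k [MOD 3]) : 0 < k := by
  rcases k with _ | k
  · exact absurd h (by decide)
  · omega

theorem main : Cfsg.Agent.Lib.Helper36.ReeSolvStmt.W7.{u} := by
  intro hA hB G _ _ P hP8 hexp hcent hN V hVP hV4
  classical
  haveI : Fact (Nat.Prime 7) := ⟨by norm_num⟩
  haveI : Fact (Nat.Prime 3) := ⟨Nat.prime_three⟩
  -- elements of order 7 and 3 in `N(P)`
  obtain ⟨z', hz'⟩ := exists_prime_orderOf_dvd_card'
    (G := ↥(Subgroup.normalizer (P : Set G))) 7 (by rw [hN]; norm_num)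
  obtain ⟨y', hy'⟩ := exists_prime_orderOf_dvd_card'
    (G := ↥(Subgroup.normalizer (P : Set G))) 3 (by rw [hN]; norm_num)
  have hz7 : orderOf (z' : G) = 7 := by rw [Subgroup.orderOf_coe]; exact hz'
  have hy3 : orderOf (y' : G) = 3 := by rw [Subgroup.orderOf_coe]; exact hy'
  have hzN : (z' : G) ∈ Subgroup.normalizer (P : Set G) := z'.2
  have hyN : (y' : G) ∈ Subgroup.normalizer (P : Set G) := y'.2
  generalize (z' : G) = z at hz7 hzN
  generalize (y' : G) = y0 at hy3 hyN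
  -- the orbit map
  have hmemW : ∀ g : G, g ∈ Subgroup.normalizer (P : Set G) → ∀ W : Subgroup G,
      W ≤ P ∧ Nat.card ↥W = 4 → cj g W ≤ P ∧ Nat.card ↥(cj g W) = 4 := by
    intro g hg W hW
    exact ⟨cj_le hg hW.1, by rw [card_cj]; exact hW.2⟩
  have hzpow : ∀ i : ℕ, z ^ i ∈ Subgroup.normalizer (P : Set G) := fun i => pow_mem hzN i
  have hinj : Function.Injective (fun i : Fin 7 =>
      (⟨cj (z ^ (i : ℕ)) V, hmemW _ (hzpow i) V ⟨hVP, hV4⟩⟩ :
        {W : Subgroup G // W ≤ P ∧ Nat.card ↥W = 4})) := by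
    have key : ∀ i j : ℕ, i < j → j < 7 → cj (z ^ i) V = cj (z ^ j) V → False := by
      intro i j hij hj7 heq
      have hji : z ^ j = z ^ i * z ^ (j - i) := by
        rw [← pow_add]
        congr 1
        omega
      rw [hji, cj_mul] at heq
      have h2 := congrArg (cj (z ^ i)⁻¹) heq
      rw [cj_inv_cj, cj_inv_cj] at h2
      have hnorm := mem_normalizer_of_cj h2.symm
      have hcop : Nat.Coprime (orderOf z) (j - i) := by
        rw [hz7]
        apply (Nat.Prime.coprime_iff_not_dvd (by norm_num)).mpr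
        apply Nat.not_dvd_of_pos_of_lt <;> omega
      have hord : orderOf (z ^ (j - i)) = 7 := by
        rw [hcop.orderOf_pow, hz7]
      exact hB G P hP8 hexp hcent V (z ^ (j - i)) hVP hV4 hord (hzpow _) hnorm
    intro i j hij
    have heq : cj (z ^ (i : ℕ)) V = cj (z ^ (j : ℕ)) V := congrArg Subtype.val hij
    by_contra hne
    have hne' : (i : ℕ) ≠ (j : ℕ) := fun h => hne (Fin.ext h)
    rcases Nat.lt_or_gt_of_ne hne' with h | h
    · exact key i j h j.2 heq
    · exact key j i h i.2 heq.symm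
  have hle7 := hA G P hP8 hexp
  have hbij := hinj.bijective_of_nat_card_le (by rw [Nat.card_fin]; exact hle7)
  have hcard7 : Nat.card {W : Subgroup G // W ≤ P ∧ Nat.card ↥W = 4} = 7 := by
    have h1 := Nat.card_le_card_of_injective _ hinj
    rw [Nat.card_fin] at h1
    omega
  haveI : Fintype {W : Subgroup G // W ≤ P ∧ Nat.card ↥W = 4} := Fintype.ofFinite _
  -- the action of `y0`
  have hy1 : y0 * y0 * y0 = 1 := by
    have h3 := pow_orderOf_eq_one y0
    rw [hy3] at h3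
    calc y0 * y0 * y0 = y0 ^ 3 := by rw [pow_succ, pow_succ, pow_one]
      _ = 1 := h3
  let f : Function.End {W : Subgroup G // W ≤ P ∧ Nat.card ↥W = 4} :=
    fun W => ⟨cj y0 W.1, hmemW y0 hyN W.1 W.2⟩
  have hf3 : f ^ 3 ^ 1 = 1 := by
    rw [pow_one, pow_succ, pow_succ, pow_one]
    have hpt : ∀ W, (f * f * f) W = (1 : Function.End _) W := by
      intro W
      apply Subtype.ext
      show cj y0 (cj y0 (cj y0 W.1)) = W.1
      rw [← cj_mul, ← cj_mul, hy1, cj_one]
    exact funext hpt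
  have hmod := Equiv.Perm.card_fixedPoints_modEq hf3
  rw [← Nat.card_eq_fintype_card, hcard7] at hmod
  have hpos := seven_mod hmod
  obtain ⟨⟨W, hW⟩⟩ := Fintype.card_pos_iff.mp hpos
  have hWfix : cj y0 W.1 = W.1 := congrArg Subtype.val hW
  obtain ⟨i, hi⟩ := hbij.2 W
  have hWi : cj (z ^ (i : ℕ)) V = W.1 := congrArg Subtype.val hi
  refine ⟨(z ^ (i : ℕ))⁻¹ * y0 * z ^ (i : ℕ), ?_, ?_, ?_⟩
  · have h := orderOf_injective (MulAut.conj (z ^ (i : ℕ))⁻¹).toMonoidHom
      (MulAut.conj (z ^ (i : ℕ))⁻¹).injective y0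
    have h' : (MulAut.conj (z ^ (i : ℕ))⁻¹).toMonoidHom y0
        = (z ^ (i : ℕ))⁻¹ * y0 * z ^ (i : ℕ) := by
      show (z ^ (i : ℕ))⁻¹ * y0 * ((z ^ (i : ℕ))⁻¹)⁻¹ = _
      rw [inv_inv]
    rw [h'] at h
    rw [h, hy3]
  · exact mul_mem (mul_mem (inv_mem (hzpow _)) hyN) (hzpow _)
  · apply mem_normalizer_of_cj
    rw [cj_mul, cj_mul, hWi, hWfix, ← hWi, cj_inv_cj]

end Cfsg.Agent.Lib.Helper99.RSW7
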