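import Mathlib
import Cfsg.Agent.Lib.Helper14.TC3Stmt

/-!
S4460 piece B2B (helper99, second seat, for helper14): `N = L ⋊ P` with `L` the normal
`p`-complement from THN and `P` a Sylow `p`-subgroup of `N`.
-/

set_option autoImplicit false

universe u

namespace Cfsg.Agent.Lib.Helper99.TC3B2B

open Cfsg Cfsg.Agent.Lib.Helper14.TC3Stmt

theorem main (h : THN.{u}) : B2B.{u} := by
  intro G _ _ N p hNn hp hNL
  haveI : Fact p.Prime := ⟨hp⟩
  obtain ⟨L, hLn, hLN, hcop, k, hk⟩ := h G N p hNn hp hNL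
  obtain ⟨P0⟩ : Nonempty (Sylow p ↥N) := inferInstance
  have hcardN : Nat.card L * p ^ k = Nat.card N := by
    have h1 := Subgroup.relIndex_mul_relIndex ⊥ L N bot_le hLN
    rw [Subgroup.relIndex_bot_left, Subgroup.relIndex_bot_left, hk] at h1
    exact h1
  have hP0 : Nat.card (P0 : Subgroup ↥N) = p ^ k := by
    obtain ⟨a, ha⟩ := IsPGroup.iff_card.mp P0.isPGroup'
    apply Nat.dvd_antisymm
    · have h1 : p ^ a ∣ Nat.card L * p ^ k := by
        rw [hcardN, ← ha]
        exact Subgroup.card_subgroup_dvd_card _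
      rw [ha]
      exact (Nat.Coprime.pow_left a (Nat.Coprime.symm hcop)).dvd_of_dvd_mul_left h1
    · apply P0.pow_dvd_card_of_pow_dvd_card
      rw [← hcardN]
      exact Dvd.intro_left _ rfl
  have hP : Nat.card ((P0 : Subgroup ↥N).map N.subtype) = p ^ k := by
    rw [Subgroup.card_map_of_injective N.subtype_injective]
    exact hP0
  have hPN : (P0 : Subgroup ↥N).map N.subtype ≤ N := by
    rintro x ⟨y, -, rfl⟩
    exact y.2
  have hcop' : Nat.Coprime (Nat.card L) (Nat.card ((P0 : Subgroup ↥N).map N.subtype)) := by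
    rw [hP]
    exact Nat.Coprime.pow_right k hcop
  refine ⟨L, (P0 : Subgroup ↥N).map N.subtype, hLn, hLN, hPN, hcop, ?_, ?_, ?_, ⟨k, hk⟩⟩
  · exact P0.isPGroup'.map N.subtype
  · apply Subgroup.eq_of_le_of_card_ge (sup_le hLN hPN)
    have h1 : Nat.card L * Nat.card ((P0 : Subgroup ↥N).map N.subtype) ∣
        Nat.card (L ⊔ (P0 : Subgroup ↥N).map N.subtype : Subgroup G) :=
      Nat.Coprime.mul_dvd_of_dvd_of_dvd hcop' (Subgroup.card_dvd_of_le le_sup_left)
        (Subgroup.card_dvd_of_le le_sup_right)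
    rw [hP, hcardN] at h1
    exact Nat.le_of_dvd Nat.card_pos h1
  · exact (Subgroup.disjoint_of_coprime_natCard hcop').eq_bot

end Cfsg.Agent.Lib.Helper99.TC3B2B
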