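import Mathlib
import Cfsg.Agent.Lib.Helper39.TLStmt

/-!
S4404 piece FIN2: `E ≤ Y` elementary abelian of order `p ^ 3` (`p ≥ 5`) and `[Y : Y ∩ C] ≤ 7`:
`E ∩ C` is not cyclic.
-/

set_option autoImplicit false

namespace Cfsg.Agent.Lib.Helper99.TLFIN2

open Cfsg Cfsg.Agent.Lib.Helper39.TLStmt

universe u

theorem card_mul_relIndex' {G : Type u} [Group G] {A C : Subgroup G} (h : A ≤ C) :
    Nat.card A * A.relIndex C = Nat.card C := by
  have h1 := Subgroup.card_mul_index (A.subgroupOf C)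
  rwa [Nat.card_congr (Subgroup.subgroupOfEquivOfLe h).toEquiv] at h1

theorem main : Cfsg.Agent.Lib.Helper39.TLStmt.Fin2.{u} := by
  intro S _ _ p hp hp2 hp3 Y E C hY hEY hE hEc hle hcyc
  have hYC : Nat.card (Y ⊓ C : Subgroup S) * (Y ⊓ C).relIndex Y = Nat.card Y :=
    card_mul_relIndex' inf_le_left
  have hEC : Nat.card (E ⊓ C : Subgroup S) * (E ⊓ C).relIndex E = Nat.card E :=
    card_mul_relIndex' inf_le_left
  have hpos : 0 < Nat.card (Y ⊓ C : Subgroup S) := Nat.card_pos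
  have hk7 : (Y ⊓ C).relIndex Y ≤ 7 := by
    have h1 : Nat.card (Y ⊓ C : Subgroup S) * (Y ⊓ C).relIndex Y ≤
        Nat.card (Y ⊓ C : Subgroup S) * 7 := by
      rw [hYC]; linarith
    exact Nat.le_of_mul_le_mul_left h1 hpos
  have hne : (Y ⊓ C).relIndex Y ≠ 0 := by
    intro h0
    rw [h0, mul_zero] at hYC
    exact (Nat.card_pos (α := Y)).ne' hYC.symm
  have hrel : (E ⊓ C).relIndex E ≤ (Y ⊓ C).relIndex Y := by
    have h0 : E ⊓ C = Y ⊓ C ⊓ E :=
      le_antisymm (le_inf (le_inf (inf_le_left.trans hEY) inf_le_right) inf_le_left)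
        (le_inf inf_le_right (inf_le_left.trans inf_le_right))
    have h1 : (E ⊓ C).relIndex E = (Y ⊓ C).relIndex E := by
      rw [h0, Subgroup.inf_relIndex_right]
    rw [h1]
    exact Subgroup.relIndex_le_of_le_right hEY hne
  have hk7' : (E ⊓ C).relIndex E ≤ 7 := hrel.trans hk7
  -- a cyclic group of exponent `p` has order at most `p`
  have hep : Nat.card (E ⊓ C : Subgroup S) ≤ p := by
    obtain ⟨g, hg⟩ := hcyc.exists_generator
    have ho : orderOf g = Nat.card (E ⊓ C : Subgroup S) :=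
      orderOf_eq_card_of_forall_mem_zpowers hg
    have hgp : g ^ p = 1 := by
      apply Subtype.ext
      rw [Subgroup.coe_pow, Subgroup.coe_one]
      exact hE.2 (g : S) g.2.1
    have hd : orderOf g ∣ p := orderOf_dvd_of_pow_eq_one hgp
    rw [ho] at hd
    exact Nat.le_of_dvd hp.pos hd
  have hp5 : 5 ≤ p := by
    by_contra h
    push Not at h
    have h2 := hp.two_le
    interval_cases p
    · exact hp2 rfl
    · exact hp3 rfl
    · exact absurd hp (by decide)
  have h1 : p ^ 3 ≤ p * 7 := by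
    rw [← hEc, ← hEC]
    exact Nat.mul_le_mul hep hk7'
  have h2 : p * 25 ≤ p ^ 3 := by
    have h25 : 25 ≤ p ^ 2 := by nlinarith
    calc p * 25 ≤ p * p ^ 2 := Nat.mul_le_mul_left p h25
      _ = p ^ 3 := by ring
  have h3 : p * 25 ≤ p * 7 := h2.trans h1
  have h4 := Nat.le_of_mul_le_mul_left h3 hp.pos
  omega

end Cfsg.Agent.Lib.Helper99.TLFIN2
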