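import Mathlib
import Cfsg.Agent.Lib.Helper39.TLStmt
import Cfsg.Agent.Lib.Helper69.TLREFLEQ
import Cfsg.Agent.Lib.Helper4.MixTools

/-!
S4404 piece PW7: a 7-group `Y` normalized by the reflection `x`: `Y ∩ C(W)` has index `≤ 7`.

All conjugates `y W y⁻¹` (`y ∈ Y`) lie in one subgroup `B` of order `≤ 8` normalized by `Y`; a
7-group acting on at most 8 points has a kernel of index `≤ 7`.
-/

set_option autoImplicit false

namespace Cfsg.Agent.Lib.Helper99.TLPW7

open Cfsg Cfsg.Agent.Lib.Helper39.TLStmt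

universe u

variable {S : Type u} [Group S]

theorem mem_normalizer_of_conj [Finite S] (U : Subgroup S) (g : S)
    (h : ∀ u ∈ U, g * u * g⁻¹ ∈ U) : g ∈ Subgroup.normalizer (U : Set S) := by
  have hpow : ∀ k : ℕ, ∀ u ∈ U, g ^ k * u * (g ^ k)⁻¹ ∈ U := by
    intro k
    induction k with
    | zero => intro u hu; simpa using hu
    | succ k ih =>
      intro u hu
      have h1 := h _ (ih u hu)
      have e : g ^ (k + 1) * u * (g ^ (k + 1))⁻¹ = g * (g ^ k * u * (g ^ k)⁻¹) * g⁻¹ := by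
        rw [pow_succ']; group
      rw [e]; exact h1
  have hinv : g⁻¹ = g ^ (orderOf g - 1) := by
    apply inv_eq_of_mul_eq_one_left
    rw [← pow_succ, Nat.sub_add_cancel (orderOf_pos g), pow_orderOf_eq_one]
  rw [Subgroup.mem_normalizer_iff]
  intro u
  constructor
  · exact h u
  · intro hu
    have h1 := hpow (orderOf g - 1) _ hu
    rw [← hinv] at h1
    have e : g⁻¹ * (g * u * g⁻¹) * g⁻¹⁻¹ = u := by group
    rwa [e] at h1

theorem comm_of {M : Subgroup S} (h : IsMulCommutative M) {a b : S} (ha : a ∈ M) (hb : b ∈ M) :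
    a * b = b * a :=
  congrArg Subtype.val (h.is_comm.comm ⟨a, ha⟩ ⟨b, hb⟩)

theorem le_normalizer_of_comm {M : Subgroup S} (hM : IsMulCommutative M) {A B : Subgroup S}
    (hA : A ≤ M) (hB : B ≤ M) : B ≤ Subgroup.normalizer (A : Set S) := by
  intro b hb
  rw [Subgroup.mem_normalizer_iff]
  intro a
  constructor
  · intro ha
    have h1 : b * a * b⁻¹ = a := by
      rw [comm_of hM (hB hb) (hA ha)]; group
    rw [h1]; exact ha
  · intro ha
    have h1 := comm_of hM (hB hb) (hA ha)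
    have h2 : b * (b * a * b⁻¹) = b * a := by rw [h1]; group
    have h3 : a = b * a * b⁻¹ := (mul_left_cancel h2).symm
    rw [h3]; exact ha

theorem refl_conj_mem {M : Subgroup S} {x : S} {W U : Subgroup S}
    (hx : IsRefl M x W) (hWU : W ≤ U) (hUM : U ≤ M) : ∀ u ∈ U, x * u * x⁻¹ ∈ U := by
  intro u hu
  have h1 : x * u * x⁻¹ = (x * u * x⁻¹ * u⁻¹) * u := by group
  rw [h1]
  exact U.mul_mem (hWU (hx.comm u (hUM hu))) hu

/-- an element of odd order acting trivially on `U` and on `M / U` centralizes `M` -/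
theorem cent_of_stab {M : Subgroup S} (hM : IsElementaryAbelian 2 M) (c : S)
    (hc : Odd (orderOf c)) (U : Subgroup S) (hUM : U ≤ M) (hcU : ∀ u ∈ U, c * u * c⁻¹ = u)
    (hcM : ∀ m ∈ M, c * m * c⁻¹ * m⁻¹ ∈ U) : ∀ m ∈ M, c * m * c⁻¹ = m := by
  intro m hm
  obtain ⟨u, hu⟩ : ∃ u, u = c * m * c⁻¹ * m⁻¹ := ⟨_, rfl⟩
  have huU : u ∈ U := by rw [hu]; exact hcM m hm
  have hcm : c * m * c⁻¹ = u * m := by rw [hu]; group
  have hpow : ∀ k : ℕ, c ^ k * m * (c ^ k)⁻¹ = u ^ k * m := by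
    intro k
    induction k with
    | zero => simp
    | succ k ih =>
      have e : c ^ (k + 1) * m * (c ^ (k + 1))⁻¹ = c * (c ^ k * m * (c ^ k)⁻¹) * c⁻¹ := by
        rw [pow_succ']; group
      have e2 : c * (u ^ k * m) * c⁻¹ = (c * u * c⁻¹) ^ k * (c * m * c⁻¹) := by
        rw [conj_pow]; group
      rw [e, ih, e2, hcU u huU, hcm, pow_succ, mul_assoc]
  have h1 := hpow (orderOf c)
  rw [pow_orderOf_eq_one, one_mul, inv_one, mul_one] at h1
  have h2 : u ^ orderOf c = 1 := by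
    have h3 : u ^ orderOf c * m = 1 * m := by rw [one_mul]; exact h1.symm
    exact mul_right_cancel h3
  obtain ⟨j, hj⟩ := hc
  have hu2 : u ^ 2 = 1 := hM.2 u (hUM huU)
  have hu1 : u = 1 := by
    rw [hj, pow_succ, pow_mul, hu2, one_pow, one_mul] at h2
    exact h2
  rw [hcm, hu1, one_mul]

/-- the conjugation action of a subgroup `A` on a subgroup `U` that it normalizes -/
abbrev conjAct (A U : Subgroup S) (h : ∀ a ∈ A, ∀ u ∈ U, a * u * a⁻¹ ∈ U) :
    MulAction ↥A ↥U where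
  smul a u := ⟨(a : S) * u * (a : S)⁻¹, h a a.2 u u.2⟩
  one_smul u := Subtype.ext (by
    show ((1 : ↥A) : S) * (u : S) * ((1 : ↥A) : S)⁻¹ = (u : S)
    simp)
  mul_smul a b u := Subtype.ext (by
    show ((a * b : ↥A) : S) * (u : S) * ((a * b : ↥A) : S)⁻¹ =
      (a : S) * ((b : S) * (u : S) * (b : S)⁻¹) * (a : S)⁻¹
    simp [mul_assoc])

theorem card_fixed (A U : Subgroup S) (h : ∀ a ∈ A, ∀ u ∈ U, a * u * a⁻¹ ∈ U) :
    Nat.card (@MulAction.fixedPoints ↥A ↥U _ (conjAct A U h)) =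
      Nat.card ↥(U ⊓ Subgroup.centralizer (A : Set S)) := by
  refine Nat.card_congr
    { toFun := fun v => ⟨(v.1 : S), Subgroup.mem_inf.mpr ⟨v.1.2, ?_⟩⟩
      invFun := fun f => ⟨⟨(f : S), (Subgroup.mem_inf.mp f.2).1⟩, ?_⟩
      left_inv := fun v => rfl
      right_inv := fun f => rfl }
  · rw [Subgroup.mem_centralizer_iff]
    intro a ha
    have h2 : a * (v.1 : S) * a⁻¹ = (v.1 : S) := congrArg Subtype.val (v.2 ⟨a, ha⟩)
    calc a * (v.1 : S) = (a * (v.1 : S) * a⁻¹) * a := by group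
      _ = (v.1 : S) * a := by rw [h2]
  · refine (@MulAction.mem_fixedPoints ↥A ↥U _ (conjAct A U h) _).mpr ?_
    intro a
    apply Subtype.ext
    show (a : S) * (f : S) * (a : S)⁻¹ = (f : S)
    have h1 := Subgroup.mem_centralizer_iff.mp (Subgroup.mem_inf.mp f.2).2 (a : S) a.2
    rw [h1]; group

/-- the core: an invariant subgroup of order 16 inside `[M, L]` is centralized by `Y ∩ L` -/
theorem core16 [Finite S] (hCop : Cop.{u}) (M : Subgroup S) [hMn : M.Normal]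
    (hM : IsElementaryAbelian 2 M) (Y : Subgroup S) (hY : IsPGroup 7 Y) (L : Subgroup S)
    (hL : Odd (Nat.card L)) (hLY : ∀ g ∈ L, ∀ y ∈ Y, g * y * g⁻¹ ∈ Y)
    (U : Subgroup S) (hUM : U ≤ M) (hLU : ∀ g ∈ L, ∀ u ∈ U, g * u * g⁻¹ ∈ U)
    (hUL : U ≤ Subgroup.closure {w : S | ∃ g ∈ L, ∃ m ∈ M, w = g * m * g⁻¹ * m⁻¹})
    (hcard : Nat.card U = 16) :
    ∀ a ∈ Y ⊓ L, ∀ u ∈ U, a * u * a⁻¹ = u := by
  haveI : Fact (Nat.Prime 7) := ⟨by norm_num⟩
  have hAU : ∀ a ∈ Y ⊓ L, ∀ u ∈ U, a * u * a⁻¹ ∈ U := fun a ha u hu => hLU a ha.2 u hu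
  have hAp : IsPGroup 7 ↥(Y ⊓ L : Subgroup S) := hY.to_le inf_le_left
  have hmod := @IsPGroup.card_modEq_card_fixedPoints 7 ↥(Y ⊓ L : Subgroup S) _ hAp _ ↥U
    (conjAct (Y ⊓ L) U hAU) _
  rw [card_fixed (Y ⊓ L) U hAU, hcard] at hmod
  obtain ⟨F, hF⟩ : ∃ F : Subgroup S,
      F = U ⊓ Subgroup.centralizer ((Y ⊓ L : Subgroup S) : Set S) := ⟨_, rfl⟩
  rw [← hF] at hmod
  have hFU : F ≤ U := by rw [hF]; exact inf_le_left
  have hFmem : ∀ s : S, s ∈ F ↔
      s ∈ U ⊓ Subgroup.centralizer ((Y ⊓ L : Subgroup S) : Set S) := fun s => by rw [hF]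
  have hdvd : Nat.card F ∣ 16 := by rw [← hcard]; exact Subgroup.card_dvd_of_le hFU
  have hcases : Nat.card F = 2 ∨ Nat.card F = 16 := by
    have hle := Nat.le_of_dvd (by norm_num) hdvd
    have hm : Nat.card F % 7 = 2 := by
      have h1 := hmod
      unfold Nat.ModEq at h1
      omega
    obtain ⟨n, hn⟩ : ∃ n, n = Nat.card F := ⟨_, rfl⟩
    rw [← hn] at hdvd hle hm ⊢
    interval_cases n <;> omega
  rcases hcases with h2 | h16
  · exfalso
    obtain ⟨u, hu1, huniq⟩ := (Nat.card_eq_two_iff' (1 : ↥F)).mp h2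
    have huF : (u : S) ∈ U ⊓ Subgroup.centralizer ((Y ⊓ L : Subgroup S) : Set S) :=
      (hFmem _).mp u.2
    have hfix : ∀ g ∈ L, g * (u : S) * g⁻¹ = (u : S) := by
      intro g hg
      have hmem : g * (u : S) * g⁻¹ ∈ F := by
        refine (hFmem _).mpr (Subgroup.mem_inf.mpr ⟨hLU g hg _ huF.1, ?_⟩)
        rw [Subgroup.mem_centralizer_iff]
        intro a ha
        have ha' : g⁻¹ * a * g ∈ Y ⊓ L := by
          refine ⟨?_, L.mul_mem (L.mul_mem (L.inv_mem hg) ha.2) hg⟩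
          have h1 := hLY g⁻¹ (L.inv_mem hg) a ha.1
          simpa using h1
        have hc := Subgroup.mem_centralizer_iff.mp huF.2 _ ha'
        calc a * (g * (u : S) * g⁻¹) = g * ((g⁻¹ * a * g) * (u : S)) * g⁻¹ := by group
          _ = g * ((u : S) * (g⁻¹ * a * g)) * g⁻¹ := by rw [hc]
          _ = g * (u : S) * g⁻¹ * a := by group
      have hne : (⟨g * (u : S) * g⁻¹, hmem⟩ : ↥F) ≠ 1 := by
        intro h
        have h' : g * (u : S) * g⁻¹ = 1 := congrArg Subtype.val h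
        apply hu1
        apply Subtype.ext
        have h3 : (u : S) = g⁻¹ * (g * (u : S) * g⁻¹) * g := by group
        rw [h3, h']; simp
      exact congrArg Subtype.val (huniq _ hne)
    have huU : (u : S) ∈ U := hFU u.2
    have h1 := hCop S M hM L hL (u : S) (hUM huU) hfix (hUL huU)
    exact hu1 (Subtype.ext h1)
  · have hFeq : F = U := Subgroup.eq_of_le_of_card_ge hFU (by rw [h16, hcard])
    intro a ha u hu
    have huF : u ∈ U ⊓ Subgroup.centralizer ((Y ⊓ L : Subgroup S) : Set S) :=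
      (hFmem u).mp (hFeq ▸ hu)
    have hc := Subgroup.mem_centralizer_iff.mp huF.2 a ha
    rw [hc]; group

/-- the contradiction lemma: an invariant `U` of order 16 containing `W` and `y W y⁻¹` forces
`y W y⁻¹ = W` -/
theorem main16 [Finite S] (hCop : Cop.{u}) (hC : Conj.{u}) (hE : ReflEq.{u})
    (M : Subgroup S) [hMn : M.Normal] (hM : IsElementaryAbelian 2 M)
    (Y : Subgroup S) (hY : IsPGroup 7 Y) (x : S) (W : Subgroup S) (hx : IsRefl M x W)
    (y : S) (hyY : y ∈ Y) (hxY : ∀ y ∈ Y, x * y * x⁻¹ ∈ Y)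
    (L : Subgroup S) (hL : Odd (Nat.card L)) (hcL : y * x * y⁻¹ * x⁻¹ ∈ L)
    (hLY : ∀ g ∈ L, ∀ y ∈ Y, g * y * g⁻¹ ∈ Y)
    (U : Subgroup S) (hUM : U ≤ M) (hLU : ∀ g ∈ L, ∀ u ∈ U, g * u * g⁻¹ ∈ U)
    (hUL : U ≤ Subgroup.closure {w : S | ∃ g ∈ L, ∃ m ∈ M, w = g * m * g⁻¹ * m⁻¹})
    (hWU : W ≤ U) (hW'U : W.map (MulAut.conj y).toMonoidHom ≤ U)
    (hcard : Nat.card U = 16) :
    W.map (MulAut.conj y).toMonoidHom = W := by
  haveI : Fact (Nat.Prime 7) := ⟨by norm_num⟩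
  have hx' : IsRefl M (y * x * y⁻¹) (W.map (MulAut.conj y).toMonoidHom) := hC S M x W y hx
  obtain ⟨c, hc⟩ : ∃ c, c = y * x * y⁻¹ * x⁻¹ := ⟨_, rfl⟩
  rw [← hc] at hcL
  have hcY : c ∈ Y := by
    have h1 : c = y * (x * y⁻¹ * x⁻¹) := by rw [hc]; group
    rw [h1]; exact Y.mul_mem hyY (hxY _ (Y.inv_mem hyY))
  have hcU := core16 hCop M hM Y hY L hL hLY U hUM hLU hUL hcard c ⟨hcY, hcL⟩
  have hcM : ∀ m ∈ M, c * m * c⁻¹ * m⁻¹ ∈ U := by
    intro m hm
    have hm1 : x⁻¹ * m * x ∈ M := by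
      have h1 := hMn.conj_mem m hm x⁻¹
      simpa using h1
    have h1 : x * (x⁻¹ * m * x) * x⁻¹ * (x⁻¹ * m * x)⁻¹ ∈ W := hx.comm _ hm1
    have h2 : (y * x * y⁻¹) * (x⁻¹ * m * x) * (y * x * y⁻¹)⁻¹ * (x⁻¹ * m * x)⁻¹ ∈
        W.map (MulAut.conj y).toMonoidHom := hx'.comm _ hm1
    have e : c * m * c⁻¹ * m⁻¹ =
        ((y * x * y⁻¹) * (x⁻¹ * m * x) * (y * x * y⁻¹)⁻¹ * (x⁻¹ * m * x)⁻¹) *
          (x * (x⁻¹ * m * x) * x⁻¹ * (x⁻¹ * m * x)⁻¹)⁻¹ := by
      rw [hc]; group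
    rw [e]
    exact U.mul_mem (hW'U h2) (U.inv_mem (hWU h1))
  have hco : Odd (orderOf c) := by
    obtain ⟨n, hn⟩ := IsPGroup.iff_card.mp hY
    have hd : orderOf c ∣ 7 ^ n := by
      rw [← hn]; exact Subgroup.orderOf_dvd_natCard Y hcY
    have h7 : Odd (7 ^ n) := Odd.pow (by decide)
    exact Odd.of_dvd_nat h7 hd
  have hcen := cent_of_stab hM c hco U hUM hcU hcM
  have hact : ∀ m ∈ M, x * m * x⁻¹ = (y * x * y⁻¹) * m * (y * x * y⁻¹)⁻¹ := by
    intro m hm
    have hm2 : x * m * x⁻¹ ∈ M := hMn.conj_mem m hm x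
    have h1 := hcen _ hm2
    have e : (y * x * y⁻¹) * m * (y * x * y⁻¹)⁻¹ = c * (x * m * x⁻¹) * c⁻¹ := by
      rw [hc]; group
    rw [e, h1]
  exact (hE S M hM x (y * x * y⁻¹) W _ hx hx' hact).symm

/-- three conjugates never span a group of order 16 unless the first one is `W` -/
theorem T16 [Finite S] (hCop : Cop.{u}) (hC : Conj.{u}) (hE : ReflEq.{u})
    (M : Subgroup S) [hMn : M.Normal] (hM : IsElementaryAbelian 2 M)
    (Y : Subgroup S) (hY : IsPGroup 7 Y) (x : S) (W : Subgroup S) (hx : IsRefl M x W)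
    (hxY : ∀ y ∈ Y, x * y * x⁻¹ ∈ Y)
    (hodd : Odd (Nat.card ↥(Y ⊔ Subgroup.zpowers x)))
    (y y' : S) (hy : y ∈ Y) (hy' : y' ∈ Y)
    (hcard : Nat.card ↥(W ⊔ W.map (MulAut.conj y).toMonoidHom ⊔
      W.map (MulAut.conj y').toMonoidHom) = 16) :
    W.map (MulAut.conj y).toMonoidHom = W := by
  have hx' := hC S M x W y hx
  have hx'' := hC S M x W y' hx
  have hcY : ∀ z ∈ Y, z * x * z⁻¹ * x⁻¹ ∈ Y := by
    intro z hz
    have h1 : z * x * z⁻¹ * x⁻¹ = z * (x * z⁻¹ * x⁻¹) := by group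
    rw [h1]; exact Y.mul_mem hz (hxY _ (Y.inv_mem hz))
  obtain ⟨L, hLdef⟩ : ∃ L : Subgroup S,
      L = Subgroup.closure {x, y * x * y⁻¹ * x⁻¹, y' * x * y'⁻¹ * x⁻¹} := ⟨_, rfl⟩
  have hxL : x ∈ L := by rw [hLdef]; exact Subgroup.subset_closure (by simp)
  have hcL : y * x * y⁻¹ * x⁻¹ ∈ L := by rw [hLdef]; exact Subgroup.subset_closure (by simp)
  have hc'L : y' * x * y'⁻¹ * x⁻¹ ∈ L := by rw [hLdef]; exact Subgroup.subset_closure (by simp)
  have hx'L : y * x * y⁻¹ ∈ L := by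
    have h1 : y * x * y⁻¹ = (y * x * y⁻¹ * x⁻¹) * x := by group
    rw [h1]; exact L.mul_mem hcL hxL
  have hx''L : y' * x * y'⁻¹ ∈ L := by
    have h1 : y' * x * y'⁻¹ = (y' * x * y'⁻¹ * x⁻¹) * x := by group
    rw [h1]; exact L.mul_mem hc'L hxL
  have hLH : L ≤ Y ⊔ Subgroup.zpowers x := by
    rw [hLdef, Subgroup.closure_le]
    intro g hg
    simp only [Set.mem_insert_iff, Set.mem_singleton_iff] at hg
    rcases hg with h | h | h
    · rw [h]
      exact (le_sup_right : Subgroup.zpowers x ≤ Y ⊔ Subgroup.zpowers x)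
        (Subgroup.mem_zpowers x)
    · rw [h]; exact (le_sup_left : Y ≤ Y ⊔ Subgroup.zpowers x) (hcY y hy)
    · rw [h]; exact (le_sup_left : Y ≤ Y ⊔ Subgroup.zpowers x) (hcY y' hy')
  have hL : Odd (Nat.card L) := Odd.of_dvd_nat hodd (Subgroup.card_dvd_of_le hLH)
  have hxN : x ∈ Subgroup.normalizer (Y : Set S) := mem_normalizer_of_conj Y x hxY
  have hLN : L ≤ Subgroup.normalizer (Y : Set S) := by
    rw [hLdef, Subgroup.closure_le]
    intro g hg
    simp only [Set.mem_insert_iff, Set.mem_singleton_iff] at hg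
    rcases hg with h | h | h
    · rw [h]; exact hxN
    · rw [h]; exact Subgroup.le_normalizer (hcY y hy)
    · rw [h]; exact Subgroup.le_normalizer (hcY y' hy')
  have hLY : ∀ g ∈ L, ∀ z ∈ Y, g * z * g⁻¹ ∈ Y := fun g hg z hz =>
    (Subgroup.mem_normalizer_iff.mp (hLN hg) z).mp hz
  obtain ⟨U, hU⟩ : ∃ U : Subgroup S, U = W ⊔ W.map (MulAut.conj y).toMonoidHom ⊔
      W.map (MulAut.conj y').toMonoidHom := ⟨_, rfl⟩
  have hWU : W ≤ U := by rw [hU]; exact le_sup_left.trans le_sup_left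
  have hW'U : W.map (MulAut.conj y).toMonoidHom ≤ U := by
    rw [hU]; exact le_sup_right.trans le_sup_left
  have hW''U : W.map (MulAut.conj y').toMonoidHom ≤ U := by rw [hU]; exact le_sup_right
  have hUM : U ≤ M := by rw [hU]; exact sup_le (sup_le hx.le hx'.le) hx''.le
  have hUN : L ≤ Subgroup.normalizer (U : Set S) := by
    have h1 : x ∈ Subgroup.normalizer (U : Set S) :=
      mem_normalizer_of_conj U x (refl_conj_mem hx hWU hUM)
    have h2 : y * x * y⁻¹ ∈ Subgroup.normalizer (U : Set S) :=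
      mem_normalizer_of_conj U _ (refl_conj_mem hx' hW'U hUM)
    have h3 : y' * x * y'⁻¹ ∈ Subgroup.normalizer (U : Set S) :=
      mem_normalizer_of_conj U _ (refl_conj_mem hx'' hW''U hUM)
    rw [hLdef, Subgroup.closure_le]
    intro g hg
    simp only [Set.mem_insert_iff, Set.mem_singleton_iff] at hg
    rcases hg with h | h | h
    · rw [h]; exact h1
    · rw [h]; exact Subgroup.mul_mem _ h2 (Subgroup.inv_mem _ h1)
    · rw [h]; exact Subgroup.mul_mem _ h3 (Subgroup.inv_mem _ h1)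
  have hLU : ∀ g ∈ L, ∀ u ∈ U, g * u * g⁻¹ ∈ U := fun g hg u hu =>
    (Subgroup.mem_normalizer_iff.mp (hUN hg) u).mp hu
  have hUL : U ≤ Subgroup.closure {w : S | ∃ g ∈ L, ∃ m ∈ M, w = g * m * g⁻¹ * m⁻¹} := by
    rw [hU]
    refine sup_le (sup_le ?_ ?_) ?_
    · intro w hw
      obtain ⟨v, hv, rfl⟩ := Cfsg.Agent.Lib.Helper69.TLREFLEQ.exists_comm hx w hw
      exact Subgroup.subset_closure ⟨x, hxL, v, hx.le hv, rfl⟩
    · intro w hw
      obtain ⟨v, hv, rfl⟩ := Cfsg.Agent.Lib.Helper69.TLREFLEQ.exists_comm hx' w hw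
      exact Subgroup.subset_closure ⟨_, hx'L, v, hx'.le hv, rfl⟩
    · intro w hw
      obtain ⟨v, hv, rfl⟩ := Cfsg.Agent.Lib.Helper69.TLREFLEQ.exists_comm hx'' w hw
      exact Subgroup.subset_closure ⟨_, hx''L, v, hx''.le hv, rfl⟩
  rw [← hU] at hcard
  exact main16 hCop hC hE M hM Y hY x W hx y hy hxY L hL hcL hLY U hUM hLU hUL hWU hW'U hcard

/-- a 7-group acting on a subgroup with at most 8 elements: the kernel has index at most 7 -/
theorem act_bound [Finite S] (Y : Subgroup S) (hY : IsPGroup 7 Y) (B : Subgroup S)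
    (hB : Nat.card B ≤ 8) (h : ∀ y ∈ Y, ∀ b ∈ B, y * b * y⁻¹ ∈ B) :
    Nat.card Y ≤ 7 * Nat.card ↥(Y ⊓ Subgroup.centralizer (B : Set S)) := by
  haveI : Fact (Nat.Prime 7) := ⟨by norm_num⟩
  letI := conjAct Y B h
  obtain ⟨φ, hφ⟩ : ∃ φ : ↥Y →* Equiv.Perm ↥B, φ = MulAction.toPermHom ↥Y ↥B := ⟨_, rfl⟩
  have h1 : Nat.card φ.ker * Nat.card φ.range = Nat.card Y := by
    rw [← Subgroup.index_ker]; exact Subgroup.card_mul_index _
  have h2 : Nat.card φ.range ≤ 7 := by
    obtain ⟨n, hn⟩ := IsPGroup.iff_card.mp hY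
    have hd1 : Nat.card φ.range ∣ 7 ^ n := by rw [← hn, ← h1]; exact dvd_mul_left _ _
    obtain ⟨k, hk, hk2⟩ := (Nat.dvd_prime_pow (by norm_num : Nat.Prime 7)).mp hd1
    have hd2 : Nat.card φ.range ∣ (Nat.card B).factorial := by
      rw [← Nat.card_perm]; exact Subgroup.card_subgroup_dvd_card _
    have hd3 : Nat.card φ.range ∣ Nat.factorial 8 := hd2.trans (Nat.factorial_dvd_factorial hB)
    rw [hk2] at hd3 ⊢
    have h49 : ¬ (7 ^ 2 ∣ Nat.factorial 8) := by decide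
    have hk1 : k ≤ 1 := by
      by_contra hk'
      push Not at hk'
      exact h49 ((pow_dvd_pow 7 hk').trans hd3)
    interval_cases k <;> norm_num
  have hker : ∀ k : ↥Y, k ∈ φ.ker → (k : S) ∈ Subgroup.centralizer (B : Set S) := by
    intro k hk
    rw [Subgroup.mem_centralizer_iff]
    intro b hb
    have h4 : φ k = 1 := MonoidHom.mem_ker.mp hk
    have h5 : (φ k) ⟨b, hb⟩ = ⟨b, hb⟩ := by rw [h4]; rfl
    rw [hφ] at h5
    have h6 : (k : S) * b * (k : S)⁻¹ = b := congrArg Subtype.val h5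
    calc b * (k : S) = ((k : S) * b * (k : S)⁻¹) * (k : S) := by rw [h6]
      _ = (k : S) * b := by group
  have h3 : Nat.card φ.ker ≤ Nat.card ↥(Y ⊓ Subgroup.centralizer (B : Set S)) := by
    apply Nat.card_le_card_of_injective (fun k : ↥φ.ker =>
      (⟨(k.1 : S), k.1.2, hker k.1 k.2⟩ : ↥(Y ⊓ Subgroup.centralizer (B : Set S))))
    intro a b hab
    have h4 : (a.1 : S) = (b.1 : S) := by
      simpa using congrArg (fun z : ↥(Y ⊓ Subgroup.centralizer (B : Set S)) => (z : S)) hab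
    exact Subtype.ext (Subtype.ext h4)
  calc Nat.card Y = Nat.card φ.ker * Nat.card φ.range := h1.symm
    _ ≤ Nat.card ↥(Y ⊓ Subgroup.centralizer (B : Set S)) * 7 := Nat.mul_le_mul h3 h2
    _ = 7 * Nat.card ↥(Y ⊓ Subgroup.centralizer (B : Set S)) := Nat.mul_comm _ _

theorem main (hCop : Cop.{u}) (hC : Conj.{u}) (hE : ReflEq.{u}) : PW7.{u} := by
  intro S _ _ M hMn hM Y Q hY hQ x W hxQ hx hxY
  haveI : Fact (Nat.Prime 7) := ⟨by norm_num⟩
  have hxN : x ∈ Subgroup.normalizer (Y : Set S) := mem_normalizer_of_conj Y x hxY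
  have hodd : Odd (Nat.card ↥(Y ⊔ Subgroup.zpowers x)) := by
    have hd := Cfsg.Agent.Lib.Helper4.MixTools.card_sup_dvd Y (Subgroup.zpowers x)
      (Subgroup.zpowers_le.mpr hxN)
    obtain ⟨n, hn⟩ := IsPGroup.iff_card.mp hY
    haveI : Fact (Nat.Prime 3) := ⟨by norm_num⟩
    obtain ⟨k, hk⟩ := IsPGroup.iff_card.mp hQ
    have h3 : Nat.card (Subgroup.zpowers x) ∣ 3 ^ k := by
      rw [Nat.card_zpowers, ← hk]; exact Subgroup.orderOf_dvd_natCard Q hxQ
    have h73 : Odd (7 ^ n * 3 ^ k) := (Odd.pow (by decide)).mul (Odd.pow (by decide))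
    exact Odd.of_dvd_nat h73 (hd.trans (by rw [hn]; exact Nat.mul_dvd_mul_left _ h3))
  have hrefl : ∀ y : S, IsRefl M (y * x * y⁻¹) (W.map (MulAut.conj y).toMonoidHom) :=
    fun y => hC S M x W y hx
  have hsupdvd : ∀ A B : Subgroup S, A ≤ M → B ≤ M →
      Nat.card ↥(A ⊔ B) ∣ Nat.card A * Nat.card B := fun A B hA hB =>
    Cfsg.Agent.Lib.Helper4.MixTools.card_sup_dvd A B (le_normalizer_of_comm hM.1 hA hB)
  -- pairs
  have hpair : ∀ y ∈ Y, Nat.card ↥(W ⊔ W.map (MulAut.conj y).toMonoidHom) = 4 ∨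
      Nat.card ↥(W ⊔ W.map (MulAut.conj y).toMonoidHom) = 8 := by
    intro y hy
    have hdvd : Nat.card ↥(W ⊔ W.map (MulAut.conj y).toMonoidHom) ∣ 16 := by
      have h1 := hsupdvd W (W.map (MulAut.conj y).toMonoidHom) hx.le (hrefl y).le
      rwa [hx.card, (hrefl y).card] at h1
    have h4 : 4 ∣ Nat.card ↥(W ⊔ W.map (MulAut.conj y).toMonoidHom) := by
      have h1 := Subgroup.card_dvd_of_le
        (le_sup_left : W ≤ W ⊔ W.map (MulAut.conj y).toMonoidHom)
      rwa [hx.card] at h1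
    have hne16 : Nat.card ↥(W ⊔ W.map (MulAut.conj y).toMonoidHom) ≠ 16 := by
      intro h16
      have hcard3 : Nat.card ↥(W ⊔ W.map (MulAut.conj y).toMonoidHom ⊔
          W.map (MulAut.conj y).toMonoidHom) = 16 := by
        rw [sup_assoc, sup_idem]; exact h16
      have hWy := T16 hCop hC hE M hM Y hY x W hx hxY hodd y y hy hy hcard3
      rw [hWy, sup_idem, hx.card] at h16
      omega
    have hle := Nat.le_of_dvd (by norm_num) hdvd
    obtain ⟨n, hn⟩ : ∃ n, n = Nat.card ↥(W ⊔ W.map (MulAut.conj y).toMonoidHom) := ⟨_, rfl⟩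
    rw [← hn] at hdvd h4 hne16 hle ⊢
    interval_cases n <;> omega
  by_cases hall : ∀ y ∈ Y, W.map (MulAut.conj y).toMonoidHom = W
  · have hYW : ∀ y ∈ Y, ∀ w ∈ W, y * w * y⁻¹ ∈ W := by
      intro y hy w hw
      have h1 : y * w * y⁻¹ ∈ W.map (MulAut.conj y).toMonoidHom :=
        Subgroup.mem_map.mpr ⟨w, hw, rfl⟩
      rwa [hall y hy] at h1
    exact act_bound Y hY W (by rw [hx.card]; norm_num) hYW
  · push Not at hall
    obtain ⟨y₀, hy₀, hne₀⟩ := hall
    obtain ⟨B, hB⟩ : ∃ B : Subgroup S, B = W ⊔ W.map (MulAut.conj y₀).toMonoidHom := ⟨_, rfl⟩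
    have hWB : W ≤ B := by rw [hB]; exact le_sup_left
    have hW0B : W.map (MulAut.conj y₀).toMonoidHom ≤ B := by rw [hB]; exact le_sup_right
    have hBM : B ≤ M := by rw [hB]; exact sup_le hx.le (hrefl y₀).le
    have hB8 : Nat.card B = 8 := by
      rcases hpair y₀ hy₀ with h4 | h8
      · exfalso
        apply hne₀
        rw [← hB] at h4
        have hWeq : W = B := Subgroup.eq_of_le_of_card_ge hWB (by rw [h4, hx.card])
        have hle : W.map (MulAut.conj y₀).toMonoidHom ≤ W := hWeq ▸ hW0B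
        exact Subgroup.eq_of_le_of_card_ge hle (by rw [hx.card, (hrefl y₀).card])
      · rw [hB]; exact h8
    have hclaim : ∀ y ∈ Y, W.map (MulAut.conj y).toMonoidHom ≤ B := by
      intro y hy
      by_contra hnot
      obtain ⟨w, hw, hwB⟩ := SetLike.not_le_iff_exists.mp hnot
      have hwM : w ∈ M := (hrefl y).le hw
      have hU' : Nat.card ↥(W ⊔ W.map (MulAut.conj y).toMonoidHom) = 8 := by
        rcases hpair y hy with h4 | h8
        · exfalso
          apply hwB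
          have hWeq : W = W ⊔ W.map (MulAut.conj y).toMonoidHom :=
            Subgroup.eq_of_le_of_card_ge le_sup_left (by rw [h4, hx.card])
          have hwW : w ∈ W ⊔ W.map (MulAut.conj y).toMonoidHom :=
            (le_sup_right : W.map (MulAut.conj y).toMonoidHom ≤ _) hw
          rw [← hWeq] at hwW
          exact hWB hwW
        · exact h8
      have hw2 : Nat.card (Subgroup.zpowers w) ∣ 2 := by
        rw [Nat.card_zpowers]; exact orderOf_dvd_of_pow_eq_one (hM.2 w hwM)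
      have hzM : Subgroup.zpowers w ≤ M := Subgroup.zpowers_le.mpr hwM
      have hWw : W ⊔ Subgroup.zpowers w = W ⊔ W.map (MulAut.conj y).toMonoidHom := by
        apply Subgroup.eq_of_le_of_card_ge
          (sup_le le_sup_left ((Subgroup.zpowers_le.mpr hw).trans le_sup_right))
        rw [hU']
        have h4 : 4 ∣ Nat.card ↥(W ⊔ Subgroup.zpowers w) := by
          have h1 := Subgroup.card_dvd_of_le (le_sup_left : W ≤ W ⊔ Subgroup.zpowers w)
          rwa [hx.card] at h1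
        have hne4 : Nat.card ↥(W ⊔ Subgroup.zpowers w) ≠ 4 := by
          intro h
          have hWe : W = W ⊔ Subgroup.zpowers w :=
            Subgroup.eq_of_le_of_card_ge le_sup_left (by rw [h, hx.card])
          apply hwB
          have h1 : w ∈ W ⊔ Subgroup.zpowers w :=
            (le_sup_right : Subgroup.zpowers w ≤ _) (Subgroup.mem_zpowers w)
          rw [← hWe] at h1
          exact hWB h1
        have hpos : 0 < Nat.card ↥(W ⊔ Subgroup.zpowers w) := Nat.card_pos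
        omega
      have hU3 : B ⊔ W.map (MulAut.conj y).toMonoidHom = B ⊔ Subgroup.zpowers w := by
        have e1 : B ⊔ W.map (MulAut.conj y).toMonoidHom =
            B ⊔ (W ⊔ W.map (MulAut.conj y).toMonoidHom) := by
          rw [← sup_assoc, sup_eq_left.mpr hWB]
        have e2 : B ⊔ (W ⊔ Subgroup.zpowers w) = B ⊔ Subgroup.zpowers w := by
          rw [← sup_assoc, sup_eq_left.mpr hWB]
        rw [e1, ← hWw, e2]
      have h16 : Nat.card ↥(B ⊔ W.map (MulAut.conj y).toMonoidHom) = 16 := by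
        rw [hU3]
        have hdvd : Nat.card ↥(B ⊔ Subgroup.zpowers w) ∣ 16 := by
          have h1 := hsupdvd B (Subgroup.zpowers w) hBM hzM
          rw [hB8] at h1
          exact h1.trans (Nat.mul_dvd_mul_left 8 hw2)
        have h8 : 8 ∣ Nat.card ↥(B ⊔ Subgroup.zpowers w) := by
          have h1 := Subgroup.card_dvd_of_le (le_sup_left : B ≤ B ⊔ Subgroup.zpowers w)
          rwa [hB8] at h1
        have hne8 : Nat.card ↥(B ⊔ Subgroup.zpowers w) ≠ 8 := by
          intro h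
          have hBe : B = B ⊔ Subgroup.zpowers w :=
            Subgroup.eq_of_le_of_card_ge le_sup_left (by rw [h, hB8])
          apply hwB
          have h1 : w ∈ B ⊔ Subgroup.zpowers w :=
            (le_sup_right : Subgroup.zpowers w ≤ _) (Subgroup.mem_zpowers w)
          rw [← hBe] at h1
          exact h1
        have hle := Nat.le_of_dvd (by norm_num) hdvd
        have hpos : 0 < Nat.card ↥(B ⊔ Subgroup.zpowers w) := Nat.card_pos
        omega
      rw [hB] at h16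
      exact hne₀ (T16 hCop hC hE M hM Y hY x W hx hxY hodd y₀ y hy₀ hy h16)
    have hYB : ∀ y ∈ Y, ∀ b ∈ B, y * b * y⁻¹ ∈ B := by
      intro y hy b hb
      have h1 : B.map (MulAut.conj y).toMonoidHom ≤ B := by
        have e : (MulAut.conj y).toMonoidHom.comp (MulAut.conj y₀).toMonoidHom =
            (MulAut.conj (y * y₀)).toMonoidHom := by
          ext s; simp [mul_assoc]
        have h2 : B.map (MulAut.conj y).toMonoidHom =
            W.map (MulAut.conj y).toMonoidHom ⊔ W.map (MulAut.conj (y * y₀)).toMonoidHom := by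
          rw [hB, Subgroup.map_sup, Subgroup.map_map, e]
        rw [h2]
        exact sup_le (hclaim y hy) (hclaim (y * y₀) (Y.mul_mem hy hy₀))
      exact h1 (Subgroup.mem_map.mpr ⟨b, hb, rfl⟩)
    have h7 := act_bound Y hY B (by rw [hB8]) hYB
    refine h7.trans (Nat.mul_le_mul_left 7 (Subgroup.card_le_of_le ?_))
    exact inf_le_inf_left Y (Subgroup.centralizer_le hWB)

end Cfsg.Agent.Lib.Helper99.TLPW7
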