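import Mathlib
import Cfsg.Agent.Lib.Lead.TuanStmt
import Cfsg.Agent.Lib.CT.Wedderburn

/-! S0997 part T, piece InvEx: a `2`-central involution inverting `x`. -/

set_option autoImplicit false

namespace Cfsg.Agent.Lib.Helper99.TSInvEx

open Cfsg Cfsg.Agent.Lib.Lead Cfsg.Agent.Lib.Lead.BrHalf
open scoped ComplexConjugate Classical

universe u

theorem conj_centralizer_card {G : Type u} [Group G] (g t : G) :
    Nat.card (Subgroup.centralizer ({g * t * g⁻¹} : Set G)) =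
      Nat.card (Subgroup.centralizer ({t} : Set G)) := by
  apply Nat.card_congr
  refine ⟨fun y => ⟨g⁻¹ * (y : G) * g, ?_⟩, fun w => ⟨g * (w : G) * g⁻¹, ?_⟩, ?_, ?_⟩
  · have hy : g * t * g⁻¹ * (y : G) = (y : G) * (g * t * g⁻¹) :=
      y.2 (g * t * g⁻¹) (Set.mem_singleton _)
    intro h hh
    rw [Set.mem_singleton_iff] at hh
    subst hh
    calc h * (g⁻¹ * (y : G) * g) = g⁻¹ * ((g * h * g⁻¹) * (y : G)) * g := by group
      _ = g⁻¹ * ((y : G) * (g * h * g⁻¹)) * g := by rw [hy]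
      _ = g⁻¹ * (y : G) * g * h := by group
  · have hw : t * (w : G) = (w : G) * t := w.2 t (Set.mem_singleton _)
    intro h hh
    rw [Set.mem_singleton_iff] at hh
    subst hh
    calc g * t * g⁻¹ * (g * (w : G) * g⁻¹) = g * (t * (w : G)) * g⁻¹ := by group
      _ = g * ((w : G) * t) * g⁻¹ := by rw [hw]
      _ = g * (w : G) * g⁻¹ * (g * t * g⁻¹) := by group
  · intro y
    apply Subtype.ext
    show g * (g⁻¹ * (y : G) * g) * g⁻¹ = (y : G)
    group
  · intro w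
    apply Subtype.ext
    show g⁻¹ * (g * (w : G) * g⁻¹) * g = (w : G)
    group

theorem main (hCen : Tuan.Cen.{u}) (hCM : Tuan.CM.{u}) (hSP : Tuan.SumPos.{u}) :
    Tuan.InvEx.{u} := by
  intro G _ _ p _ c
  haveI := Cfsg.Agent.Lib.CT.Wedderburn.finite_irrCharacter G
  letI : Fintype (IrrCharacter G) := Fintype.ofFinite _
  obtain ⟨t, ht, htdiv⟩ := hCen p c
  obtain ⟨r, hr1, hsum⟩ := hSP p c t ht htdiv
  have hcm := hCM t c.x
  rw [hsum] at hcm
  have hN : Nat.card {q : G × G // IsConj t q.1 ∧ IsConj t q.2 ∧ q.1 * q.2 = c.x} ≠ 0 := by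
    intro h0
    rw [h0, Nat.cast_zero, zero_mul] at hcm
    have hG : (Nat.card G : ℂ) ≠ 0 := by
      exact_mod_cast (Nat.card_pos (α := G)).ne'
    have hr0 : (r : ℂ) ≠ 0 := by
      have h3 : r ≠ 0 := ne_of_gt (lt_of_lt_of_le one_pos hr1)
      exact_mod_cast h3
    exact (mul_ne_zero hG hr0) hcm.symm
  obtain ⟨hne, -⟩ := Nat.card_ne_zero.mp hN
  obtain ⟨⟨⟨q1, q2⟩, hq1, hq2, hq⟩⟩ := hne
  have hq' : q1 * q2 = c.x := hq
  have hq1' : IsConj t q1 := hq1
  have hq2' : IsConj t q2 := hq2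
  obtain ⟨g1, hg1⟩ := isConj_iff.mp hq1'
  obtain ⟨g2, hg2⟩ := isConj_iff.mp hq2'
  have ho : ∀ g : G, orderOf (g * t * g⁻¹) = 2 := by
    intro g
    have h4 := (MulAut.conj g).orderOf_eq t
    rw [MulAut.conj_apply] at h4
    rw [h4, ht]
  have ho1 : orderOf q1 = 2 := by rw [← hg1]; exact ho g1
  have ho2 : orderOf q2 = 2 := by rw [← hg2]; exact ho g2
  have hsq1 : q1 * q1 = 1 := by
    have h5 := pow_orderOf_eq_one q1
    rw [ho1, _root_.sq] at h5
    exact h5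
  have hsq2 : q2 * q2 = 1 := by
    have h5 := pow_orderOf_eq_one q2
    rw [ho2, _root_.sq] at h5
    exact h5
  have hq1inv : q1⁻¹ = q1 := inv_eq_of_mul_eq_one_right hsq1
  have hq2inv : q2⁻¹ = q2 := inv_eq_of_mul_eq_one_right hsq2
  refine ⟨q1, ho1, ?_, ?_⟩
  · rw [← hq']
    calc q1 * (q1 * q2) * q1⁻¹ = (q1 * q1) * q2 * q1⁻¹ := by group
      _ = q2 * q1 := by rw [hsq1, one_mul, hq1inv]
      _ = (q1 * q2)⁻¹ := by rw [mul_inv_rev, hq1inv, hq2inv]
  · rw [← hg1, conj_centralizer_card]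
    exact htdiv

end Cfsg.Agent.Lib.Helper99.TSInvEx
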