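import Mathlib
import Cfsg.Agent.Lib.Helper74.WinStmt

/-! S4467 piece MINU: a minimal non-central normal subgroup of a solvable group in which all
abelian normal subgroups are central. -/

set_option autoImplicit false

namespace Cfsg.Agent.Lib.Helper99.WinMINU

open Cfsg Cfsg.Agent.Lib.Helper74.WinStmt

universe u

theorem main : MinU.{u} := by
  intro G _ _ hsol hA hnab
  have hne : ({U : Subgroup G | U.Normal ∧ ¬ U ≤ Subgroup.center G}).Nonempty := by
    refine ⟨⊤, inferInstance, ?_⟩
    obtain ⟨a, b, hab⟩ := hnab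
    intro h
    have h1 := h (Subgroup.mem_top a)
    rw [Subgroup.mem_center_iff] at h1
    exact hab (h1 b).symm
  obtain ⟨U, ⟨hUn, hUnc⟩, hmin⟩ :=
    WellFounded.has_min (wellFounded_lt (α := Subgroup G)) _ hne
  have hmin' : ∀ V : Subgroup G, V.Normal → V < U → V ≤ Subgroup.center G := by
    intro V hV hlt
    by_contra h
    exact hmin V ⟨hV, h⟩ hlt
  haveI := hUn
  haveI := hsol
  have hUbot : U ≠ ⊥ := by
    rintro rfl
    exact hUnc bot_le
  have hDn : (⁅U, U⁆ : Subgroup G).Normal := inferInstance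
  have hDlt : ⁅U, U⁆ < U := Group.IsSolvable.commutator_lt_of_ne_bot hUbot
  have hDc : ⁅U, U⁆ ≤ Subgroup.center G := hmin' _ hDn hDlt
  have hcomm : ∀ a ∈ U, ∀ b ∈ U, a * b * a⁻¹ * b⁻¹ ∈ Subgroup.center G := by
    intro a ha b hb
    have h1 := Subgroup.commutator_mem_commutator ha hb
    rw [commutatorElement_def] at h1
    exact hDc h1
  have hZ : ∀ z ∈ U, (∀ w ∈ U, z * w = w * z) → z ∈ Subgroup.center G := by
    intro z hz hzu
    have hAn : (U ⊓ Subgroup.centralizer (U : Set G)).Normal := by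
      constructor
      intro n hn g
      refine ⟨hUn.conj_mem n hn.1 g, Subgroup.mem_centralizer_iff.mpr ?_⟩
      intro h hh
      have h1 : g⁻¹ * h * g ∈ U := by simpa using hUn.conj_mem h hh g⁻¹
      have h2 := (Subgroup.mem_centralizer_iff.mp hn.2) _ h1
      calc h * (g * n * g⁻¹) = g * ((g⁻¹ * h * g) * n) * g⁻¹ := by group
        _ = g * (n * (g⁻¹ * h * g)) * g⁻¹ := by rw [h2]
        _ = g * n * g⁻¹ * h := by group
    have hAab : ∀ a ∈ U ⊓ Subgroup.centralizer (U : Set G),
        ∀ b ∈ U ⊓ Subgroup.centralizer (U : Set G), a * b = b * a := by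
      intro a ha b hb
      exact (Subgroup.mem_centralizer_iff.mp hb.2) a ha.1
    have hAc := hA _ hAn hAab
    apply hAc
    exact ⟨hz, Subgroup.mem_centralizer_iff.mpr (fun h hh => (hzu h hh).symm)⟩
  -- `U` is nilpotent
  haveI hnil : Group.IsNilpotent ↥U := by
    refine ⟨⟨2, ?_⟩⟩
    rw [eq_top_iff]
    intro a _
    rw [mem_upperCentralSeries_succ_iff]
    intro b
    rw [upperCentralSeries_one, Subgroup.mem_center_iff]
    intro g
    apply Subtype.ext
    have h1 := hcomm a a.2 b b.2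
    have h2 := Subgroup.mem_center_iff.mp h1 (g : G)
    rw [commutatorElement_def]
    exact h2
  obtain ⟨q, hq, P, hPnc⟩ : ∃ q : ℕ, q.Prime ∧ ∃ P : Sylow q ↥U,
      ¬ (P : Subgroup ↥U).map U.subtype ≤ Subgroup.center G := by
    by_contra hcon
    push Not at hcon
    apply hUnc
    have hZ' : (Subgroup.center G).subgroupOf U = ⊤ := by
      by_contra hne'
      have hidx : ((Subgroup.center G).subgroupOf U).index ≠ 1 :=
        fun h => hne' (Subgroup.index_eq_one.mp h)
      obtain ⟨q, hq, hqd⟩ := Nat.exists_prime_and_dvd hidx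
      haveI : Fact q.Prime := ⟨hq⟩
      obtain ⟨P⟩ : Nonempty (Sylow q ↥U) := inferInstance
      have hPle : (P : Subgroup ↥U) ≤ (Subgroup.center G).subgroupOf U := by
        intro g hg
        rw [Subgroup.mem_subgroupOf]
        exact hcon q hq P ⟨g, hg, rfl⟩
      have hdvd := Subgroup.index_dvd_of_le hPle
      exact (Sylow.not_dvd_index P) (hqd.trans hdvd)
    intro g hg
    have h3 : (⟨g, hg⟩ : ↥U) ∈ (Subgroup.center G).subgroupOf U := by rw [hZ']; trivial
    exact Subgroup.mem_subgroupOf.mp h3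
  haveI : Fact q.Prime := ⟨hq⟩
  haveI hPn : (P : Subgroup ↥U).Normal := inferInstance
  haveI hPchar : (P : Subgroup ↥U).Characteristic := Sylow.characteristic_of_normal P hPn
  have hQn : ((P : Subgroup ↥U).map U.subtype).Normal :=
    ConjAct.normal_of_characteristic_of_normal
  have hQle : (P : Subgroup ↥U).map U.subtype ≤ U := by
    rintro _ ⟨g, -, rfl⟩
    exact g.2
  have hQeq : (P : Subgroup ↥U).map U.subtype = U := by
    rcases lt_or_eq_of_le hQle with hlt | heq
    · exact absurd (hmin' _ hQn hlt) hPnc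
    · exact heq
  have hUq : IsPGroup q ↥U := by
    intro g
    have hg : (g : G) ∈ (P : Subgroup ↥U).map U.subtype := by rw [hQeq]; exact g.2
    obtain ⟨g', hg', hgg'⟩ := hg
    have hge : g' = g := Subtype.ext hgg'
    subst hge
    obtain ⟨k, hk⟩ := P.isPGroup' ⟨g', hg'⟩
    refine ⟨k, ?_⟩
    have h4 := congrArg (fun y : ↥(P : Subgroup ↥U) => (y : ↥U)) hk
    simpa using h4
  exact ⟨U, q, hq, hUn, hUq, hUnc, hcomm, hZ⟩

end Cfsg.Agent.Lib.Helper99.WinMINU
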